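import Groth.Agent.L24.Quot.FreeGlue
import Groth.Agent.L24.LocQ.Descent
import Groth.Prelude.Def_Mor2
import Mathlib.AlgebraicGeometry.Sites.Fpqc
import Mathlib.AlgebraicGeometry.Morphisms.Immersion

/-!
# Groupoid schemes with a quasi-section
-/

set_option backward.isDefEq.respectTransparency.types false

universe u

namespace Groth.Agent.L24.Quot

open AlgebraicGeometry CategoryTheory CategoryTheory.Limits Topology TopologicalSpace

variable {S : Scheme.{u}} (G : Grpd.GroupoidScheme S) {U' : Scheme.{u}} (u : U' ⟶ G.U)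

/-- The arrows with target on the section. -/
noncomputable abbrev secV : Scheme.{u} := pullback G.t u

/-- The source map of the arrows with target on the section. -/
noncomputable def secσ : secV G u ⟶ G.U := pullback.fst G.t u ≫ G.s

/-- The arrows with both ends on the section. -/
noncomputable abbrev pullR : Scheme.{u} := pullback (secσ G u) u

/-- The underlying arrow. -/
noncomputable def pullι : pullR G u ⟶ G.R := pullback.fst _ _ ≫ pullback.fst G.t u

/-- The target. -/
noncomputable def pullT : pullR G u ⟶ U' := pullback.fst _ _ ≫ pullback.snd G.t u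

/-- The source. -/
noncomputable def pullS : pullR G u ⟶ U' := pullback.snd _ _

@[reassoc]
theorem pullι_t : pullι G u ≫ G.t = pullT G u ≫ u := by
  simp only [pullι, pullT, Category.assoc, pullback.condition]

@[reassoc]
theorem pullι_s : pullι G u ≫ G.s = pullS G u ≫ u := by
  rw [pullι, Category.assoc]
  exact pullback.condition

@[reassoc]
theorem secσ_def : pullback.fst G.t u ≫ G.s = secσ G u := rfl

section

variable {G u} {T : Scheme.{u}} (a : T ⟶ G.R) (x y : T ⟶ U')
  (hx : a ≫ G.t = x ≫ u) (hy : a ≫ G.s = y ≫ u)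

/-- A point of the arrows on the section. -/
noncomputable def mkR : T ⟶ pullR G u :=
  pullback.lift (pullback.lift a x hx) y (by rw [secσ, pullback.lift_fst_assoc, hy])

@[reassoc (attr := simp)]
theorem mkR_ι : mkR a x y hx hy ≫ pullι G u = a := by
  rw [mkR, pullι, pullback.lift_fst_assoc, pullback.lift_fst]

@[reassoc (attr := simp)]
theorem mkR_t : mkR a x y hx hy ≫ pullT G u = x := by
  rw [mkR, pullT, pullback.lift_fst_assoc, pullback.lift_snd]

@[reassoc (attr := simp)]
theorem mkR_s : mkR a x y hx hy ≫ pullS G u = y := by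
  rw [mkR, pullS, pullback.lift_snd]

end

variable [Mono u]

theorem pullR_ext {T : Scheme.{u}} {r r' : T ⟶ pullR G u} (h : r ≫ pullι G u = r' ≫ pullι G u) :
    r = r' := by
  have ht : r ≫ pullT G u = r' ≫ pullT G u := by
    rw [← cancel_mono u, Category.assoc, Category.assoc, ← pullι_t, reassoc_of% h]
  have hs : r ≫ pullS G u = r' ≫ pullS G u := by
    rw [← cancel_mono u, Category.assoc, Category.assoc, ← pullι_s, reassoc_of% h]
  apply pullback.hom_ext
  · apply pullback.hom_ext
    · simpa [pullι] using h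
    · simpa [pullT] using ht
  · exact hs

theorem ι_lift_cond {T : Scheme.{u}} {α β : T ⟶ pullR G u} (h : α ≫ pullS G u = β ≫ pullT G u) :
    (α ≫ pullι G u) ≫ G.s = (β ≫ pullι G u) ≫ G.t := by
  rw [Category.assoc, Category.assoc, pullι_s, pullι_t, reassoc_of% h]

/-- The composition. -/
noncomputable def pullC : pullback (pullS G u) (pullT G u) ⟶ pullR G u :=
  mkR (pullback.lift (pullback.fst _ _ ≫ pullι G u) (pullback.snd _ _ ≫ pullι G u)
      (ι_lift_cond G u pullback.condition) ≫ G.c)
    (pullback.fst _ _ ≫ pullT G u) (pullback.snd _ _ ≫ pullS G u)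
    (by rw [G.comp_t]; simp only [Category.assoc, pullι_t])
    (by rw [G.comp_s]; simp only [Category.assoc, pullι_s])

theorem lift_pullC {T : Scheme.{u}} (α β : T ⟶ pullR G u) (h : α ≫ pullS G u = β ≫ pullT G u) :
    (pullback.lift α β h ≫ pullC G u) ≫ pullι G u =
      pullback.lift (α ≫ pullι G u) (β ≫ pullι G u) (ι_lift_cond G u h) ≫ G.c := by
  rw [Category.assoc, pullC, mkR_ι, ← Category.assoc]
  congr 1
  apply pullback.hom_ext
  · rw [Category.assoc, pullback.lift_fst, pullback.lift_fst, pullback.lift_fst_assoc]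
  · rw [Category.assoc, pullback.lift_snd, pullback.lift_snd, pullback.lift_snd_assoc]

/-- The groupoid induced on a monomorphism into the objects. -/
noncomputable def pullGrpd : Grpd.GroupoidScheme S where
  U := U'
  R := pullR G u
  pU := u ≫ G.pU
  pR := pullι G u ≫ G.pR
  s := pullS G u
  t := pullT G u
  e := mkR (u ≫ G.e) (𝟙 _) (𝟙 _) (by rw [Category.assoc, G.e_t, Category.comp_id, Category.id_comp])
    (by rw [Category.assoc, G.e_s, Category.comp_id, Category.id_comp])
  i := mkR (pullι G u ≫ G.i) (pullS G u) (pullT G u) (by rw [Category.assoc, G.i_t, pullι_s])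
    (by rw [Category.assoc, G.i_s, pullι_t])
  c := pullC G u
  s_over := by rw [← Category.assoc, ← pullι_s, Category.assoc, G.s_over]
  t_over := by rw [← Category.assoc, ← pullι_t, Category.assoc, G.t_over]
  comp_s α β h := by rw [Category.assoc, pullC, mkR_s, pullback.lift_snd_assoc]
  comp_t α β h := by rw [Category.assoc, pullC, mkR_t, pullback.lift_fst_assoc]
  assoc α β γ h₁ h₂ := by
    apply pullR_ext
    simp only [lift_pullC]
    exact G.assoc _ _ _ (ι_lift_cond G u h₁) (ι_lift_cond G u h₂)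
  e_s := mkR_s _ _ _ _ _
  e_t := mkR_t _ _ _ _ _
  comp_e α := by
    apply pullR_ext
    rw [lift_pullC]
    convert G.comp_e (α ≫ pullι G u) using 3
    simp only [Category.assoc, mkR_ι]
    rw [← reassoc_of% (pullι_s G u)]
  e_comp α := by
    apply pullR_ext
    rw [lift_pullC]
    convert G.e_comp (α ≫ pullι G u) using 3
    simp only [Category.assoc, mkR_ι]
    rw [← reassoc_of% (pullι_t G u)]
  i_s := mkR_s _ _ _ _ _
  i_t := mkR_t _ _ _ _ _
  comp_i α := by
    apply pullR_ext
    rw [lift_pullC]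
    simp only [Category.assoc, mkR_ι]
    rw [← reassoc_of% (pullι_t G u)]
    simpa only [Category.assoc] using G.comp_i (α ≫ pullι G u)
  i_comp α := by
    apply pullR_ext
    rw [lift_pullC]
    simp only [Category.assoc, mkR_ι]
    rw [← reassoc_of% (pullι_s G u)]
    simpa only [Category.assoc] using G.i_comp (α ≫ pullι G u)

theorem mono_pullGrpd_j [Mono G.j] : Mono (pullGrpd G u).j := by
  constructor
  intro T (r : T ⟶ pullR G u) (r' : T ⟶ pullR G u) h
  apply pullR_ext
  rw [← cancel_mono G.j]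
  have h1 := h =≫ pullback.fst _ _
  have h2 := h =≫ pullback.snd _ _
  simp only [Grpd.GroupoidScheme.j, Category.assoc, pullback.lift_fst, pullback.lift_snd] at h1 h2
  change r ≫ pullT G u = r' ≫ pullT G u at h1
  change r ≫ pullS G u = r' ≫ pullS G u at h2
  apply pullback.hom_ext
  · simp only [Grpd.GroupoidScheme.j, Category.assoc, pullback.lift_fst, pullι_t]
    rw [reassoc_of% h1]
  · simp only [Grpd.GroupoidScheme.j, Category.assoc, pullback.lift_snd, pullι_s]
    rw [reassoc_of% h2]

theorem rel_pullGrpd {x y : (pullGrpd G u).U} (h : Rel (pullGrpd G u) x y) :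
    ∃ r : G.R, G.t r = u y ∧ G.s r = u x := by
  obtain ⟨r, rfl, rfl⟩ := h
  exact ⟨pullι G u r, by
    rw [← Scheme.Hom.comp_apply, pullι_t]; rfl, by
    rw [← Scheme.Hom.comp_apply, pullι_s]; rfl⟩

omit [Mono u] in
/-- Two points of the cover over the ends of an arrow have equal images in an invariant target. -/
theorem key {Y : Scheme.{u}} {q : U' ⟶ Y} (hq : pullT G u ≫ q = pullS G u ≫ q) {T : Scheme.{u}}
    (v₁ v₂ : T ⟶ secV G u) (r : T ⟶ G.R) (h₁ : r ≫ G.t = v₁ ≫ secσ G u)
    (h₂ : r ≫ G.s = v₂ ≫ secσ G u) :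
    v₁ ≫ pullback.snd G.t u ≫ q = v₂ ≫ pullback.snd G.t u ≫ q := by
  let w₁ := v₁ ≫ pullback.fst G.t u
  let w₂ := (v₂ ≫ pullback.fst G.t u) ≫ G.i
  have hw : w₁ ≫ G.s = r ≫ G.t := by rw [h₁]; simp [w₁, secσ_def]
  let a := pullback.lift w₁ r hw ≫ G.c
  have has : a ≫ G.s = w₂ ≫ G.t := by
    rw [G.comp_s, h₂]; simp [w₂, G.i_t, secσ_def]
  let b := pullback.lift a w₂ has ≫ G.c
  have hbt : b ≫ G.t = (v₁ ≫ pullback.snd G.t u) ≫ u := by
    rw [G.comp_t, G.comp_t]; simp [w₁, pullback.condition]
  have hbs : b ≫ G.s = (v₂ ≫ pullback.snd G.t u) ≫ u := by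
    rw [G.comp_s]; simp [w₂, G.i_s, pullback.condition]
  have h := mkR b _ _ hbt hbs ≫= hq
  rw [mkR_t_assoc, mkR_s_assoc, Category.assoc, Category.assoc] at h
  exact h

section Main

variable (hσf : Mor2.IsFinLocFree (secσ G u)) (hσs : Surjective (secσ G u))
  (h2 : ∀ E : Set U', (∀ x ∈ E, ∀ y ∈ E, ∃ r : G.R, G.t r = u x ∧ G.s r = u y) →
    ∃ W : U'.Opens, IsAffineOpen W ∧ E ⊆ (W : Set U'))

include h2 in
theorem orbit_affine (x : (pullGrpd G u).U) :
    ∃ V : (pullGrpd G u).U.Opens, IsAffineOpen V ∧ ∀ y, Rel (pullGrpd G u) x y → y ∈ V := by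
  obtain ⟨W, hW, hE⟩ := h2 {y | Rel (pullGrpd G u) x y} fun a ha b hb =>
    rel_pullGrpd G u (rel_trans _ (rel_symm _ hb) ha)
  exact ⟨W, hW, hE⟩

include hσf hσs h2 in
/-- The quotient by a quasi-section, with its restriction to the section integral. -/
theorem exists_quotient_of_quasiSection' :
    ∃ (Y : Scheme.{u}) (p : G.U ⟶ Y) (w : G.t ≫ p = G.s ≫ p),
      Nonempty (IsColimit (Cofork.ofπ p w)) ∧ IsIntegralHom (u ≫ p) ∧ Surjective p ∧
      (IsOpenMap G.t.base → IsOpenMap p.base) ∧ (UniversallyClosed G.t → UniversallyClosed p) ∧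
      Function.Surjective (pullback.lift G.t G.s w).base ∧
      (Mono G.j → IsPullback G.t G.s p p ∧ (Flat G.t → Flat p)) := by
  obtain ⟨_, _, _⟩ := hσf
  haveI : IsFinite (pullGrpd G u).s := inferInstanceAs (IsFinite (pullback.snd (secσ G u) u))
  haveI : Flat (pullGrpd G u).s := inferInstanceAs (Flat (pullback.snd (secσ G u) u))
  haveI : LocallyOfFinitePresentation (pullGrpd G u).s :=
    inferInstanceAs (LocallyOfFinitePresentation (pullback.snd (secσ G u) u))
  have horb := orbit_affine G u h2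
  obtain ⟨Y, q, wq, ⟨hcol⟩, hqi, hqs, hqo, -, hqsurj, -, -⟩ := exists_quotient (G := pullGrpd G u) horb
  change U' ⟶ Y at q
  change pullT G u ≫ q = pullS G u ≫ q at wq
  let τ : secV G u ⟶ U' := pullback.snd G.t u
  have hdesc : ∀ {Z : Scheme.{u}} (g₁ g₂ : Z ⟶ secV G u), g₁ ≫ secσ G u = g₂ ≫ secσ G u →
      g₁ ≫ τ ≫ q = g₂ ≫ τ ≫ q := fun g₁ g₂ hg =>
    key G u wq g₁ g₂ ((g₁ ≫ secσ G u) ≫ G.e) (by rw [Category.assoc, G.e_t, Category.comp_id])
      (by rw [Category.assoc, G.e_s, Category.comp_id, hg])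
  obtain ⟨p, hp⟩ : ∃ p : G.U ⟶ Y, secσ G u ≫ p = τ ≫ q :=
    ⟨EffectiveEpi.desc (secσ G u) (τ ≫ q) hdesc, EffectiveEpi.fac _ _ _⟩
  have hup : u ≫ p = q := by
    let e' : U' ⟶ secV G u :=
      pullback.lift (u ≫ G.e) (𝟙 _) (by rw [Category.assoc, G.e_t, Category.comp_id, Category.id_comp])
    have h := e' ≫= hp
    simp only [e', τ, secσ, pullback.lift_fst_assoc, pullback.lift_snd_assoc, Category.assoc,
      reassoc_of% G.e_s, Category.id_comp] at h
    exact h
  have w : G.t ≫ p = G.s ≫ p := by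
    let c₁ : pullback G.t (secσ G u) ⟶ G.R := pullback.fst _ _
    let c₂ : pullback (c₁ ≫ G.s) (secσ G u) ⟶ pullback G.t (secσ G u) := pullback.fst _ _
    haveI : Surjective c₁ := MorphismProperty.pullback_fst (P := @Surjective) _ _ hσs
    haveI : Surjective c₂ := MorphismProperty.pullback_fst (P := @Surjective) _ _ hσs
    haveI : Flat c₁ := inferInstanceAs (Flat (pullback.fst _ _))
    haveI : Flat c₂ := inferInstanceAs (Flat (pullback.fst _ _))
    haveI : QuasiCompact c₁ := inferInstanceAs (QuasiCompact (pullback.fst _ _))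
    haveI : QuasiCompact c₂ := inferInstanceAs (QuasiCompact (pullback.fst _ _))
    rw [← cancel_epi c₁, ← cancel_epi c₂]
    have e₁ : c₁ ≫ G.t = pullback.snd _ _ ≫ secσ G u := pullback.condition
    have e₂ : c₂ ≫ c₁ ≫ G.s = pullback.snd _ _ ≫ secσ G u := pullback.condition
    rw [reassoc_of% e₁, reassoc_of% e₂, hp]
    exact key G u wq (c₂ ≫ pullback.snd _ _) (pullback.snd _ _) (c₂ ≫ c₁)
      (by simp only [Category.assoc, e₁]) (by simp only [Category.assoc, e₂])
  have hps : Surjective p := by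
    haveI : Surjective (u ≫ p) := hup ▸ hqs
    exact Surjective.of_comp u p
  refine ⟨Y, p, w, ⟨?_⟩, hup ▸ hqi, hps, fun ht O hO => ?_, fun ht => ?_, ?_, fun hj => ?_⟩
  · refine Cofork.IsColimit.mk' _ fun c => ?_
    have hc : G.t ≫ c.π = G.s ≫ c.π := c.condition
    have hc' : (pullGrpd G u).t ≫ (u ≫ c.π) = (pullGrpd G u).s ≫ (u ≫ c.π) := by
      show pullT G u ≫ u ≫ c.π = pullS G u ≫ u ≫ c.π
      rw [← reassoc_of% (pullι_t G u), ← reassoc_of% (pullι_s G u), hc]
    obtain ⟨h, hh⟩ := Cofork.IsColimit.desc' hcol (u ≫ c.π) hc'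
    change q ≫ h = u ≫ c.π at hh
    refine ⟨h, ?_, fun {m} hm => ?_⟩
    · show p ≫ h = c.π
      rw [← cancel_epi (secσ G u), reassoc_of% hp, hh]
      simp only [τ, secσ, Category.assoc, ← pullback.condition_assoc, hc]
    · change p ≫ m = c.π at hm
      apply Cofork.IsColimit.hom_ext hcol
      show q ≫ m = q ≫ h
      rw [hh, ← hup, Category.assoc, hm]
  · have : p.base '' O = q.base '' (u.base ⁻¹' (G.t.base '' (G.s.base ⁻¹' O))) := by
      ext y
      constructor
      · rintro ⟨x, hx, rfl⟩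
        obtain ⟨v, rfl⟩ := hσs.surj x
        refine ⟨τ v, ⟨pullback.fst G.t u v, hx, ?_⟩, ?_⟩
        · rw [← Scheme.Hom.comp_apply, pullback.condition]; rfl
        · rw [← Scheme.Hom.comp_apply, ← hp]; rfl
      · rintro ⟨x', ⟨r, hr, hrx⟩, rfl⟩
        refine ⟨G.s r, hr, ?_⟩
        rw [← Scheme.Hom.comp_apply, ← w, Scheme.Hom.comp_apply, ← hup, Scheme.Hom.comp_apply]
        exact congrArg p hrx
    rw [this]
    exact hqo _ ((ht _ (hO.preimage G.s.continuous)).preimage u.continuous)
  · haveI : UniversallyClosed τ := MorphismProperty.pullback_snd (P := @UniversallyClosed) _ _ ht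
    haveI : IsIntegralHom q := hqi
    haveI : UniversallyClosed q := inferInstance
    haveI : UniversallyClosed (secσ G u ≫ p) := hp ▸ inferInstance
    haveI := hσs
    exact UniversallyClosed.of_comp_surjective (secσ G u) p
  · intro z
    haveI := hσs
    obtain ⟨z₁, hz₁⟩ := (MorphismProperty.pullback_snd (P := @Surjective) (secσ G u) (pullback.fst p p) hσs).surj z
    let m := pullback.snd (secσ G u) (pullback.fst p p) ≫ pullback.snd p p
    obtain ⟨z₂, hz₂⟩ := (MorphismProperty.pullback_snd (P := @Surjective) (secσ G u) m hσs).surj z₁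
    let v₁ := pullback.snd (secσ G u) m ≫ pullback.fst (secσ G u) (pullback.fst p p)
    let v₂ := pullback.fst (secσ G u) m
    have e₁ : v₁ ≫ secσ G u = pullback.snd (secσ G u) m ≫ pullback.snd (secσ G u) (pullback.fst p p) ≫
        pullback.fst p p := by rw [Category.assoc, pullback.condition]
    have e₂ : v₂ ≫ secσ G u = pullback.snd (secσ G u) m ≫ m := pullback.condition
    have hτ : (v₁ ≫ τ) ≫ q = (v₂ ≫ τ) ≫ q := by
      simp only [Category.assoc, ← hp]
      rw [reassoc_of% e₁, reassoc_of% e₂]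
      simp [m, pullback.condition]
    let wp := pullback.lift (v₁ ≫ τ) (v₂ ≫ τ) hτ
    obtain ⟨r', hr'⟩ := hqsurj (wp z₂)
    obtain ⟨z₃, hz₃, hz₃'⟩ := Scheme.Pullback.exists_preimage_pullback
      (f := pullback.lift (pullT G u) (pullS G u) wq) (g := wp) r' z₂ hr'
    let Q := pullback (pullback.lift (pullT G u) (pullS G u) wq) wp
    let ρ : Q ⟶ pullR G u := pullback.fst _ _
    let π : Q ⟶ _ := pullback.snd (pullback.lift (pullT G u) (pullS G u) wq) wp
    have hρt : ρ ≫ pullT G u = π ≫ v₁ ≫ τ := by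
      have := (pullback.condition (f := pullback.lift (pullT G u) (pullS G u) wq) (g := wp)) =≫ pullback.fst q q
      simpa only [wp, ρ, π, Category.assoc, pullback.lift_fst, pullback.lift_snd] using this
    have hρs : ρ ≫ pullS G u = π ≫ v₂ ≫ τ := by
      have := (pullback.condition (f := pullback.lift (pullT G u) (pullS G u) wq) (g := wp)) =≫ pullback.snd q q
      simpa only [wp, ρ, π, Category.assoc, pullback.lift_fst, pullback.lift_snd] using this
    let a₁ := (π ≫ v₁ ≫ pullback.fst G.t u) ≫ G.i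
    have ha₁ : a₁ ≫ G.s = (ρ ≫ pullι G u) ≫ G.t := by
      simp only [a₁, Category.assoc, G.i_s, pullι_t, reassoc_of% hρt, τ, pullback.condition]
    let b := pullback.lift a₁ (ρ ≫ pullι G u) ha₁ ≫ G.c
    have hb : b ≫ G.s = (π ≫ v₂ ≫ pullback.fst G.t u) ≫ G.t := by
      rw [G.comp_s]
      simp only [Category.assoc, pullι_s, reassoc_of% hρs, τ, pullback.condition]
    let r := pullback.lift b (π ≫ v₂ ≫ pullback.fst G.t u) hb ≫ G.c
    refine ⟨r z₃, ?_⟩
    have hr : r ≫ pullback.lift G.t G.s w =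
        π ≫ pullback.snd (secσ G u) m ≫ pullback.snd (secσ G u) (pullback.fst p p) := by
      apply pullback.hom_ext
      · rw [Category.assoc, pullback.lift_fst, G.comp_t, G.comp_t]
        simp only [a₁, Category.assoc, G.i_t]
        rw [show v₁ ≫ pullback.fst G.t u ≫ G.s = _ from e₁]
      · rw [Category.assoc, pullback.lift_snd, G.comp_s]
        simp only [Category.assoc]
        rw [show v₂ ≫ pullback.fst G.t u ≫ G.s = _ from e₂]
    show pullback.lift G.t G.s w (r z₃) = z
    rw [← Scheme.Hom.comp_apply, hr, Scheme.Hom.comp_apply, Scheme.Hom.comp_apply,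
      show π z₃ = z₂ from hz₃', hz₂, hz₁]
  · haveI := mono_pullGrpd_j G u
    obtain ⟨Y₀, q₀, wq₀, ⟨hcol₀⟩, hpb₀, hf₀, hflat₀, -⟩ := exists_free_quotient (pullGrpd G u) horb
    let eY : Y₀ ≅ Y := hcol₀.coconePointUniqueUpToIso hcol
    have heY : q₀ ≫ eY.hom = q := hcol₀.comp_coconePointUniqueUpToIso_hom hcol WalkingParallelPair.one
    have hpbq : IsPullback (pullT G u) (pullS G u) q q :=
      IsPullback.of_iso hpb₀ (Iso.refl _) (Iso.refl _) (Iso.refl _) eY (by simp; rfl) (by simp; rfl)
        (heY.trans (Category.id_comp q).symm) (heY.trans (Category.id_comp q).symm)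
    haveI : Flat q := by
      have h₀ : Flat (q₀ ≫ eY.hom) := (MorphismProperty.cancel_right_of_respectsIso (P := @Flat) q₀ eY.hom).2 hflat₀
      rw [← heY]; exact h₀
    refine ⟨?_, fun ht => ?_⟩
    · have hjc : ∀ {T : Scheme.{u}} (r r' : T ⟶ G.R), r ≫ G.t = r' ≫ G.t → r ≫ G.s = r' ≫ G.s → r = r' := by
        intro T r r' h₁ h₂
        rw [← cancel_mono G.j]
        apply pullback.hom_ext <;>
          simp only [Grpd.GroupoidScheme.j, Category.assoc, pullback.lift_fst, pullback.lift_snd] <;> assumption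
      haveI := hσs
      let c₁ : pullback (secσ G u) (pullback.fst p p) ⟶ pullback p p := pullback.snd _ _
      let m := c₁ ≫ pullback.snd p p
      let c₂ : pullback (secσ G u) m ⟶ pullback (secσ G u) (pullback.fst p p) := pullback.snd _ _
      haveI : Surjective c₁ := MorphismProperty.pullback_snd (P := @Surjective) _ _ hσs
      haveI : Surjective c₂ := MorphismProperty.pullback_snd (P := @Surjective) _ _ hσs
      haveI : Flat c₁ := inferInstanceAs (Flat (pullback.snd _ _))
      haveI : Flat c₂ := inferInstanceAs (Flat (pullback.snd _ _))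
      haveI : QuasiCompact c₁ := inferInstanceAs (QuasiCompact (pullback.snd _ _))
      haveI : QuasiCompact c₂ := inferInstanceAs (QuasiCompact (pullback.snd _ _))
      let v₁ := c₂ ≫ pullback.fst (secσ G u) (pullback.fst p p)
      let v₂ := pullback.fst (secσ G u) m
      have e₁ : v₁ ≫ secσ G u = (c₂ ≫ c₁) ≫ pullback.fst p p := by
        simp only [v₁, c₁, Category.assoc, pullback.condition]
      have e₂ : v₂ ≫ secσ G u = (c₂ ≫ c₁) ≫ pullback.snd p p := by
        rw [Category.assoc]; exact pullback.condition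
      have hτ : (v₁ ≫ τ) ≫ q = (v₂ ≫ τ) ≫ q := by
        simp only [Category.assoc, ← hp]
        rw [reassoc_of% e₁, reassoc_of% e₂]
        simp [pullback.condition]
      let ρ := hpbq.lift _ _ hτ
      have hρt : ρ ≫ pullT G u = v₁ ≫ τ := hpbq.lift_fst _ _ _
      have hρs : ρ ≫ pullS G u = v₂ ≫ τ := hpbq.lift_snd _ _ _
      let a₁ := (v₁ ≫ pullback.fst G.t u) ≫ G.i
      have ha₁ : a₁ ≫ G.s = (ρ ≫ pullι G u) ≫ G.t := by
        simp only [a₁, Category.assoc, G.i_s, pullι_t, reassoc_of% hρt, τ, pullback.condition]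
      let b := pullback.lift a₁ (ρ ≫ pullι G u) ha₁ ≫ G.c
      have hb : b ≫ G.s = (v₂ ≫ pullback.fst G.t u) ≫ G.t := by
        rw [G.comp_s]
        simp only [Category.assoc, pullι_s, reassoc_of% hρs, τ, pullback.condition]
      let r₀ := pullback.lift b (v₂ ≫ pullback.fst G.t u) hb ≫ G.c
      have hr₀t : r₀ ≫ G.t = (c₂ ≫ c₁) ≫ pullback.fst p p := by
        rw [G.comp_t, G.comp_t]
        simp only [a₁, Category.assoc, G.i_t]
        rw [← Category.assoc c₂]
        exact e₁
      have hr₀s : r₀ ≫ G.s = (c₂ ≫ c₁) ≫ pullback.snd p p := by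
        rw [G.comp_s, Category.assoc]
        exact e₂
      haveI : Surjective (c₂ ≫ c₁) := inferInstance
      obtain ⟨rr, hrr⟩ : ∃ rr, (c₂ ≫ c₁) ≫ rr = r₀ :=
        ⟨EffectiveEpi.desc (c₂ ≫ c₁) r₀ (fun g₁ g₂ hg => hjc _ _
          (by simp only [Category.assoc, hr₀t]; simp only [← Category.assoc]; rw [Category.assoc g₁, hg]; simp)
          (by simp only [Category.assoc, hr₀s]; simp only [← Category.assoc]; rw [Category.assoc g₁, hg]; simp)),
          EffectiveEpi.fac _ _ _⟩
      have h₁ : rr ≫ G.t = pullback.fst p p := by rw [← cancel_epi (c₂ ≫ c₁), ← Category.assoc, hrr, hr₀t]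
      have h₂' : rr ≫ G.s = pullback.snd p p := by rw [← cancel_epi (c₂ ≫ c₁), ← Category.assoc, hrr, hr₀s]
      exact .of_isLimit (PullbackCone.IsLimit.mk w (fun c => pullback.lift c.fst c.snd c.condition ≫ rr)
        (fun c => by rw [Category.assoc, h₁, pullback.lift_fst])
        (fun c => by rw [Category.assoc, h₂', pullback.lift_snd])
        (fun c n hn₁ hn₂ => hjc _ _
          (by rw [hn₁, Category.assoc, h₁, pullback.lift_fst])
          (by rw [hn₂, Category.assoc, h₂', pullback.lift_snd])))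
    · haveI := ht
      haveI := hσs
      haveI : Flat τ := inferInstanceAs (Flat (pullback.snd G.t u))
      have hf : Flat (secσ G u ≫ p) := by rw [hp]; infer_instance
      exact Groth.L24.LocQ.flat_of_comp_surjective (secσ G u) p hf

include hσf hσs h2 in
theorem exists_quotient_of_quasiSection :
    ∃ (Y : Scheme.{u}) (p : G.U ⟶ Y) (w : G.t ≫ p = G.s ≫ p),
      Nonempty (IsColimit (Cofork.ofπ p w)) ∧ Surjective p ∧
      (IsOpenMap G.t.base → IsOpenMap p.base) ∧ (UniversallyClosed G.t → UniversallyClosed p) ∧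
      Function.Surjective (pullback.lift G.t G.s w).base ∧
      (Mono G.j → IsPullback G.t G.s p p ∧ (Flat G.t → Flat p)) := by
  obtain ⟨Y, p, w, h, -, h'⟩ := exists_quotient_of_quasiSection' G u hσf hσs h2
  exact ⟨Y, p, w, h, h'⟩

end Main

end Groth.Agent.L24.Quot
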