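import Groth.Agent.L24.Quot.OfGroupoid

/-!
# Restriction of a groupoid scheme to an invariant open
-/

set_option backward.isDefEq.respectTransparency.types false

universe u

namespace Groth.Agent.L24.Quot

open AlgebraicGeometry CategoryTheory CategoryTheory.Limits

variable {S : Scheme.{u}} (G : Grpd.GroupoidScheme S) (W : G.U.Opens) (hW : G.s ⁻¹ᵁ W = G.t ⁻¹ᵁ W)

/-- Source of the restriction. -/
noncomputable def sW : (G.s ⁻¹ᵁ W).toScheme ⟶ W.toScheme := G.s ∣_ W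

/-- Target of the restriction. -/
noncomputable def tW : (G.s ⁻¹ᵁ W).toScheme ⟶ W.toScheme := G.t.resLE W (G.s ⁻¹ᵁ W) hW.le

@[reassoc (attr := simp)]
theorem sW_ι : sW G W ≫ W.ι = (G.s ⁻¹ᵁ W).ι ≫ G.s := morphismRestrict_ι _ _

@[reassoc (attr := simp)]
theorem tW_ι : tW G W hW ≫ W.ι = (G.s ⁻¹ᵁ W).ι ≫ G.t := Scheme.Hom.resLE_comp_ι _ _

/-- The arrow map of composable pairs. -/
noncomputable def pairW : pullback (sW G W) (tW G W hW) ⟶ pullback G.s G.t :=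
  pullback.map _ _ _ _ (G.s ⁻¹ᵁ W).ι (G.s ⁻¹ᵁ W).ι W.ι (sW_ι G W) (tW_ι G W hW)

theorem range_pairW_c : Set.range (pairW G W hW ≫ G.c) ⊆ Set.range (G.s ⁻¹ᵁ W).ι := by
  rintro _ ⟨z, rfl⟩
  rw [Scheme.Opens.range_ι]
  show G.s ((pairW G W hW ≫ G.c) z) ∈ W
  have h : (pairW G W hW ≫ G.c) ≫ G.s = (pullback.snd (sW G W) (tW G W hW) ≫ sW G W) ≫ W.ι := by
    rw [Category.assoc, c_s, pairW, pullback.map, pullback.lift_snd_assoc, Category.assoc, Category.assoc, sW_ι]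
  rw [← Scheme.Hom.comp_apply, h, Scheme.Hom.comp_apply]
  exact ((pullback.snd (sW G W) (tW G W hW) ≫ sW G W) z).2

/-- Composition of the restriction. -/
noncomputable def cW : pullback (sW G W) (tW G W hW) ⟶ (G.s ⁻¹ᵁ W).toScheme :=
  IsOpenImmersion.lift (G.s ⁻¹ᵁ W).ι (pairW G W hW ≫ G.c) (range_pairW_c G W hW)

@[reassoc]
theorem cW_ι : cW G W hW ≫ (G.s ⁻¹ᵁ W).ι = pairW G W hW ≫ G.c := IsOpenImmersion.lift_fac _ _ _

theorem ι_comm {T : Scheme.{u}} {α β : T ⟶ (G.s ⁻¹ᵁ W).toScheme}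
    (h : α ≫ sW G W = β ≫ tW G W hW) :
    (α ≫ (G.s ⁻¹ᵁ W).ι) ≫ G.s = (β ≫ (G.s ⁻¹ᵁ W).ι) ≫ G.t := by
  rw [Category.assoc, Category.assoc, ← sW_ι, ← tW_ι G W hW, reassoc_of% h]

@[reassoc]
theorem lift_cW_ι {T : Scheme.{u}} (α β : T ⟶ (G.s ⁻¹ᵁ W).toScheme)
    (h : α ≫ sW G W = β ≫ tW G W hW) :
    (pullback.lift α β h ≫ cW G W hW) ≫ (G.s ⁻¹ᵁ W).ι =
      pullback.lift (α ≫ (G.s ⁻¹ᵁ W).ι) (β ≫ (G.s ⁻¹ᵁ W).ι) (ι_comm G W hW h) ≫ G.c := by
  rw [Category.assoc, cW_ι, ← Category.assoc]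
  congr 1
  apply pullback.hom_ext <;>
    simp only [pairW, pullback.map, Category.assoc, pullback.lift_fst, pullback.lift_snd, pullback.lift_fst_assoc, pullback.lift_snd_assoc]

theorem range_e : Set.range (W.ι ≫ G.e) ⊆ Set.range (G.s ⁻¹ᵁ W).ι := by
  rintro _ ⟨z, rfl⟩
  rw [Scheme.Opens.range_ι]
  show G.s ((W.ι ≫ G.e) z) ∈ W
  rw [← Scheme.Hom.comp_apply, Category.assoc, G.e_s, Category.comp_id]
  exact z.2

include hW in
theorem range_i : Set.range ((G.s ⁻¹ᵁ W).ι ≫ G.i) ⊆ Set.range (G.s ⁻¹ᵁ W).ι := by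
  rintro _ ⟨z, rfl⟩
  rw [Scheme.Opens.range_ι]
  show G.s (((G.s ⁻¹ᵁ W).ι ≫ G.i) z) ∈ W
  rw [← Scheme.Hom.comp_apply, Category.assoc, G.i_s, Scheme.Hom.comp_apply]
  exact hW.le z.2

/-- The restriction of a groupoid to an invariant open. -/
noncomputable def restrict : Grpd.GroupoidScheme S where
  U := W.toScheme
  R := (G.s ⁻¹ᵁ W).toScheme
  pU := W.ι ≫ G.pU
  pR := (G.s ⁻¹ᵁ W).ι ≫ G.pR
  s := sW G W
  t := tW G W hW
  e := IsOpenImmersion.lift (G.s ⁻¹ᵁ W).ι (W.ι ≫ G.e) (range_e G W)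
  i := IsOpenImmersion.lift (G.s ⁻¹ᵁ W).ι ((G.s ⁻¹ᵁ W).ι ≫ G.i) (range_i G W hW)
  c := cW G W hW
  s_over := by rw [sW_ι_assoc, G.s_over]
  t_over := by rw [tW_ι_assoc, G.t_over]
  comp_s α β h := by
    rw [← cancel_mono W.ι, Category.assoc, sW_ι, ← Category.assoc, lift_cW_ι, G.comp_s,
      Category.assoc, Category.assoc, sW_ι]
  comp_t α β h := by
    rw [← cancel_mono W.ι, Category.assoc, tW_ι, ← Category.assoc, lift_cW_ι, G.comp_t,
      Category.assoc, Category.assoc, tW_ι]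
  assoc α β γ h₁ h₂ := by
    rw [← cancel_mono (G.s ⁻¹ᵁ W).ι]
    simp only [lift_cW_ι]
    exact G.assoc _ _ _ (ι_comm G W hW h₁) (ι_comm G W hW h₂)
  e_s := by rw [← cancel_mono W.ι, Category.assoc, sW_ι, IsOpenImmersion.lift_fac_assoc, Category.assoc,
    G.e_s, Category.id_comp, Category.comp_id]
  e_t := by rw [← cancel_mono W.ι, Category.assoc, tW_ι, IsOpenImmersion.lift_fac_assoc, Category.assoc,
    G.e_t, Category.id_comp, Category.comp_id]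
  comp_e α := by
    rw [← cancel_mono (G.s ⁻¹ᵁ W).ι, lift_cW_ι]
    simp only [Category.assoc, IsOpenImmersion.lift_fac, sW_ι_assoc]
    simpa only [Category.assoc] using G.comp_e (α ≫ (G.s ⁻¹ᵁ W).ι)
  e_comp α := by
    rw [← cancel_mono (G.s ⁻¹ᵁ W).ι, lift_cW_ι]
    simp only [Category.assoc, IsOpenImmersion.lift_fac, tW_ι_assoc]
    simpa only [Category.assoc] using G.e_comp (α ≫ (G.s ⁻¹ᵁ W).ι)
  i_s := by rw [← cancel_mono W.ι, Category.assoc, sW_ι, IsOpenImmersion.lift_fac_assoc, Category.assoc,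
    G.i_s, tW_ι]
  i_t := by rw [← cancel_mono W.ι, Category.assoc, tW_ι, IsOpenImmersion.lift_fac_assoc, Category.assoc,
    G.i_t, sW_ι]
  comp_i α := by
    rw [← cancel_mono (G.s ⁻¹ᵁ W).ι, lift_cW_ι]
    simp only [Category.assoc, IsOpenImmersion.lift_fac, tW_ι_assoc]
    simpa only [Category.assoc] using G.comp_i (α ≫ (G.s ⁻¹ᵁ W).ι)
  i_comp α := by
    rw [← cancel_mono (G.s ⁻¹ᵁ W).ι, lift_cW_ι]
    simp only [Category.assoc, IsOpenImmersion.lift_fac, sW_ι_assoc]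
    simpa only [Category.assoc] using G.i_comp (α ≫ (G.s ⁻¹ᵁ W).ι)

theorem restrict_s_prop (P : MorphismProperty Scheme.{u}) [IsZariskiLocalAtTarget P] (h : P G.s) :
    P (restrict G W hW).s :=
  IsZariskiLocalAtTarget.restrict h W

theorem restrict_t_prop (P : MorphismProperty Scheme.{u}) [IsZariskiLocalAtTarget P] (h : P G.t) :
    P (restrict G W hW).t := by
  have e : G.s ⁻¹ᵁ W = G.t ⁻¹ᵁ W := hW
  have : tW G W hW = (G.R.isoOfEq e).hom ≫ (G.t ∣_ W) := by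
    rw [← cancel_mono W.ι, tW_ι, Category.assoc, morphismRestrict_ι, Scheme.isoOfEq_hom_ι_assoc]
  show P (tW G W hW)
  rw [this, P.cancel_left_of_respectsIso]
  exact IsZariskiLocalAtTarget.restrict h W

theorem mono_restrict_j [Mono G.j] : Mono (restrict G W hW).j := by
  constructor
  intro T (α : T ⟶ (G.s ⁻¹ᵁ W).toScheme) (β : T ⟶ (G.s ⁻¹ᵁ W).toScheme) h
  refine (cancel_mono (G.s ⁻¹ᵁ W).ι).1 ((cancel_mono G.j).1 ?_)
  have e1 : (restrict G W hW).j ≫ pullback.fst _ _ = tW G W hW := pullback.lift_fst _ _ _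
  have e2 : (restrict G W hW).j ≫ pullback.snd _ _ = sW G W := pullback.lift_snd _ _ _
  have k1 : α ≫ tW G W hW = β ≫ tW G W hW :=
    (congrArg (α ≫ ·) e1).symm.trans (((Category.assoc _ _ _).symm.trans
      (congrArg (· ≫ pullback.fst _ _) h)).trans ((Category.assoc _ _ _).trans (congrArg (β ≫ ·) e1)))
  have k2 : α ≫ sW G W = β ≫ sW G W :=
    (congrArg (α ≫ ·) e2).symm.trans (((Category.assoc _ _ _).symm.trans
      (congrArg (· ≫ pullback.snd _ _) h)).trans ((Category.assoc _ _ _).trans (congrArg (β ≫ ·) e2)))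
  apply pullback.hom_ext <;>
    simp only [Grpd.GroupoidScheme.j, Category.assoc, pullback.lift_fst, pullback.lift_snd]
  · rw [← tW_ι G W hW, reassoc_of% k1]
  · rw [← sW_ι G W, reassoc_of% k2]

end Groth.Agent.L24.Quot
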