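import Groth.Agent.L24.Quot.OfGroupoid
import Mathlib.AlgebraicGeometry.Morphisms.Integral
import Mathlib.AlgebraicGeometry.Morphisms.QuasiFinite

/-!
# Invariant affine opens for finite flat groupoids
-/

set_option backward.isDefEq.respectTransparency.types false

universe u

namespace Groth.Agent.L24.Quot

open AlgebraicGeometry CategoryTheory CategoryTheory.Limits Topology

/-- A norm lies in a prime iff the element lies in some prime above it. -/
theorem Pres.nrm_mem_iff {A B : Type u} [CommRing A] [CommRing B] {s : A →+* B} {n : ℕ} (P : Pres s n)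
    (hs : ∀ p : Ideal A, p.IsPrime → p.map s ≠ ⊤ → ∀ a ∉ p, P.nrm (s a) ∉ p)
    (y : B) (p : Ideal A) [p.IsPrime] :
    P.nrm y ∈ p ↔ (p.map s = ⊤ ∧ P.nrm y ∈ p) ∨ ∃ Q : Ideal B, Q.IsPrime ∧ Q.comap s = p ∧ y ∈ Q := by
  constructor
  · intro hy
    by_cases htop : p.map s = ⊤
    · exact Or.inl ⟨htop, hy⟩
    right
    let J : Ideal B := p.map s ⊔ Ideal.span {y}
    let T : Submonoid B := Submonoid.map s.toMonoidHom p.primeCompl
    by_cases hd : Disjoint (J : Set B) (T : Set B)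
    · obtain ⟨Q, hQ, hJQ, hQd⟩ := Ideal.exists_le_prime_disjoint J T hd
      refine ⟨Q, hQ, le_antisymm (fun a ha => ?_) ?_, hJQ (Ideal.mem_sup_right (Ideal.mem_span_singleton_self _))⟩
      · by_contra hap
        exact Set.disjoint_left.1 hQd ha ⟨a, hap, rfl⟩
      · exact Ideal.map_le_iff_le_comap.1 (le_sup_left.trans hJQ)
    · obtain ⟨_, hxJ, a, ha, rfl⟩ := Set.not_disjoint_iff.1 hd
      obtain ⟨z, hz, w, hw, hzw⟩ := Submodule.mem_sup.1 hxJ
      obtain ⟨u, rfl⟩ := Ideal.mem_span_singleton.1 hw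
      let π := Ideal.Quotient.mk p
      have hz0 : ∀ v, (P.mat (z * v)).map π = 0 := by
        clear hzw
        induction hz using Submodule.span_induction with
        | mem x hx =>
          obtain ⟨b, hb, rfl⟩ := hx
          intro v
          rw [P.mat_smul]
          ext i j
          simp [π, Ideal.Quotient.eq_zero_iff_mem.2 hb]
        | zero => intro v; rw [zero_mul, P.mat_zero]; exact Matrix.map_zero _ (map_zero π)
        | add x y _ _ hx hy =>
          intro v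
          rw [add_mul, P.mat_add, Matrix.map_add _ (map_add π), hx, hy, add_zero]
        | smul b x _ hx =>
          intro v
          rw [smul_eq_mul, mul_comm b x, mul_assoc]
          exact hx _
      have h1 : π (P.nrm (y * u)) = π (P.nrm (s a)) := by
        have he : y * u - 1 = (s a - 1) + z * (-1) := by
          have : z + y * u = s a := hzw
          linear_combination this
        rw [Pres.nrm, Pres.nrm, he, P.mat_add, RingHom.map_det, RingHom.map_det]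
        congr 1
        simp only [RingHom.mapMatrix_apply, Matrix.map_add _ (map_add π), hz0, add_zero]
      refine absurd ?_ (hs p inferInstance htop a ha)
      rw [← Ideal.Quotient.eq_zero_iff_mem, ← h1, Ideal.Quotient.eq_zero_iff_mem, P.nrm_mul]
      exact Ideal.mul_mem_right _ _ hy
  · rintro (⟨-, h⟩ | ⟨Q, hQ, hQp, hy⟩)
    · exact h
    · rw [← hQp, Ideal.mem_comap]
      obtain ⟨z, hz⟩ := P.dvd_nrm y
      rw [hz]
      exact Ideal.mul_mem_right _ _ hy

theorem Pres.nrm_scalar_notMem {A B : Type u} [CommRing A] [CommRing B] {s : A →+* B} {n : ℕ}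
    (P : Pres s n) (p : Ideal A) [p.IsPrime] (a : A) (ha : a ∉ p) : P.nrm (s a) ∉ p := by
  intro hmem
  have hn : P.nrm (s a) = dd (P.mat 1) (RingHom.id A) a 1 := by
    rw [Pres.nrm, P.mat_sub, show P.mat (s a) = a • P.mat 1 by rw [← P.mat_smul, mul_one], dd,
      one_smul]
    congr 1
    ext i j
    simp
    ring
  obtain ⟨r, hr⟩ : ∃ r, P.rkE r ∉ p := by
    by_contra hcon
    simp only [not_exists, not_not] at hcon
    exact (Ideal.IsPrime.ne_top ‹_›) ((Ideal.eq_top_iff_one p).2 (P.sum_rkE ▸ p.sum_mem fun r _ => hcon r))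
  have h := rk_mul_eval₂ (RingHom.id A) P.mat_one_idem r a
  rw [← hn] at h
  have h2 : P.rkE r * a ^ r ∈ p := by
    have : P.rkE r * a ^ r = P.rkE r * P.nrm (s a) := h.symm
    rw [this]
    exact Ideal.mul_mem_left _ _ hmem
  exact (Ideal.IsPrime.mem_or_mem ‹_› h2).elim hr fun h3 => ha (Ideal.IsPrime.mem_of_pow_mem ‹_› r h3)

theorem Pres.nrm_mem_iff' {A B : Type u} [CommRing A] [CommRing B] {s : A →+* B} {n : ℕ} (P : Pres s n)
    (y : B) (p : Ideal A) [p.IsPrime] (hp : ∃ Q : Ideal B, Q.IsPrime ∧ Q.comap s = p) :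
    P.nrm y ∈ p ↔ ∃ Q : Ideal B, Q.IsPrime ∧ Q.comap s = p ∧ y ∈ Q := by
  rw [P.nrm_mem_iff (fun q hq _ a ha => P.nrm_scalar_notMem q a ha)]
  refine or_iff_right fun h => ?_
  obtain ⟨Q, hQ, hQp⟩ := hp
  exact hQ.ne_top (top_le_iff.1 (h.1.ge.trans (Ideal.map_le_iff_le_comap.2 hQp.ge)))

/-- On affine schemes, the image of the non-vanishing complement of a function under a finite flat map
is cut out by one function. -/
theorem exists_nrm_basicOpen {X Y : Scheme.{u}} [IsAffine Y] (p : X ⟶ Y) [IsFinite p] [Flat p]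
    [LocallyOfFinitePresentation p] (hsurj : Function.Surjective p) (y : Γ(X, ⊤)) :
    ∃ N : Γ(Y, ⊤), ∀ x : Y, x ∈ Y.basicOpen N ↔ ∀ z : X, p z = x → z ∈ X.basicOpen y := by
  haveI : IsAffine X := isAffine_of_isAffineHom p
  letI := p.appTop.hom.toAlgebra
  haveI h1 : Module.Finite Γ(Y, ⊤) Γ(X, ⊤) := p.finite_appTop
  haveI h2 : Module.Flat Γ(Y, ⊤) Γ(X, ⊤) := HasRingHomProperty.appTop @Flat p inferInstance
  haveI h3 : Algebra.FinitePresentation Γ(Y, ⊤) Γ(X, ⊤) :=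
    HasRingHomProperty.appTop @LocallyOfFinitePresentation p inferInstance
  haveI := Module.FinitePresentation.of_finite_of_finitePresentation Γ(Y, ⊤) Γ(X, ⊤)
  obtain ⟨n, ⟨P⟩⟩ := exists_pres p.appTop.hom ⟨h1, Module.Flat.projective_of_finitePresentation⟩
  have hX : Function.Bijective X.toSpecΓ := Scheme.homeoOfIso (asIso X.toSpecΓ) |>.bijective
  have hY : Function.Bijective Y.toSpecΓ := Scheme.homeoOfIso (asIso Y.toSpecΓ) |>.bijective
  have hbX : ∀ (f : Γ(X, ⊤)) (z : X), z ∈ X.basicOpen f ↔ f ∉ (X.toSpecΓ z).asIdeal := fun f z => by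
    rw [← Scheme.toSpecΓ_preimage_basicOpen]; rfl
  have hbY : ∀ (f : Γ(Y, ⊤)) (z : Y), z ∈ Y.basicOpen f ↔ f ∉ (Y.toSpecΓ z).asIdeal := fun f z => by
    rw [← Scheme.toSpecΓ_preimage_basicOpen]; rfl
  have hnat : ∀ z, Y.toSpecΓ (p z) = PrimeSpectrum.comap p.appTop.hom (X.toSpecΓ z) := fun z => by
    rw [← Scheme.Hom.comp_apply, Scheme.toSpecΓ_naturality]; rfl
  refine ⟨P.nrm y, fun x => ?_⟩
  rw [hbY]
  haveI : (Y.toSpecΓ x).asIdeal.IsPrime := (Y.toSpecΓ x).isPrime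
  obtain ⟨z0, hz0⟩ := hsurj x
  rw [P.nrm_mem_iff' y _ ⟨_, (X.toSpecΓ z0).isPrime, (congrArg PrimeSpectrum.asIdeal
    (hnat z0)).symm.trans (by rw [hz0])⟩]
  constructor
  · intro h z hz
    rw [hbX]
    intro hy
    exact h ⟨_, (X.toSpecΓ z).isPrime, (congrArg PrimeSpectrum.asIdeal (hnat z)).symm.trans (by rw [hz]), hy⟩
  · rintro h ⟨Q, hQ, hQp, hy⟩
    obtain ⟨z, hz⟩ := hX.2 ⟨Q, hQ⟩
    have hzx : p z = x := hY.1 (by rw [hnat, hz]; exact PrimeSpectrum.ext hQp)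
    have := (hbX y z).1 (h z hzx)
    rw [hz] at this
    exact this hy

section Orbit

variable {S : Scheme.{u}} (G : Grpd.GroupoidScheme S)

/-- Orbit equivalence of points. -/
def Rel (x y : G.U) : Prop := ∃ r : G.R, G.s r = x ∧ G.t r = y

theorem rel_refl (x : G.U) : Rel G x x :=
  ⟨G.e x, by rw [← Scheme.Hom.comp_apply, G.e_s]; rfl, by rw [← Scheme.Hom.comp_apply, G.e_t]; rfl⟩

theorem rel_symm {x y : G.U} (h : Rel G x y) : Rel G y x := by
  obtain ⟨r, rfl, rfl⟩ := h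
  exact ⟨G.i r, by rw [← Scheme.Hom.comp_apply, G.i_s], by rw [← Scheme.Hom.comp_apply, G.i_t]⟩

theorem rel_trans {x y z : G.U} (h : Rel G x y) (h' : Rel G y z) : Rel G x z := by
  obtain ⟨r, rfl, rfl⟩ := h
  obtain ⟨r', hr', rfl⟩ := h'
  obtain ⟨w, hw1, hw2⟩ := Scheme.Pullback.exists_preimage_pullback (f := G.s) (g := G.t) r' r hr'
  refine ⟨G.c w, ?_, ?_⟩
  · rw [← Scheme.Hom.comp_apply, c_s, Scheme.Hom.comp_apply, hw2]
  · rw [← Scheme.Hom.comp_apply, c_t, Scheme.Hom.comp_apply, hw1]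

/-- An open set is invariant when it is a union of orbits. -/
theorem preimage_eq_of_saturated {W : G.U.Opens} (h : ∀ x y, Rel G x y → x ∈ W → y ∈ W) :
    G.s ⁻¹ᵁ W = G.t ⁻¹ᵁ W := by
  ext r
  exact ⟨h _ _ ⟨r, rfl, rfl⟩, h _ _ (rel_symm G ⟨r, rfl, rfl⟩)⟩

theorem finite_rel [IsFinite G.s] (x : G.U) : {y | Rel G x y}.Finite := by
  refine ((G.s.finite_preimage_singleton x).image G.t).subset ?_
  rintro y ⟨r, hr, rfl⟩
  exact ⟨r, hr, rfl⟩

/-- The points whose orbit lies in an open set form an open set. -/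
def core [IsFinite G.t] (V : G.U.Opens) : G.U.Opens :=
  ⟨(G.t '' (G.s ⁻¹' (V : Set G.U)ᶜ))ᶜ,
    (G.t.isClosedMap _ (V.isOpen.isClosed_compl.preimage G.s.continuous)).isOpen_compl⟩

theorem mem_core [IsFinite G.t] {V : G.U.Opens} {x : G.U} :
    x ∈ core G V ↔ ∀ y, Rel G x y → y ∈ V := by
  constructor
  · intro h y hy
    by_contra hyV
    obtain ⟨r, hr1, hr2⟩ := rel_symm G hy
    exact h ⟨r, fun h' => hyV (hr1 ▸ h'), hr2⟩
  · rintro h ⟨r, hr, rfl⟩
    exact hr (h _ (rel_symm G ⟨r, rfl, rfl⟩))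

/-- An orbit contained in an affine open has an invariant affine open neighbourhood. -/
theorem exists_invariant_affine [IsFinite G.s] [Flat G.s] [LocallyOfFinitePresentation G.s]
    [IsFinite G.t] (u : G.U) (V O : G.U.Opens) (hV : IsAffineOpen V) (huV : ∀ y, Rel G u y → y ∈ V ⊓ O) :
    ∃ W : G.U.Opens, IsAffineOpen W ∧ W ≤ V ⊓ O ∧ u ∈ W ∧ G.s ⁻¹ᵁ W = G.t ⁻¹ᵁ W := by
  classical
  let W0 := core G (V ⊓ O)
  have hW0 : ∀ x y, Rel G x y → x ∈ W0 → y ∈ W0 := fun x y h hx =>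
    (mem_core G).2 fun z hz => (mem_core G).1 hx z (rel_trans G h hz)
  have hW0V : W0 ≤ V ⊓ O := fun x hx => (mem_core G).1 hx x (rel_refl G x)
  have hu : ∀ y, Rel G u y → y ∈ W0 := fun y hy => hW0 u y hy ((mem_core G).2 huV)
  -- a function on `V` non-vanishing on the orbit and vanishing outside `W0`
  obtain ⟨f, hfW, hfu⟩ : ∃ f : Γ(G.U, V), G.U.basicOpen f ≤ W0 ∧ ∀ y, Rel G u y → y ∈ G.U.basicOpen f := by
    let Z : Set (PrimeSpectrum Γ(G.U, V)) := (hV.fromSpec ⁻¹' (W0 : Set G.U))ᶜ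
    have hZc : IsClosed Z := (W0.isOpen.preimage hV.fromSpec.continuous).isClosed_compl
    let T : Set (PrimeSpectrum Γ(G.U, V)) := hV.fromSpec ⁻¹' {y | Rel G u y}
    have hT : T.Finite := (finite_rel G u).preimage hV.fromSpec.isOpenEmbedding.injective.injOn
    obtain ⟨q0, hq0⟩ : ∃ q, hV.fromSpec q = u := by
      have h : u ∈ (V : Set G.U) := (huV u (rel_refl G u)).1
      rwa [← hV.range_fromSpec] at h
    have hns : ¬ ((PrimeSpectrum.vanishingIdeal Z : Ideal Γ(G.U, V)) : Set Γ(G.U, V)) ⊆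
        ⋃ q ∈ T, (q.asIdeal : Set Γ(G.U, V)) := by
      rw [Ideal.subset_union_prime_finite hT q0 q0 fun q _ _ _ => q.isPrime]
      rintro ⟨q, hqT, hle⟩
      have h : q ∈ PrimeSpectrum.zeroLocus (PrimeSpectrum.vanishingIdeal Z : Set Γ(G.U, V)) := hle
      rw [PrimeSpectrum.zeroLocus_vanishingIdeal_eq_closure, hZc.closure_eq] at h
      exact h (hu _ hqT)
    obtain ⟨f, hfI, hf⟩ := Set.not_subset.1 hns
    refine ⟨f, fun x hx => ?_, fun y hy => ?_⟩
    · have hxV : x ∈ (V : Set G.U) := G.U.basicOpen_le f hx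
      rw [← hV.range_fromSpec] at hxV
      obtain ⟨q, rfl⟩ := hxV
      have hq : q ∈ hV.fromSpec ⁻¹ᵁ G.U.basicOpen f := hx
      rw [hV.fromSpec_preimage_basicOpen] at hq
      by_contra hn
      exact hq ((PrimeSpectrum.mem_vanishingIdeal Z f).1 hfI q hn)
    · have hyV : y ∈ (V : Set G.U) := (huV y hy).1
      rw [← hV.range_fromSpec] at hyV
      obtain ⟨q, rfl⟩ := hyV
      have hq : q ∈ hV.fromSpec ⁻¹ᵁ G.U.basicOpen f := by
        rw [hV.fromSpec_preimage_basicOpen]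
        exact fun hfq => hf (Set.mem_biUnion (hy : q ∈ T) hfq)
      exact hq
  let Ω := G.U.basicOpen f
  have hΩ : IsAffineOpen Ω := hV.basicOpen f
  haveI : IsAffine Ω.toScheme := hΩ
  let R' : G.R.Opens := G.s ⁻¹ᵁ Ω
  let t' : R'.toScheme ⟶ G.U := R'.ι ≫ G.t
  have ht' : (⊤ : R'.toScheme.Opens) ≤ t' ⁻¹ᵁ V := fun r _ =>
    ((mem_core G).1 (hfW r.2) _ ⟨R'.ι r, rfl, rfl⟩).1
  let y : Γ(R'.toScheme, ⊤) := t'.appLE V ⊤ ht' f
  have hy : ∀ r, r ∈ R'.toScheme.basicOpen y ↔ t' r ∈ Ω := fun r => by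
    rw [Scheme.basicOpen_appLE]
    exact ⟨fun h => h.2, fun h => ⟨trivial, h⟩⟩
  have hsurj : Function.Surjective (G.s ∣_ Ω) := fun x =>
    ⟨⟨G.e x.1, by
      show G.s (G.e x.1) ∈ Ω
      rw [← Scheme.Hom.comp_apply, G.e_s]; exact x.2⟩, Subtype.ext (by
      rw [morphismRestrict_base_coe]
      show G.s (G.e x.1) = x.1
      rw [← Scheme.Hom.comp_apply, G.e_s]; rfl)⟩
  obtain ⟨N, hN⟩ := exists_nrm_basicOpen (G.s ∣_ Ω) hsurj y
  have key : ∀ x, x ∈ Ω.ι ''ᵁ Ω.toScheme.basicOpen N ↔ ∀ z, Rel G x z → z ∈ Ω := by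
    intro x
    constructor
    · rintro ⟨x', hx', rfl⟩ z ⟨r, hr, rfl⟩
      have hrR : r ∈ R' := (show G.s r ∈ Ω from hr ▸ x'.2)
      exact (hy ⟨r, hrR⟩).1 ((hN x').1 hx' ⟨r, hrR⟩ (Subtype.ext (by rw [morphismRestrict_base_coe]; exact hr)))
    · intro h
      refine ⟨⟨x, h x (rel_refl G x)⟩, (hN _).2 fun r hr => (hy r).2 (h _ ⟨R'.ι r, ?_, rfl⟩), rfl⟩
      have := congrArg Subtype.val hr
      rwa [morphismRestrict_base_coe] at this
  refine ⟨Ω.ι ''ᵁ Ω.toScheme.basicOpen N,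
    ((isAffineOpen_top Ω.toScheme).basicOpen N).image_of_isOpenImmersion Ω.ι,
    (Scheme.Opens.ι_image_le (U := Ω) _).trans (hfW.trans hW0V), ?_, ?_⟩
  · exact (key u).2 hfu
  · exact preimage_eq_of_saturated G fun x z hxz hx => (key z).2 fun w hw => (key x).1 hx w (rel_trans G hxz hw)

end Orbit

end Groth.Agent.L24.Quot
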