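import Groth.Agent.L24.Quot.Points
import Groth.Prelude.Def_Grpd

/-!
# The data of an affine finite flat groupoid scheme
-/

universe u

namespace Groth.Agent.L24.Quot

open AlgebraicGeometry CategoryTheory CategoryTheory.Limits TensorProduct

/-- A finite projective algebra has a presentation. -/
theorem exists_pres {A B : Type u} [CommRing A] [CommRing B] (s : A →+* B)
    (h : letI := s.toAlgebra; Module.Finite A B ∧ Module.Projective A B) :
    ∃ n, Nonempty (Pres s n) := by
  letI := s.toAlgebra
  obtain ⟨_, _⟩ := h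
  obtain ⟨n, f, g, -, -, hfg⟩ := Module.Finite.exists_comp_eq_id_of_projective A B
  refine ⟨n, ⟨{ b := fun i => f (Pi.single i 1)
                φ := fun i => ((LinearMap.proj i).comp g).toAddMonoidHom
                φ_mul := fun i a x => ?_
                sum := fun x => ?_ }⟩⟩
  · show g (a • x) i = a * g x i
    simp
  · show ∑ i, g x i • f (Pi.single i 1) = x
    rw [show ∑ i, g x i • f (Pi.single i 1) = f (∑ i, g x i • Pi.single i (1 : A)) by
      simp [map_sum], ← pi_eq_sum_univ' (g x)]
    exact LinearMap.congr_fun hfg x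

/-- Presentations pass to pushouts. -/
theorem exists_pres_pushout {A B A' B' : Type u} [CommRing A] [CommRing B] [CommRing A'] [CommRing B']
    {s : A →+* B} {f : A →+* A'} {q : B →+* B'} {s' : A' →+* B'}
    (h : IsPushout (CommRingCat.ofHom f) (CommRingCat.ofHom s) (CommRingCat.ofHom s')
      (CommRingCat.ofHom q)) {n : ℕ} (P : Pres s n) :
    ∃ P' : Pres s' n, Pres.Compat P P' f q := by
  algebraize [s, f, q, s', s'.comp f]
  haveI : IsScalarTower A B B' := .of_algebraMap_eq' (congrArg CommRingCat.Hom.hom h.w)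
  haveI hp : Algebra.IsPushout A A' B B' := CommRingCat.isPushout_iff_isPushout.mp h
  have hb := hp.out
  let φA : Fin n → B →ₗ[A] A' := fun i => (Algebra.linearMap A A').comp
    ({ toFun := P.φ i, map_add' := map_add _, map_smul' := fun a x => P.φ_mul i a x } : B →ₗ[A] A)
  have hlift : ∀ i x, hb.lift (φA i) (q x) = f (P.φ i x) := fun i x => hb.lift_eq (φA i) x
  refine ⟨{ b := fun i => q (P.b i)
            φ := fun i => (hb.lift (φA i)).toAddMonoidHom
            φ_mul := fun i a x => ?_
            sum := fun x => ?_ }, fun _ => rfl, hlift⟩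
  · show hb.lift (φA i) (a • x) = a * hb.lift (φA i) x
    rw [map_smul, smul_eq_mul]
  · show ∑ i, hb.lift (φA i) x • q (P.b i) = x
    refine hb.inductionOn x _ ?_ ?_ ?_ ?_
    · simp
    · intro m
      show ∑ i, hb.lift (φA i) (q m) • q (P.b i) = q m
      conv_rhs => rw [← P.sum m, map_sum]
      refine Finset.sum_congr rfl fun i _ => ?_
      rw [hlift, map_mul, Algebra.smul_def]
      congr 1
      exact (congrArg (fun g : A →+* B' => g (P.φ i m)) (congrArg CommRingCat.Hom.hom h.w))
    · intro c x hx
      simp only [map_smul, smul_assoc, ← Finset.smul_sum, hx]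
    · intro x y hx hy
      simp only [map_add, add_smul, Finset.sum_add_distrib, hx, hy]

/-- Functionals pass to pushouts. -/
theorem exists_functionals {A B A' B' : Type u} [CommRing A] [CommRing B] [CommRing A'] [CommRing B']
    {s : A →+* B} {f : A →+* A'} {q : B →+* B'} {s' : A' →+* B'}
    (h : IsPushout (CommRingCat.ofHom f) (CommRingCat.ofHom s) (CommRingCat.ofHom s')
      (CommRingCat.ofHom q)) {I : Type u} (φ : I → B →+ A) (hφ : ∀ i a x, φ i (s a * x) = a * φ i x) :
    ∃ ψ : I → B' →+ A', (∀ i a x, ψ i (s' a * x) = a * ψ i x) ∧ ∀ i x, ψ i (q x) = f (φ i x) := by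
  algebraize [s, f, q, s', s'.comp f]
  haveI : IsScalarTower A B B' := .of_algebraMap_eq' (congrArg CommRingCat.Hom.hom h.w)
  haveI hp : Algebra.IsPushout A A' B B' := CommRingCat.isPushout_iff_isPushout.mp h
  let φA : I → B →ₗ[A] A' := fun i => (Algebra.linearMap A A').comp
    ({ toFun := φ i, map_add' := map_add _, map_smul' := fun a x => hφ i a x } : B →ₗ[A] A)
  exact ⟨fun i => (hp.out.lift (φA i)).toAddMonoidHom, fun i a x => (hp.out.lift (φA i)).map_smul a x,
    fun i x => hp.out.lift_eq (φA i) x⟩

variable {S : Scheme.{u}} (G : Grpd.GroupoidScheme S)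

/-- `Γ(R)` as an algebra over the invariants, through the source. -/
@[reducible] noncomputable def algR : Algebra G.invariants Γ(G.R, ⊤) :=
  (G.s.appTop.hom.comp G.invariants.subtype).toAlgebra

/-- Functions on composable pairs as an algebra over the invariants, through the second projection. -/
@[reducible] noncomputable def algD : Algebra G.invariants Γ(pullback G.s G.t, ⊤) :=
  ((pullback.snd G.s G.t).appTop.hom.comp (G.s.appTop.hom.comp G.invariants.subtype)).toAlgebra

attribute [local instance] algR algD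

theorem inv_st (c : G.invariants) : G.s.appTop.hom (c : Γ(G.U, ⊤)) = G.t.appTop.hom c := c.2

/-- The source as a map of algebras over the invariants. -/
noncomputable def sAlg : Γ(G.U, ⊤) →ₐ[G.invariants] Γ(G.R, ⊤) :=
  ⟨G.s.appTop.hom, fun _ => rfl⟩

/-- The target as a map of algebras over the invariants. -/
noncomputable def tAlg : Γ(G.U, ⊤) →ₐ[G.invariants] Γ(G.R, ⊤) :=
  ⟨G.t.appTop.hom, fun c => (inv_st G c).symm⟩

theorem appTop_congr {X Y : Scheme.{u}} {f g : X ⟶ Y} (h : f = g) (x : Γ(Y, ⊤)) :
    f.appTop.hom x = g.appTop.hom x := by rw [h]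

theorem c_s : G.c ≫ G.s = pullback.snd G.s G.t ≫ G.s := by
  have := G.comp_s (pullback.fst G.s G.t) (pullback.snd G.s G.t) pullback.condition
  rwa [show pullback.lift (pullback.fst G.s G.t) (pullback.snd G.s G.t) pullback.condition =
    𝟙 (pullback G.s G.t) by apply pullback.hom_ext <;> simp, Category.id_comp] at this

theorem c_t : G.c ≫ G.t = pullback.fst G.s G.t ≫ G.t := by
  have := G.comp_t (pullback.fst G.s G.t) (pullback.snd G.s G.t) pullback.condition
  rwa [show pullback.lift (pullback.fst G.s G.t) (pullback.snd G.s G.t) pullback.condition =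
    𝟙 (pullback G.s G.t) by apply pullback.hom_ext <;> simp, Category.id_comp] at this

/-- The composition square: pairs with the same source are composable pairs. -/
theorem isPullback_c_snd : IsPullback G.c (pullback.snd G.s G.t) G.s G.s := by
  have hi : ∀ {T : Scheme.{u}} (β : T ⟶ G.R), (β ≫ G.i) ≫ G.t = β ≫ G.s := fun β => by
    rw [Category.assoc, G.i_t]
  have hs : ∀ {T : Scheme.{u}} (β : T ⟶ G.R), (β ≫ G.i) ≫ G.s = β ≫ G.t := fun β => by
    rw [Category.assoc, G.i_s]
  refine .of_isLimit (PullbackCone.IsLimit.mk (c_s G)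
    (fun x => pullback.lift
      (pullback.lift x.fst (x.snd ≫ G.i) (x.condition.trans (hi x.snd).symm) ≫ G.c) x.snd
      ((G.comp_s _ _ _).trans (hs x.snd))) ?_ (fun x => pullback.lift_snd _ _ _) ?_)
  · intro x
    rw [G.assoc x.fst (x.snd ≫ G.i) x.snd (x.condition.trans (hi x.snd).symm) (hs x.snd)]
    have h : pullback.lift (x.snd ≫ G.i) x.snd (hs x.snd) ≫ G.c = x.fst ≫ G.s ≫ G.e := by
      rw [G.i_comp, ← Category.assoc, ← x.condition, Category.assoc]
    simp only [h, G.comp_e]
  · intro x m hm1 hm2
    apply pullback.hom_ext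
    · rw [pullback.lift_fst]
      have hm : m = pullback.lift (m ≫ pullback.fst G.s G.t) (m ≫ pullback.snd G.s G.t)
          (by simp [pullback.condition]) :=
        pullback.hom_ext (by rw [pullback.lift_fst]) (by rw [pullback.lift_snd])
      rw [hm] at hm1
      simp only [← hm1]
      have hab : (m ≫ pullback.fst G.s G.t) ≫ G.s = x.snd ≫ G.t := by
        rw [Category.assoc, pullback.condition, ← Category.assoc, hm2]
      simp only [hm2]
      rw [G.assoc _ x.snd (x.snd ≫ G.i) hab (hi x.snd).symm]
      have h : pullback.lift x.snd (x.snd ≫ G.i) (hi x.snd).symm ≫ G.c =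
          (m ≫ pullback.fst G.s G.t) ≫ G.s ≫ G.e := by
        rw [G.comp_i, ← Category.assoc, ← hab, Category.assoc]
      simp only [h, G.comp_e]
    · rw [pullback.lift_snd, hm2]

theorem flat_finite_appTop [IsAffine G.U] [IsFinite G.s] [Flat G.s] [LocallyOfFinitePresentation G.s] :
    letI := G.s.appTop.hom.toAlgebra
    Module.Finite Γ(G.U, ⊤) Γ(G.R, ⊤) ∧ Module.Projective Γ(G.U, ⊤) Γ(G.R, ⊤) := by
  letI := G.s.appTop.hom.toAlgebra
  haveI : IsAffine G.R := isAffine_of_isAffineHom G.s
  haveI h1 : Module.Finite Γ(G.U, ⊤) Γ(G.R, ⊤) := G.s.finite_appTop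
  haveI h2 : Module.Flat Γ(G.U, ⊤) Γ(G.R, ⊤) := HasRingHomProperty.appTop @Flat G.s inferInstance
  haveI h3 : Algebra.FinitePresentation Γ(G.U, ⊤) Γ(G.R, ⊤) :=
    HasRingHomProperty.appTop @LocallyOfFinitePresentation G.s inferInstance
  haveI := Module.FinitePresentation.of_finite_of_finitePresentation Γ(G.U, ⊤) Γ(G.R, ⊤)
  exact ⟨h1, Module.Flat.projective_of_finitePresentation⟩

/-- The groupoid data of an affine finite flat groupoid scheme. -/
theorem exists_dat [IsAffine G.U] [IsFinite G.s] [Flat G.s] [LocallyOfFinitePresentation G.s] :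
    ∃ d : Dat G.invariants Γ(G.U, ⊤) Γ(G.R, ⊤) Γ(pullback G.s G.t, ⊤),
      d.s = sAlg G ∧ d.t = tAlg G ∧ d.Full := by
  haveI : IsAffine G.R := isAffine_of_isAffineHom G.s
  obtain ⟨n, ⟨P⟩⟩ := exists_pres G.s.appTop.hom (flat_finite_appTop G)
  obtain ⟨Pt, ct⟩ := exists_pres_pushout
    (isPushout_appTop_of_isPullback (IsPullback.of_hasPullback G.s G.t)).flip P
  obtain ⟨Ps, cs⟩ := exists_pres_pushout
    (isPushout_appTop_of_isPullback (isPullback_c_snd G)).flip P
  have hst : ∀ c : G.invariants, (pullback.fst G.s G.t).appTop.hom (G.s.appTop.hom (c : Γ(G.U, ⊤))) =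
      (pullback.snd G.s G.t).appTop.hom (G.s.appTop.hom c) := fun c => by
    have h := appTop_congr (pullback.condition (f := G.s) (g := G.t)) (c : Γ(G.U, ⊤))
    simp only [Scheme.Hom.comp_appTop, CommRingCat.hom_comp, RingHom.comp_apply] at h
    rw [h, inv_st]
  refine ⟨{ s := sAlg G
            t := tAlg G
            p1 := ⟨(pullback.fst G.s G.t).appTop.hom, hst⟩
            p2 := ⟨(pullback.snd G.s G.t).appTop.hom, fun _ => rfl⟩
            m := ⟨G.c.appTop.hom, fun c => ?_⟩
            e := ⟨G.e.appTop.hom, fun c => ?_⟩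
            n := n
            P := P
            Pt := Pt
            Ps := Ps
            ct := ct
            cs := cs
            mt := fun a => ?_
            es := fun a => ?_
            et := fun a => ?_ }, rfl, rfl, fun a ha => ⟨⟨a, ha⟩, rfl⟩⟩
  · have h := appTop_congr (c_s G) (c : Γ(G.U, ⊤))
    simp only [Scheme.Hom.comp_appTop, CommRingCat.hom_comp, RingHom.comp_apply] at h
    exact h
  · have h := appTop_congr G.e_s (c : Γ(G.U, ⊤))
    simp only [Scheme.Hom.comp_appTop, CommRingCat.hom_comp, RingHom.comp_apply] at h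
    exact h
  · have h := appTop_congr (c_t G) a
    simp only [Scheme.Hom.comp_appTop, CommRingCat.hom_comp, RingHom.comp_apply] at h
    exact h
  · have h := appTop_congr G.e_s a
    simp only [Scheme.Hom.comp_appTop, CommRingCat.hom_comp, RingHom.comp_apply] at h
    exact h
  · have h := appTop_congr G.e_t a
    simp only [Scheme.Hom.comp_appTop, CommRingCat.hom_comp, RingHom.comp_apply] at h
    exact h

end Groth.Agent.L24.Quot
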