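import Groth.Agent.L24.Quot.Free
import Groth.Agent.L24.Quot.OfGroupoid
import Mathlib.Algebra.Category.Ring.Epi

/-!
# The quotient of a free affine finite flat groupoid scheme
-/

set_option backward.isDefEq.respectTransparency.types false

universe u

namespace Groth.Agent.L24.Quot

open AlgebraicGeometry CategoryTheory CategoryTheory.Limits TensorProduct

variable {S : Scheme.{u}} (G : Grpd.GroupoidScheme S) [IsAffine G.U] [IsFinite G.s]

theorem surjective_sourceTarget [Mono G.j] :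
    Function.Surjective (Algebra.TensorProduct.lift (R := ℤ) (S := ℤ) G.s.appTop.hom.toIntAlgHom
      G.t.appTop.hom.toIntAlgHom fun _ _ => Commute.all _ _) := by
  haveI : IsAffine G.R := isAffine_of_isAffineHom G.s
  let f : CommRingCat.of (Γ(G.U, ⊤) ⊗[ℤ] Γ(G.U, ⊤)) ⟶ Γ(G.R, ⊤) :=
    CommRingCat.ofHom (Algebra.TensorProduct.lift (R := ℤ) (S := ℤ) G.s.appTop.hom.toIntAlgHom
      G.t.appTop.hom.toIntAlgHom fun _ _ => Commute.all _ _).toRingHom
  have hl : ∀ a, f.hom (a ⊗ₜ 1) = G.s.appTop.hom a := fun a => by simp [f]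
  have hr : ∀ a, f.hom (1 ⊗ₜ a) = G.t.appTop.hom a := fun a => by simp [f]
  haveI : Epi f := by
    refine ⟨fun {T} g₁ g₂ h => ?_⟩
    have hs : G.s.appTop ≫ g₁ = G.s.appTop ≫ g₂ := CommRingCat.hom_ext (RingHom.ext fun a => by
      have := congrArg (fun k => k.hom (a ⊗ₜ 1)) h
      simpa [hl] using this)
    have ht : G.t.appTop ≫ g₁ = G.t.appTop ≫ g₂ := CommRingCat.hom_ext (RingHom.ext fun a => by
      have := congrArg (fun k => k.hom (1 ⊗ₜ a)) h
      simpa [hr] using this)
    have key : ∀ (p : G.R ⟶ G.U) (g : Γ(G.R, ⊤) ⟶ T), (Spec.map g ≫ inv G.R.toSpecΓ) ≫ p =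
        Spec.map (p.appTop ≫ g) ≫ inv G.U.toSpecΓ := fun p g => by
      rw [← cancel_mono G.U.toSpecΓ, Category.assoc, Category.assoc, Scheme.toSpecΓ_naturality,
        IsIso.inv_hom_id_assoc, Category.assoc, IsIso.inv_hom_id, Category.comp_id, Spec.map_comp]
    have h2 : Spec.map g₁ ≫ inv G.R.toSpecΓ = Spec.map g₂ ≫ inv G.R.toSpecΓ := by
      rw [← cancel_mono G.j]
      apply pullback.hom_ext <;>
        simp only [Category.assoc, Grpd.GroupoidScheme.j, pullback.lift_fst, pullback.lift_snd]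
      · rw [← Category.assoc, ← Category.assoc, key, key, ht]
      · rw [← Category.assoc, ← Category.assoc, key, key, hs]
    exact Spec.map_injective ((cancel_mono (inv G.R.toSpecΓ)).1 h2)
  refine RingHom.surjective_of_epi_of_finite f ?_
  refine RingHom.Finite.of_comp_finite
    (f := (Algebra.TensorProduct.includeLeftRingHom : Γ(G.U, ⊤) →+* Γ(G.U, ⊤) ⊗[ℤ] Γ(G.U, ⊤))) ?_
  have hc : f.hom.comp Algebra.TensorProduct.includeLeftRingHom = G.s.appTop.hom := RingHom.ext hl
  rw [hc]
  exact G.s.finite_appTop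

theorem exists_finite_gen [Mono G.j] :
    ∃ (N : ℕ) (a : Fin N → Γ(G.U, ⊤)),
      ∀ y : Γ(G.R, ⊤), ∃ c : Fin N → Γ(G.U, ⊤), y = ∑ j, G.s.appTop.hom (c j) * G.t.appTop.hom (a j) := by
  classical
  haveI : IsAffine G.R := isAffine_of_isAffineHom G.s
  letI := G.s.appTop.hom.toAlgebra
  haveI : Module.Finite Γ(G.U, ⊤) Γ(G.R, ⊤) := G.s.finite_appTop
  have hspan : Submodule.span Γ(G.U, ⊤) (Set.range G.t.appTop.hom) = ⊤ := by
    rw [eq_top_iff]
    rintro y -
    obtain ⟨z, rfl⟩ := surjective_sourceTarget G y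
    induction z with
    | zero => rw [map_zero]; exact Submodule.zero_mem _
    | add u v hu hv => rw [map_add]; exact Submodule.add_mem _ hu hv
    | tmul u v =>
      rw [Algebra.TensorProduct.lift_tmul]
      exact Submodule.smul_mem _ u (Submodule.subset_span ⟨v, rfl⟩)
  obtain ⟨σ, hσ, hσe⟩ := (Submodule.fg_span_iff_fg_span_finset_subset _).1
    (hspan ▸ (Module.Finite.fg_top : (⊤ : Submodule Γ(G.U, ⊤) Γ(G.R, ⊤)).FG))
  have hex : ∀ z : σ, ∃ a, G.t.appTop.hom a = z := fun z => hσ z.2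
  choose a ha using hex
  refine ⟨σ.card, fun j => a (σ.equivFin.symm j), fun y => ?_⟩
  obtain ⟨c, hc⟩ := (Submodule.mem_span_range_iff_exists_fun Γ(G.U, ⊤)).1
    (show y ∈ Submodule.span Γ(G.U, ⊤) (Set.range fun z : σ => (z : Γ(G.R, ⊤))) by
      rw [show Set.range (fun z : σ => (z : Γ(G.R, ⊤))) = (σ : Set _) from Subtype.range_coe, ← hσe, hspan]
      exact Submodule.mem_top)
  refine ⟨fun j => c (σ.equivFin.symm j), ?_⟩
  rw [← hc]
  refine (Fintype.sum_equiv σ.equivFin _ _ fun z => ?_)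
  simp only [Equiv.symm_apply_apply, ha]
  rfl

attribute [local instance] algR algD

variable [Flat G.s] [LocallyOfFinitePresentation G.s] [Mono G.j]

/-- The free case of the quotient theorem. -/
theorem finite_flat_toQuot : IsFinite G.toQuot ∧ Flat G.toQuot ∧ LocallyOfFinitePresentation G.toQuot ∧
    IsPullback G.t G.s G.toQuot G.toQuot := by
  haveI : IsAffine G.R := isAffine_of_isAffineHom G.s
  obtain ⟨d, hs, ht, hfull⟩ := exists_dat G
  obtain ⟨N, a, ha⟩ := exists_finite_gen G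
  have hgen : d.Gen a := by
    intro y
    obtain ⟨c, hc⟩ := ha y
    exact ⟨c, by rw [hs, ht]; exact hc⟩
  have hinj : Function.Injective (algebraMap G.invariants Γ(G.U, ⊤)) := Subtype.val_injective
  have hfin : (algebraMap G.invariants Γ(G.U, ⊤)).Finite :=
    RingHom.finite_algebraMap.2 (d.finite_of_gen hfull hinj hgen)
  have hflat : (algebraMap G.invariants Γ(G.U, ⊤)).Flat :=
    RingHom.flat_algebraMap_iff.2 (d.flat_of_gen hfull hinj hgen)
  have hs' : (d.s : Γ(G.U, ⊤) →+* Γ(G.R, ⊤)).FinitePresentation := by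
    rw [hs]
    exact HasRingHomProperty.appTop @LocallyOfFinitePresentation G.s inferInstance
  have hfp : (algebraMap G.invariants Γ(G.U, ⊤)).FinitePresentation :=
    RingHom.finitePresentation_algebraMap.2 (d.finitePresentation_of_gen hfull hinj hgen hs')
  have hq : G.toQuot = G.U.toSpecΓ ≫ Spec.map (CommRingCat.ofHom (algebraMap G.invariants Γ(G.U, ⊤))) := rfl
  refine ⟨?_, ?_, ?_, ?_⟩
  · rw [hq, MorphismProperty.cancel_left_of_respectsIso (P := @IsFinite.{u}), IsFinite.SpecMap_iff]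
    exact hfin
  · rw [hq, MorphismProperty.cancel_left_of_respectsIso (P := @Flat.{u}), Flat.SpecMap_iff]
    exact hflat
  · rw [hq, MorphismProperty.cancel_left_of_respectsIso (P := @LocallyOfFinitePresentation.{u}),
      LocallyOfFinitePresentation.SpecMap_iff]
    exact hfp
  · let m := CommRingCat.ofHom (algebraMap G.invariants Γ(G.U, ⊤))
    have hst : m ≫ G.t.appTop = m ≫ G.s.appTop :=
      CommRingCat.hom_ext (RingHom.ext fun c => (inv_st G c).symm)
    have hpush : IsPushout m m G.t.appTop G.s.appTop := by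
      refine (CommRingCat.isPushout_tensorProduct G.invariants Γ(G.U, ⊤) Γ(G.U, ⊤)).flip.of_iso
        (Iso.refl _) (Iso.refl _) (Iso.refl _)
        (RingEquiv.toCommRingCatIso (RingEquiv.ofBijective d.μ.toRingHom (d.bijective_μ hfull hinj hgen)))
        (by simp [m]) (by simp [m]) ?_ ?_
      · refine CommRingCat.hom_ext (RingHom.ext fun x => ?_)
        show d.μ (1 ⊗ₜ x) = G.t.appTop.hom x
        rw [Dat.μ_tmul, map_one, one_mul, ht]
        rfl
      · refine CommRingCat.hom_ext (RingHom.ext fun x => ?_)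
        show d.μ (x ⊗ₜ 1) = G.s.appTop.hom x
        rw [Dat.μ_tmul, map_one, mul_one, hs]
        rfl
    refine (isPullback_SpecMap_of_isPushout _ _ _ _ hpush).of_iso
      (asIso G.R.toSpecΓ).symm (asIso G.U.toSpecΓ).symm (asIso G.U.toSpecΓ).symm (Iso.refl _) ?_ ?_ ?_ ?_
    · simp [← cancel_mono G.U.toSpecΓ, Scheme.toSpecΓ_naturality]
    · simp [← cancel_mono G.U.toSpecΓ, Scheme.toSpecΓ_naturality]
    · simp [hq, m]
    · simp [hq, m]

end Groth.Agent.L24.Quot
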