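import Groth.Prelude.Def_QuotSh
import Mathlib.CategoryTheory.Sites.RegularEpi
import Mathlib.CategoryTheory.Sites.EpiMono
import Mathlib.CategoryTheory.Sites.LocallyBijective
import Mathlib.CategoryTheory.Limits.Shapes.KernelPair

/-!
# An fppf cover is the quotient of its kernel pair
-/

universe u

namespace Groth.Agent.L24.Quot

open AlgebraicGeometry CategoryTheory CategoryTheory.Limits Opposite

variable {S : Scheme.{u}} {U R M : Over S} {s t : R ⟶ U} {q : U ⟶ M}

theorem isLocallySurjective_yoneda_map [Flat q.left] [LocallyOfFinitePresentation q.left]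
    [Surjective q.left] :
    Presheaf.IsLocallySurjective (QuotSh.J Scheme.fppfPrecoverage S)
      (Functor.whiskerRight (yoneda.map q) uliftFunctor.{u + 1, u}) := by
  constructor
  intro T f
  let P := pullback f.down.left q.left
  let p : Over.mk (pullback.fst f.down.left q.left ≫ T.hom) ⟶ T := Over.homMk (pullback.fst _ _) rfl
  refine GrothendieckTopology.superset_covering _ (S := Sieve.generate (Presieve.singleton p)) ?_ ?_
  · rw [Sieve.generate_le_iff]
    rintro Z g ⟨⟩
    refine ⟨⟨(Over.homMk (pullback.snd f.down.left q.left) ?_ :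
      Over.mk (pullback.fst f.down.left q.left ≫ T.hom) ⟶ U)⟩, ?_⟩
    · have h : pullback.snd f.down.left q.left ≫ q.left = pullback.fst f.down.left q.left ≫ f.down.left :=
        pullback.condition.symm
      show _ ≫ U.hom = pullback.fst f.down.left q.left ≫ T.hom
      rw [← Over.w q, reassoc_of% h, Over.w]
    · apply ULift.ext
      apply Over.OverMorphism.ext
      exact pullback.condition.symm
  · rw [GrothendieckTopology.mem_over_iff, Sieve.overEquiv_generate]
    refine GrothendieckTopology.superset_covering _ ?_
      (Precoverage.generate_mem_toGrothendieck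
        (Scheme.Hom.singleton_mem_fppfPrecoverage (pullback.fst f.down.left q.left)))
    apply Sieve.generate_mono
    rintro Z g ⟨⟩
    exact ⟨_, p, 𝟙 _, Presieve.singleton_self p, by simp [p]⟩

theorem isQuotient_of_isPullback [Flat q.left] [LocallyOfFinitePresentation q.left]
    [Surjective q.left] (h : IsPullback s t q q) :
    QuotSh.IsQuotient Scheme.fppfPrecoverage s t q := by
  refine ⟨h.w, ?_⟩
  let F : Over S ⥤ QuotSh.Sh Scheme.fppfPrecoverage S :=
    yoneda ⋙ (Functor.whiskeringRight (Over S)ᵒᵖ (Type u) (Type (u + 1))).obj uliftFunctor.{u + 1, u} ⋙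
      presheafToSheaf (QuotSh.J Scheme.fppfPrecoverage S) (Type (u + 1))
  have hpb : IsKernelPair (F.map q) (F.map s) (F.map t) := h.map F
  haveI : Sheaf.IsLocallySurjective (F.map q) :=
    (Presheaf.isLocallySurjective_presheafToSheaf_map_iff (QuotSh.J Scheme.fppfPrecoverage S) _).2
      isLocallySurjective_yoneda_map
  haveI : Epi (F.map q) := (Sheaf.isLocallySurjective_iff_epi (F.map q)).1 inferInstance
  haveI : IsRegularEpi (F.map q) := IsRegularEpiCategory.regularEpiOfEpi _
  have hc := hpb.toCoequalizer'
  have he : QuotSh.quotDesc Scheme.fppfPrecoverage q h.w =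
      ((coequalizerIsCoequalizer (QuotSh.repMap Scheme.fppfPrecoverage s)
        (QuotSh.repMap Scheme.fppfPrecoverage t)).coconePointUniqueUpToIso hc).hom := by
    apply coequalizer.hom_ext
    rw [QuotSh.quotDesc, coequalizer.π_desc]
    exact ((coequalizerIsCoequalizer (QuotSh.repMap Scheme.fppfPrecoverage s)
        (QuotSh.repMap Scheme.fppfPrecoverage t)).comp_coconePointUniqueUpToIso_hom hc
          WalkingParallelPair.one).symm
  rw [he]
  exact Iso.isIso_hom _

end Groth.Agent.L24.Quot
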