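import Groth.Agent.L24.Quot.AffineIsQuot
import Mathlib.AlgebraicGeometry.Gluing
import Mathlib.AlgebraicGeometry.Morphisms.UniversallyOpen
import Mathlib.CategoryTheory.Limits.Shapes.Equalizers

/-!
# Gluing the quotients of invariant affine opens
-/

set_option backward.isDefEq.respectTransparency.types false

universe u

namespace Groth.Agent.L24.Quot

open AlgebraicGeometry CategoryTheory CategoryTheory.Limits Topology TopologicalSpace

variable {S : Scheme.{u}} {G : Grpd.GroupoidScheme S}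

namespace IsQuot

variable {W : G.U.Opens} {Y : Scheme.{u}} {p : W.toScheme ⟶ Y} (hp : IsQuot G W p)
include hp

theorem sat_mem {x y : G.U} (h : Rel G x y) (hx : x ∈ W) : y ∈ W := by
  obtain ⟨r, rfl, rfl⟩ := h
  exact hp.sat.le hx

theorem desc_top {Z : Scheme.{u}} (g : W.toScheme ⟶ Z) (hg : Inv G W.ι g) :
    ∃! h : Y ⟶ Z, p ≫ h = g := by
  have hinv : Inv G ((p ⁻¹ᵁ ⊤).ι ≫ W.ι) ((p ⁻¹ᵁ ⊤).ι ≫ g) := hg.precomp G _
  obtain ⟨h, hh, hu⟩ := hp.desc ⊤ ((p ⁻¹ᵁ ⊤).ι ≫ g) hinv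
  haveI : IsIso (⊤ : Y.Opens).ι := (Scheme.topIso Y).isIso_hom
  haveI : Epi (p ⁻¹ᵁ ⊤).ι :=
    haveI : IsIso (p ⁻¹ᵁ (⊤ : Y.Opens)).ι := (Scheme.topIso W.toScheme).isIso_hom
    inferInstance
  refine ⟨CategoryTheory.inv (⊤ : Y.Opens).ι ≫ h, ?_, fun h' hh' => ?_⟩
  · show p ≫ _ = g
    rw [← cancel_epi (p ⁻¹ᵁ ⊤).ι, ← morphismRestrict_ι_assoc, IsIso.hom_inv_id_assoc, hh]
  · rw [← cancel_epi (⊤ : Y.Opens).ι, IsIso.hom_inv_id_assoc]
    exact hu _ (by
      show (p ∣_ ⊤) ≫ (⊤ : Y.Opens).ι ≫ h' = _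
      rw [morphismRestrict_ι_assoc, hh'])

theorem hom_ext {Z : Scheme.{u}} {h₁ h₂ : Y ⟶ Z} (h : p ≫ h₁ = p ≫ h₂) : h₁ = h₂ :=
  (hp.desc_top (p ≫ h₁) (hp.inv.comp G h₁)).unique rfl h.symm

/-- A smaller quotient maps openly into a bigger one. -/
theorem exists_openImmersion {W' : G.U.Opens} (hle : W' ≤ W) {Y' : Scheme.{u}} {p' : W'.toScheme ⟶ Y'}
    (hp' : IsQuot G W' p') :
    ∃ m : Y' ⟶ Y, p' ≫ m = G.U.homOfLE hle ≫ p ∧ IsOpenImmersion m := by
  have hinv : Inv G W'.ι (G.U.homOfLE hle ≫ p) := by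
    have := hp.inv.precomp G (G.U.homOfLE hle)
    rwa [Scheme.homOfLE_ι] at this
  obtain ⟨m, hm, -⟩ := hp'.desc_top _ hinv
  haveI := hp.isIntegral
  let A : W.toScheme.Opens := W.ι ⁻¹ᵁ W'
  let V : Y.Opens := ⟨(p '' (A : Set W.toScheme)ᶜ)ᶜ, (p.isClosedMap _ A.isOpen.isClosed_compl).isOpen_compl⟩
  have hA : ∀ w, w ∈ A ↔ p w ∈ V := fun w => by
    constructor
    · rintro hw ⟨z, hz, hzw⟩
      exact hz (hp'.sat_mem (rel_symm G ((hp.fibres z w).1 hzw)) hw)
    · intro hw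
      by_contra hn
      exact hw ⟨w, hn, rfl⟩
  have hmV : Set.range m ⊆ Set.range V.ι := by
    rintro _ ⟨y, rfl⟩
    obtain ⟨w, rfl⟩ := hp'.surj y
    rw [Scheme.Opens.range_ι, ← Scheme.Hom.comp_apply, hm, Scheme.Hom.comp_apply]
    refine (hA _).1 ?_
    show W.ι (G.U.homOfLE hle w) ∈ W'
    rw [← Scheme.Hom.comp_apply, Scheme.homOfLE_ι]
    exact w.2
  let m' : Y' ⟶ V.toScheme := IsOpenImmersion.lift V.ι m hmV
  have hrA : Set.range ((p ⁻¹ᵁ V).ι ≫ W.ι) ⊆ Set.range W'.ι := by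
    rintro _ ⟨w, rfl⟩
    rw [Scheme.Opens.range_ι]
    exact (hA _).2 w.2
  let e : (p ⁻¹ᵁ V).toScheme ⟶ W'.toScheme := IsOpenImmersion.lift W'.ι ((p ⁻¹ᵁ V).ι ≫ W.ι) hrA
  have he : e ≫ G.U.homOfLE hle = (p ⁻¹ᵁ V).ι := by
    rw [← cancel_mono W.ι, Category.assoc, Scheme.homOfLE_ι, IsOpenImmersion.lift_fac]
  have hei : Inv G ((p ⁻¹ᵁ V).ι ≫ W.ι) (e ≫ p') := by
    have := hp'.inv.precomp G e
    rwa [IsOpenImmersion.lift_fac] at this
  obtain ⟨n, hn, hnu⟩ := hp.desc V (e ≫ p') hei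
  have h1 : n ≫ m' = 𝟙 _ := by
    obtain ⟨k, -, hku⟩ := hp.desc V (p ∣_ V) (fun T a b r ha hb => by
      rw [← cancel_mono V.ι, Category.assoc, Category.assoc, morphismRestrict_ι]
      exact (hp.inv.precomp G (p ⁻¹ᵁ V).ι) a b r ha hb)
    refine (hku _ ?_).trans (hku _ (Category.comp_id _)).symm
    show (p ∣_ V) ≫ n ≫ m' = p ∣_ V
    rw [reassoc_of% hn, ← cancel_mono V.ι, Category.assoc, Category.assoc, IsOpenImmersion.lift_fac,
      morphismRestrict_ι, hm, reassoc_of% he]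
  have h2 : m' ≫ n = 𝟙 _ := by
    apply hp'.hom_ext
    have hr' : Set.range (G.U.homOfLE hle) ⊆ Set.range (p ⁻¹ᵁ V).ι := by
      rintro _ ⟨w, rfl⟩
      rw [Scheme.Opens.range_ι]
      refine (hA _).1 ?_
      show W.ι (G.U.homOfLE hle w) ∈ W'
      rw [← Scheme.Hom.comp_apply, Scheme.homOfLE_ι]
      exact w.2
    let f : W'.toScheme ⟶ (p ⁻¹ᵁ V).toScheme := IsOpenImmersion.lift (p ⁻¹ᵁ V).ι (G.U.homOfLE hle) hr'
    have hf : p' ≫ m' = f ≫ (p ∣_ V) := by
      rw [← cancel_mono V.ι, Category.assoc, Category.assoc, morphismRestrict_ι,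
        IsOpenImmersion.lift_fac, hm, IsOpenImmersion.lift_fac_assoc]
    have hfe : f ≫ e = 𝟙 _ := by
      rw [← cancel_mono (G.U.homOfLE hle), Category.assoc, he, IsOpenImmersion.lift_fac, Category.id_comp]
    rw [reassoc_of% hf, hn, reassoc_of% hfe, Category.comp_id]
  haveI : IsIso m' := ⟨n, h2, h1⟩
  refine ⟨m, hm, ?_⟩
  rw [show m = m' ≫ V.ι from (IsOpenImmersion.lift_fac _ _ _).symm]
  infer_instance

end IsQuot

section Glue

variable (G) [IsFinite G.s] [Flat G.s] [LocallyOfFinitePresentation G.s]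

/-- Invariant affine opens. -/
abbrev InvAff : Type u := {W : G.U.Opens // IsAffineOpen W ∧ G.s ⁻¹ᵁ W = G.t ⁻¹ᵁ W}

variable {G}

/-- The quotient of an invariant affine open. -/
noncomputable abbrev quotObj (W : InvAff G) : Scheme.{u} :=
  Spec (CommRingCat.of (restrict G W.1 W.2.2).invariants)

/-- Its quotient map. -/
noncomputable def quotMap (W : InvAff G) : W.1.toScheme ⟶ quotObj W := (restrict G W.1 W.2.2).toQuot

theorem isQuot_quotMap (W : InvAff G) : IsQuot G W.1 (quotMap W) := isQuot_affine G W.2.2 W.2.1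

/-- Transition map. -/
noncomputable def quotTrans {W' W : InvAff G} (h : W' ≤ W) : quotObj W' ⟶ quotObj W :=
  ((isQuot_quotMap W).exists_openImmersion h (isQuot_quotMap W')).choose

@[reassoc]
theorem quotMap_trans {W' W : InvAff G} (h : W' ≤ W) :
    quotMap W' ≫ quotTrans h = G.U.homOfLE h ≫ quotMap W :=
  ((isQuot_quotMap W).exists_openImmersion h (isQuot_quotMap W')).choose_spec.1

variable (G) in
/-- The diagram of local quotients. -/
noncomputable def quotFunctor : InvAff G ⥤ Scheme.{u} where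
  obj := quotObj
  map f := quotTrans (leOfHom f)
  map_id W := (isQuot_quotMap W).hom_ext (by
    rw [quotMap_trans, Scheme.homOfLE_rfl, Category.id_comp, Category.comp_id])
  map_comp {A B C} f g := (isQuot_quotMap A).hom_ext (by
    rw [quotMap_trans, quotMap_trans_assoc, quotMap_trans, Scheme.homOfLE_homOfLE_assoc])

instance {i j : InvAff G} (f : i ⟶ j) : IsOpenImmersion ((quotFunctor G).map f) :=
  ((isQuot_quotMap j).exists_openImmersion (leOfHom f) (isQuot_quotMap i)).choose_spec.2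

theorem trans_apply {W' W : InvAff G} (h : W' ≤ W) (x : W'.1.toScheme) :
    quotTrans h (quotMap W' x) = quotMap W (G.U.homOfLE h x) := by
  rw [← Scheme.Hom.comp_apply, quotMap_trans, Scheme.Hom.comp_apply]

/-- The intersection of two invariant affine opens inside a third. -/
def infAff {A B K : InvAff G} (hA : A ≤ K) (hB : B ≤ K) : InvAff G :=
  ⟨A.1 ⊓ B.1, by
    haveI : IsAffine K.1.toScheme := K.2.1
    have h := (IsAffineOpen.preimage_of_isOpenImmersion A.2.1 K.1.ι (by rwa [Scheme.Opens.opensRange_ι])).inf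
      (IsAffineOpen.preimage_of_isOpenImmersion B.2.1 K.1.ι (by rwa [Scheme.Opens.opensRange_ι]))
    have h2 := h.image_of_isOpenImmersion K.1.ι
    rwa [← Scheme.Hom.preimage_inf, Scheme.Hom.image_preimage_eq_opensRange_inf, Scheme.Opens.opensRange_ι,
      inf_eq_right.2 (inf_le_left.trans hA : A.1 ⊓ B.1 ≤ K.1)] at h2, by
    rw [Scheme.Hom.preimage_inf, Scheme.Hom.preimage_inf, A.2.2, B.2.2]⟩

instance : (quotFunctor G ⋙ Scheme.forget).IsLocallyDirected := by
  constructor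
  intro A B K fA fB xA xB h
  obtain ⟨a, ha⟩ := (isQuot_quotMap A).surj xA
  obtain ⟨b, hb⟩ := (isQuot_quotMap B).surj xB
  subst ha hb
  change quotTrans (leOfHom fA) (quotMap A a) = quotTrans (leOfHom fB) (quotMap B b) at h
  rw [trans_apply, trans_apply] at h
  have hrel : Rel G a.1 b.1 := by
    have := ((isQuot_quotMap K).fibres _ _).1 h
    rwa [← Scheme.Hom.comp_apply, ← Scheme.Hom.comp_apply, Scheme.homOfLE_ι, Scheme.homOfLE_ι] at this
  have haB : a.1 ∈ B.1 := (isQuot_quotMap B).sat_mem (rel_symm G hrel) b.2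
  refine ⟨infAff (leOfHom fA) (leOfHom fB), homOfLE (show infAff (leOfHom fA) (leOfHom fB) ≤ A from (inf_le_left : A.1 ⊓ B.1 ≤ A.1)),
    homOfLE (show infAff (leOfHom fA) (leOfHom fB) ≤ B from (inf_le_right : A.1 ⊓ B.1 ≤ B.1)),
    quotMap (infAff (leOfHom fA) (leOfHom fB)) ⟨a.1, a.2, haB⟩, ?_, ?_⟩
  · show quotTrans _ (quotMap _ _) = quotMap A a
    rw [trans_apply]
    congr 1
    apply A.1.ι.isOpenEmbedding.injective
    rw [← Scheme.Hom.comp_apply, Scheme.homOfLE_ι]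
    rfl
  · show quotTrans _ (quotMap _ _) = quotMap B b
    rw [trans_apply, (isQuot_quotMap B).fibres]
    have : B.1.ι (G.U.homOfLE (inf_le_right : A.1 ⊓ B.1 ≤ B.1) ⟨a.1, a.2, haB⟩) = a.1 := by
      rw [← Scheme.Hom.comp_apply, Scheme.homOfLE_ι]
      rfl
    exact (congrArg (fun z => Rel G z b.1) this).mpr hrel

variable (G) in
/-- The glued quotient. -/
noncomputable def glued : Scheme.{u} := colimit (quotFunctor G)

/-- The inclusion of a local quotient. -/
noncomputable def gι (W : InvAff G) : quotObj W ⟶ glued G := colimit.ι (quotFunctor G) W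

instance (W : InvAff G) : IsOpenImmersion (gι W) :=
  inferInstanceAs (IsOpenImmersion (colimit.ι (quotFunctor G) W))

theorem gι_w {A B : InvAff G} (h : A ≤ B) : quotTrans h ≫ gι B = gι A :=
  colimit.w (quotFunctor G) (homOfLE h)

theorem exists_quotient
    (hG : ∀ x : G.U, ∃ V : G.U.Opens, IsAffineOpen V ∧ ∀ y, Rel G x y → y ∈ V) :
    ∃ (Y : Scheme.{u}) (p : G.U ⟶ Y) (w : G.t ≫ p = G.s ≫ p),
      Nonempty (IsColimit (Cofork.ofπ p w)) ∧ IsIntegralHom p ∧ Surjective p ∧ IsOpenMap p.base ∧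
      (∀ x y : G.U, p x = p y ↔ Rel G x y) ∧ Function.Surjective (pullback.lift G.t G.s w).base ∧
      (IsAffine G.U → IsAffine Y) ∧
      (∀ y : Y, ∃ (W : InvAff G) (ι : quotObj W ⟶ Y), IsOpenImmersion ι ∧ y ∈ Set.range ι ∧
        IsPullback (quotMap W) W.1.ι ι p) := by
  obtain ⟨_, _, _⟩ := isFinite_t G
  let F := quotFunctor G
  have hin : ∀ (x : G.U) (O : G.U.Opens), (∀ y, Rel G x y → y ∈ O) → ∃ W : InvAff G, x ∈ W.1 ∧ W.1 ≤ O := by
    intro x O hO
    obtain ⟨V, hV, hxV⟩ := hG x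
    obtain ⟨W, hW, hle, hxW, hsat⟩ := exists_invariant_affine G x V O hV fun y hy => ⟨hxV y hy, hO y hy⟩
    exact ⟨⟨W, hW, hsat⟩, hxW, hle.trans inf_le_right⟩
  let Uc : InvAff G → G.U.Opens := fun W => W.1
  obtain ⟨p, hp⟩ := exists_glue Uc
    (fun x => (hin x ⊤ fun _ _ => trivial).imp fun W h => h.1)
    (fun W => quotMap W ≫ gι W) fun A B => by
    refine Scheme.hom_ext_of_forall _ _ fun x => ?_
    obtain ⟨W, hxW, hW⟩ := hin x.1 (A.1 ⊓ B.1) fun y hy =>
      ⟨(isQuot_quotMap A).sat_mem hy x.2.1, (isQuot_quotMap B).sat_mem hy x.2.2⟩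
    refine ⟨(A.1 ⊓ B.1).ι ⁻¹ᵁ W.1, hxW, ?_⟩
    let e := (A.1 ⊓ B.1).ι.resLE W.1 ((A.1 ⊓ B.1).ι ⁻¹ᵁ W.1) le_rfl
    have he : e ≫ G.U.homOfLE hW = ((A.1 ⊓ B.1).ι ⁻¹ᵁ W.1).ι := by
      rw [← cancel_mono (A.1 ⊓ B.1).ι, Category.assoc, Scheme.homOfLE_ι, Scheme.Hom.resLE_comp_ι]
    show _ ≫ G.U.homOfLE inf_le_left ≫ quotMap A ≫ gι A =
      _ ≫ G.U.homOfLE inf_le_right ≫ quotMap B ≫ gι B
    have hA : W ≤ A := hW.trans inf_le_left
    have hB : W ≤ B := hW.trans inf_le_right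
    rw [← he, Category.assoc, Category.assoc, Scheme.homOfLE_homOfLE_assoc, Scheme.homOfLE_homOfLE_assoc,
      ← quotMap_trans_assoc hA, ← quotMap_trans_assoc hB,
      gι_w hA, gι_w hB]
  have hpW : ∀ W : InvAff G, W.1.ι ≫ p = quotMap W ≫ gι W := hp
  have hval : ∀ (W : InvAff G) (x : W.1.toScheme), p x.1 = gι W (quotMap W x) := fun W x => by
    rw [← Scheme.Hom.comp_apply, ← hpW, Scheme.Hom.comp_apply]
    rfl
  have hpre : ∀ (W : InvAff G) (x : G.U), p x ∈ Set.range (gι W) → x ∈ W.1 := by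
    rintro W x ⟨y, hy⟩
    obtain ⟨W', hxW', -⟩ := hin x ⊤ fun _ _ => trivial
    rw [hval W' ⟨x, hxW'⟩] at hy
    obtain ⟨K, fW, fW', z, hz, hz'⟩ := Scheme.IsLocallyDirected.ι_eq_ι_iff F |>.1 hy
    obtain ⟨k, rfl⟩ := (isQuot_quotMap K).surj z
    change quotTrans (leOfHom fW') (quotMap K k) = quotMap W' ⟨x, hxW'⟩ at hz'
    rw [trans_apply, (isQuot_quotMap W').fibres] at hz'
    rw [← Scheme.Hom.comp_apply, Scheme.homOfLE_ι] at hz'
    exact leOfHom fW ((isQuot_quotMap K).sat_mem hz' k.2)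
  have hfib : ∀ x y, p x = p y ↔ Rel G x y := by
    intro x y
    obtain ⟨W, hxW, -⟩ := hin x ⊤ fun _ _ => trivial
    constructor
    · intro h
      have hyW : y ∈ W.1 := hpre W y ⟨quotMap W ⟨x, hxW⟩, by rw [← hval]; exact h⟩
      rw [hval W ⟨x, hxW⟩, hval W ⟨y, hyW⟩] at h
      exact ((isQuot_quotMap W).fibres _ _).1 ((gι W).isOpenEmbedding.injective h)
    · intro h
      have hyW : y ∈ W.1 := (isQuot_quotMap W).sat_mem h hxW
      rw [hval W ⟨x, hxW⟩, hval W ⟨y, hyW⟩, ((isQuot_quotMap W).fibres ⟨x, hxW⟩ ⟨y, hyW⟩).2 h]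
  have hw : G.t ≫ p = G.s ≫ p := by
    refine Scheme.hom_ext_of_forall _ _ fun r => ?_
    obtain ⟨W, hrW, -⟩ := hin (G.s r) ⊤ fun _ _ => trivial
    refine ⟨G.s ⁻¹ᵁ W.1, hrW, ?_⟩
    let b : (G.s ⁻¹ᵁ W.1).toScheme ⟶ W.1.toScheme := sW G W.1
    let a : (G.s ⁻¹ᵁ W.1).toScheme ⟶ W.1.toScheme := tW G W.1 W.2.2
    have h := (isQuot_quotMap W).inv a b (G.s ⁻¹ᵁ W.1).ι (tW_ι G W.1 W.2.2).symm (sW_ι G W.1).symm
    rw [← tW_ι_assoc G W.1 W.2.2, ← sW_ι_assoc G W.1, hpW]
    rw [← Category.assoc, h, Category.assoc]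
  have hsurj : Function.Surjective p := by
    intro y
    obtain ⟨W, z, rfl⟩ := Scheme.IsLocallyDirected.ι_jointly_surjective F y
    obtain ⟨x, rfl⟩ := (isQuot_quotMap W).surj z
    exact ⟨x.1, hval W x⟩
  have hpb : ∀ W : InvAff G, IsPullback (quotMap W) W.1.ι (gι W) p := fun W =>
    IsOpenImmersion.isPullback _ _ _ _ (hpW W) (by
      ext x
      constructor
      · intro hx
        rw [Scheme.Opens.opensRange_ι]
        exact hpre W x hx
      · intro hx
        rw [Scheme.Opens.opensRange_ι] at hx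
        exact ⟨_, (hval W ⟨x, hx⟩).symm⟩)
  have hint : IsIntegralHom p := by
    refine IsZariskiLocalAtTarget.of_openCover (P := @IsIntegralHom) (Scheme.IsLocallyDirected.openCover F) ?_
    intro W
    let W' : InvAff G := W
    show IsIntegralHom (pullback.snd p (gι W'))
    haveI := (isQuot_quotMap W').isIntegral
    have e := (hpb W').flip
    rw [show pullback.snd p (gι W') = e.isoPullback.inv ≫ quotMap W' from
      e.isoPullback_inv_snd.symm]
    rw [MorphismProperty.cancel_left_of_respectsIso (P := @IsIntegralHom)]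
    infer_instance
  haveI : Surjective p := ⟨hsurj⟩
  have hopen : IsOpenMap p.base := by
    intro O hO
    have hq : Topology.IsQuotientMap p.base :=
      IsClosedMap.isQuotientMap p.isClosedMap p.continuous hsurj
    rw [← hq.isOpen_preimage]
    have : p.base ⁻¹' (p.base '' O) = G.t '' (G.s ⁻¹' O) := by
      ext x
      constructor
      · rintro ⟨o, ho, hox⟩
        obtain ⟨r, hr, hrx⟩ := (hfib o x).1 hox
        exact ⟨r, show G.s r ∈ O from hr ▸ ho, hrx⟩
      · rintro ⟨r, hr, rfl⟩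
        exact ⟨G.s r, hr, (hfib _ _).2 ⟨r, rfl, rfl⟩⟩
    rw [this]
    exact G.t.isOpenMap _ (hO.preimage G.s.continuous)
  refine ⟨glued G, p, hw, ⟨?_⟩, hint, ⟨hsurj⟩, hopen, hfib, ?_, fun hU => ?_, fun y => ?_⟩
  · refine Cofork.IsColimit.mk' _ fun c => ?_
    have hc : G.t ≫ c.π = G.s ≫ c.π := c.condition
    have hinv : ∀ W : InvAff G, Inv G W.1.ι (W.1.ι ≫ c.π) := fun W T a b r h1 h2 => by
      rw [← Category.assoc, ← h1, ← Category.assoc, ← h2, Category.assoc, Category.assoc, hc]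
    choose h hh hu using fun W => (isQuot_quotMap W).desc_top _ (hinv W)
    have hnat : ∀ (A B : InvAff G) (f : A ⟶ B), quotTrans (leOfHom f) ≫ h B = h A := fun A B f => by
      apply (isQuot_quotMap A).hom_ext
      rw [quotMap_trans_assoc, hh, hh, Scheme.homOfLE_ι_assoc]
    let k : Cocone F :=
      { pt := c.pt
        ι := { app := h, naturality := fun A B f => (hnat A B f).trans (Category.comp_id _).symm } }
    have hk : ∀ W : InvAff G, gι W ≫ colimit.desc F k = h W := fun W => colimit.ι_desc k W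
    refine ⟨colimit.desc F k, ?_, fun {m} hm => ?_⟩
    · show p ≫ colimit.desc F k = c.π
      refine Scheme.hom_ext_of_forall _ _ fun x => ?_
      obtain ⟨W, hxW, -⟩ := hin x ⊤ fun _ _ => trivial
      refine ⟨W.1, hxW, ?_⟩
      rw [reassoc_of% hpW, hk]
      exact hh W
    · refine colimit.hom_ext (F := F) fun W => ?_
      show gι W ≫ m = gι W ≫ colimit.desc F k
      rw [hk]
      apply (isQuot_quotMap W).hom_ext
      rw [← Category.assoc, ← hpW, Category.assoc]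
      exact (congrArg (W.1.ι ≫ ·) hm).trans (hh W).symm
  · intro z
    let kk : Type u := AlgebraicClosure ((pullback p p).residueField z)
    let pt : Spec (CommRingCat.of kk) ⟶ pullback p p :=
      Spec.map (CommRingCat.ofHom (algebraMap ((pullback p p).residueField z) kk)) ≫
        (pullback p p).fromSpecResidueField z
    have hpt : ∀ w, pt w = z := fun w => by
      rw [Scheme.Hom.comp_apply, Scheme.fromSpecResidueField_apply]
    obtain ⟨W, hxW, -⟩ := hin (pullback.fst p p z) ⊤ fun _ _ => trivial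
    have hyW : pullback.snd p p z ∈ W.1 := hpre W _ ⟨quotMap W ⟨_, hxW⟩, by
      rw [← hval, ← Scheme.Hom.comp_apply, pullback.condition]; rfl⟩
    have hr0 : Set.range (pt ≫ pullback.fst p p) ⊆ Set.range W.1.ι := by
      rintro _ ⟨w, rfl⟩
      rw [Scheme.Opens.range_ι, Scheme.Hom.comp_apply, hpt]
      exact hxW
    have hr1 : Set.range (pt ≫ pullback.snd p p) ⊆ Set.range W.1.ι := by
      rintro _ ⟨w, rfl⟩
      rw [Scheme.Opens.range_ι, Scheme.Hom.comp_apply, hpt]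
      exact hyW
    let x0 := IsOpenImmersion.lift W.1.ι _ hr0
    let x1 := IsOpenImmersion.lift W.1.ι _ hr1
    have heq : x0 ≫ quotMap W = x1 ≫ quotMap W := by
      rw [← cancel_mono (gι W), Category.assoc, Category.assoc, ← hpW,
        IsOpenImmersion.lift_fac_assoc, IsOpenImmersion.lift_fac_assoc]
      simp only [Category.assoc, pullback.condition]
    obtain ⟨r, hrt, hrs⟩ := (isQuot_quotMap W).geom kk x0 x1 heq
    let w : Spec (CommRingCat.of kk) := IsLocalRing.closedPoint kk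
    refine ⟨r w, ?_⟩
    have : r ≫ pullback.lift G.t G.s hw = pt := by
      apply pullback.hom_ext
      · rw [Category.assoc, pullback.lift_fst, hrt, IsOpenImmersion.lift_fac]
      · rw [Category.assoc, pullback.lift_snd, hrs, IsOpenImmersion.lift_fac]
    show (pullback.lift G.t G.s hw) (r w) = z
    rw [← Scheme.Hom.comp_apply, this]
    exact hpt w
  · let T : InvAff G := ⟨⊤, isAffineOpen_top G.U, rfl⟩
    haveI : IsAffine (quotObj T) := inferInstanceAs (IsAffine (Spec _))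
    haveI : Surjective (gι T) := ⟨fun y => by
      obtain ⟨x, rfl⟩ := hsurj y
      exact ⟨_, (hval T ⟨x, trivial⟩).symm⟩⟩
    haveI : IsIso (gι T) :=
      (isIso_iff_isOpenImmersion_and_surjective (gι T)).2 ⟨inferInstance, inferInstance⟩
    exact IsAffine.of_isIso (inv (gι T))
  · obtain ⟨W, z, rfl⟩ := Scheme.IsLocallyDirected.ι_jointly_surjective F y
    exact ⟨W, gι W, inferInstance, ⟨z, rfl⟩, hpb W⟩

end Glue

end Groth.Agent.L24.Quot
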