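import Groth.Agent.L24.Quot.Glue
import Groth.Agent.L24.Quot.Affine

/-!
# The quotient of a free finite flat groupoid scheme
-/

set_option backward.isDefEq.respectTransparency.types false

universe u

namespace Groth.Agent.L24.Quot

open AlgebraicGeometry CategoryTheory CategoryTheory.Limits Topology TopologicalSpace

variable {S : Scheme.{u}} (G : Grpd.GroupoidScheme S) [IsFinite G.s] [Flat G.s]
  [LocallyOfFinitePresentation G.s] [Mono G.j]

theorem affine_free (W : InvAff G) :
    IsFinite (quotMap W) ∧ Flat (quotMap W) ∧ LocallyOfFinitePresentation (quotMap W) ∧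
      IsPullback (tW G W.1 W.2.2) (sW G W.1) (quotMap W) (quotMap W) := by
  haveI : IsAffine (restrict G W.1 W.2.2).U := W.2.1
  haveI : IsFinite (restrict G W.1 W.2.2).s := restrict_s_prop G W.1 W.2.2 @IsFinite inferInstance
  haveI : Flat (restrict G W.1 W.2.2).s := restrict_s_prop G W.1 W.2.2 @Flat inferInstance
  haveI : LocallyOfFinitePresentation (restrict G W.1 W.2.2).s :=
    restrict_s_prop G W.1 W.2.2 @LocallyOfFinitePresentation inferInstance
  haveI := mono_restrict_j G W.1 W.2.2
  exact finite_flat_toQuot (restrict G W.1 W.2.2)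

theorem exists_free_quotient
    (hG : ∀ x : G.U, ∃ V : G.U.Opens, IsAffineOpen V ∧ ∀ y, Rel G x y → y ∈ V) :
    ∃ (Y : Scheme.{u}) (p : G.U ⟶ Y) (w : G.t ≫ p = G.s ≫ p),
      Nonempty (IsColimit (Cofork.ofπ p w)) ∧ IsPullback G.t G.s p p ∧
      IsFinite p ∧ Flat p ∧ LocallyOfFinitePresentation p := by
  obtain ⟨Y, p, w, hc, -, -, -, hfib, -, -, hloc⟩ := exists_quotient (G := G) hG
  choose Wc ιc hιc hyc hpb using hloc
  haveI : ∀ y, IsOpenImmersion (ιc y) := hιc
  refine ⟨Y, p, w, hc, ?_, ?_⟩
  · have hjc : ∀ {T : Scheme.{u}} (r r' : T ⟶ G.R), r ≫ G.t = r' ≫ G.t → r ≫ G.s = r' ≫ G.s → r = r' := by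
      intro T r r' h1 h2
      rw [← cancel_mono G.j]
      apply pullback.hom_ext <;>
        simp only [Grpd.GroupoidScheme.j, Category.assoc, pullback.lift_fst, pullback.lift_snd] <;> assumption
    let P := pullback p p
    let a : P ⟶ G.U := pullback.fst p p
    let b : P ⟶ G.U := pullback.snd p p
    have hloc' : ∀ z : P, ∃ (O : P.Opens) (r : O.toScheme ⟶ G.R),
        z ∈ O ∧ r ≫ G.t = O.ι ≫ a ∧ r ≫ G.s = O.ι ≫ b := by
      intro z
      let y := p (a z)
      let W := Wc y
      have hmem : ∀ x : G.U, x ∈ W.1 ↔ p x ∈ Set.range (ιc y) := fun x => by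
        constructor
        · intro hx
          refine ⟨quotMap W ⟨x, hx⟩, ?_⟩
          rw [← Scheme.Hom.comp_apply, (hpb y).w]
          rfl
        · rintro ⟨q, hq⟩
          obtain ⟨x', rfl⟩ := (isQuot_quotMap W).surj q
          rw [← Scheme.Hom.comp_apply, (hpb y).w, Scheme.Hom.comp_apply] at hq
          exact (isQuot_quotMap W).sat_mem ((hfib _ _).1 hq) x'.2
      have hza : a z ∈ W.1 := (hmem _).2 (hyc y)
      let O : P.Opens := a ⁻¹ᵁ W.1
      have hra : Set.range (O.ι ≫ a) ⊆ Set.range W.1.ι := by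
        rintro _ ⟨v, rfl⟩
        rw [Scheme.Opens.range_ι]
        exact v.2
      have hrb : Set.range (O.ι ≫ b) ⊆ Set.range W.1.ι := by
        rintro _ ⟨v, rfl⟩
        rw [Scheme.Opens.range_ι]
        refine (hmem _).2 ?_
        rw [← Scheme.Hom.comp_apply, Category.assoc, show b ≫ p = a ≫ p from pullback.condition.symm]
        exact (hmem (a v.1)).1 v.2
      obtain ⟨-, -, -, hsq⟩ := affine_free G W
      have heq : IsOpenImmersion.lift W.1.ι (O.ι ≫ a) hra ≫ quotMap W =
          IsOpenImmersion.lift W.1.ι (O.ι ≫ b) hrb ≫ quotMap W := by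
        rw [← cancel_mono (ιc y), Category.assoc, Category.assoc, (hpb y).w,
          IsOpenImmersion.lift_fac_assoc, IsOpenImmersion.lift_fac_assoc, Category.assoc, Category.assoc]
        congr 1
        exact pullback.condition
      refine ⟨O, hsq.lift _ _ heq ≫ (G.s ⁻¹ᵁ W.1).ι, hza, ?_, ?_⟩
      · rw [Category.assoc, ← tW_ι G W.1 W.2.2, ← Category.assoc, hsq.lift_fst, IsOpenImmersion.lift_fac]
      · rw [Category.assoc, ← sW_ι G W.1, ← Category.assoc, hsq.lift_snd, IsOpenImmersion.lift_fac]
    choose O r hO hrt hrs using hloc'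
    obtain ⟨rr, hrr⟩ := exists_glue O (fun z => ⟨z, hO z⟩) r (fun i j => hjc _ _
      (by rw [Category.assoc, Category.assoc, hrt, hrt, Scheme.homOfLE_ι_assoc, Scheme.homOfLE_ι_assoc])
      (by rw [Category.assoc, Category.assoc, hrs, hrs, Scheme.homOfLE_ι_assoc, Scheme.homOfLE_ι_assoc]))
    have h1 : rr ≫ G.t = a := Scheme.hom_ext_of_forall _ _ fun z => ⟨O z, hO z, by
      rw [reassoc_of% hrr, hrt]⟩
    have h2 : rr ≫ G.s = b := Scheme.hom_ext_of_forall _ _ fun z => ⟨O z, hO z, by
      rw [reassoc_of% hrr, hrs]⟩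
    exact .of_isLimit (PullbackCone.IsLimit.mk w (fun c => pullback.lift c.fst c.snd c.condition ≫ rr)
      (fun c => by rw [Category.assoc, h1, pullback.lift_fst])
      (fun c => by rw [Category.assoc, h2, pullback.lift_snd])
      (fun c m hm1 hm2 => hjc _ _
        (by rw [hm1, Category.assoc, h1, pullback.lift_fst])
        (by rw [hm2, Category.assoc, h2, pullback.lift_snd])))
  · let cov : Y.OpenCover := Scheme.Cover.mkOfCovers Y (fun y => quotObj (Wc y)) ιc
      (fun y => ⟨y, hyc y⟩) fun y => hιc y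
    have hP : ∀ (P : MorphismProperty Scheme.{u}) [IsZariskiLocalAtTarget P],
        (∀ W : InvAff G, P (quotMap W)) → P p := by
      intro P _ h
      refine IsZariskiLocalAtTarget.of_openCover (P := P) cov fun y => ?_
      show P (pullback.snd p (ιc y))
      rw [show pullback.snd p (ιc y) = (hpb y).flip.isoPullback.inv ≫ quotMap (Wc y) from
        (hpb y).flip.isoPullback_inv_snd.symm, P.cancel_left_of_respectsIso]
      exact h _
    exact ⟨hP @IsFinite fun W => (affine_free G W).1, hP @Flat fun W => (affine_free G W).2.1,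
      hP @LocallyOfFinitePresentation fun W => (affine_free G W).2.2.1⟩

end Groth.Agent.L24.Quot
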