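import Groth.Agent.L24.Quot.IsQuot

/-!
# The invariant spectrum is a quotient on invariant affine opens
-/

set_option backward.isDefEq.respectTransparency.types false

universe u

namespace Groth.Agent.L24.Quot

open AlgebraicGeometry CategoryTheory CategoryTheory.Limits Topology TopologicalSpace

variable {S : Scheme.{u}} (G : Grpd.GroupoidScheme S) [IsFinite G.s] [Flat G.s]
  [LocallyOfFinitePresentation G.s]

theorem isFinite_t : IsFinite G.t ∧ Flat G.t ∧ LocallyOfFinitePresentation G.t := by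
  haveI := isIso_i G
  rw [t_eq_i_comp G]
  exact ⟨inferInstance, inferInstance, inferInstance⟩

theorem tW_iff {W : G.U.Opens} {hW : G.s ⁻¹ᵁ W = G.t ⁻¹ᵁ W} {T : Scheme.{u}}
    (r : T ⟶ (G.s ⁻¹ᵁ W).toScheme) (x : T ⟶ W.toScheme) :
    r ≫ tW G W hW = x ↔ (r ≫ (G.s ⁻¹ᵁ W).ι) ≫ G.t = x ≫ W.ι := by
  rw [← cancel_mono W.ι, Category.assoc, Category.assoc, tW_ι]

theorem sW_iff {W : G.U.Opens} {T : Scheme.{u}}
    (r : T ⟶ (G.s ⁻¹ᵁ W).toScheme) (x : T ⟶ W.toScheme) :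
    r ≫ sW G W = x ↔ (r ≫ (G.s ⁻¹ᵁ W).ι) ≫ G.s = x ≫ W.ι := by
  rw [← cancel_mono W.ι, Category.assoc, Category.assoc, sW_ι]

theorem isQuot_affine {W : G.U.Opens} (hW : G.s ⁻¹ᵁ W = G.t ⁻¹ᵁ W) (hWa : IsAffineOpen W) :
    IsQuot G W ((restrict G W hW).toQuot :
      W.toScheme ⟶ Spec (CommRingCat.of (restrict G W hW).invariants)) := by
  obtain ⟨_, _, _⟩ := isFinite_t G
  let G' := restrict G W hW
  haveI : IsAffine G'.U := hWa
  haveI : IsFinite G'.s := restrict_s_prop G W hW @IsFinite inferInstance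
  haveI : Flat G'.s := restrict_s_prop G W hW @Flat inferInstance
  haveI : LocallyOfFinitePresentation G'.s := restrict_s_prop G W hW @LocallyOfFinitePresentation inferInstance
  haveI : IsFinite G'.t := restrict_t_prop G W hW @IsFinite inferInstance
  haveI : Flat G'.t := restrict_t_prop G W hW @Flat inferInstance
  haveI : LocallyOfFinitePresentation G'.t :=
    restrict_t_prop G W hW @LocallyOfFinitePresentation inferInstance
  haveI : IsAffine G'.R := isAffine_of_isAffineHom G'.s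
  have h78 := Groth.Agent.S1878.result S G'
  have hinv : ∀ {X Z : Scheme.{u}} (j : X ⟶ W.toScheme) (g : X ⟶ Z),
      Inv G (j ≫ W.ι) g → Inv G' j g := fun j g hg T a b r h1 h2 =>
    hg a b (r ≫ (G.s ⁻¹ᵁ W).ι) (((tW_iff G (hW := hW) r (a ≫ j)).1 h1).trans (Category.assoc _ _ _))
      (((sW_iff G r (b ≫ j)).1 h2).trans (Category.assoc _ _ _))
  refine
    { sat := hW
      inv := fun T a b r h1 h2 => ?_
      surj := h78.1.1
      isIntegral := closed_toQuot G'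
      fibres := fun x y => ?_
      geom := fun k _ _ x₀ x₁ h => ?_
      desc := fun V Z g hg => ?_ }
  · have hr : Set.range r ⊆ Set.range (G.s ⁻¹ᵁ W).ι := by
      rintro _ ⟨w, rfl⟩
      rw [Scheme.Opens.range_ι]
      show G.s (r w) ∈ W
      rw [← Scheme.Hom.comp_apply, h2, Scheme.Hom.comp_apply]
      exact (b w).2
    let r' : T ⟶ (G.s ⁻¹ᵁ W).toScheme :=
      @IsOpenImmersion.lift _ _ _ (G.s ⁻¹ᵁ W).ι r (inferInstanceAs (IsOpenImmersion (G.s ⁻¹ᵁ W).ι)) hr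
    have hr' : r' ≫ (G.s ⁻¹ᵁ W).ι = r := IsOpenImmersion.lift_fac _ _ _
    have ha : r' ≫ tW G W hW = a := (tW_iff G r' a).2 (by rw [hr', h1])
    have hb : r' ≫ sW G W = b := (sW_iff G r' b).2 (by rw [hr', h2])
    exact inv_toQuot G' a b (r' : T ⟶ G'.R) (show (r' : T ⟶ G'.R) ≫ G'.t = a ≫ 𝟙 G'.U from
        ha.trans (Category.comp_id (a : T ⟶ G'.U)).symm)
      (show (r' : T ⟶ G'.R) ≫ G'.s = b ≫ 𝟙 G'.U from hb.trans (Category.comp_id (b : T ⟶ G'.U)).symm)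
  · refine (h78.1.2 x y).trans ⟨?_, ?_⟩
    · rintro ⟨r, hrt, hrs⟩
      refine rel_symm G ⟨(G.s ⁻¹ᵁ W).ι r, ?_, ?_⟩
      · have h : G.s ((G.s ⁻¹ᵁ W).ι r) = W.ι (sW G W r) := by
          rw [← Scheme.Hom.comp_apply, ← Scheme.Hom.comp_apply, sW_ι]
        exact h.trans (congrArg W.ι hrs)
      · have h : G.t ((G.s ⁻¹ᵁ W).ι r) = W.ι (tW G W hW r) := by
          rw [← Scheme.Hom.comp_apply, ← Scheme.Hom.comp_apply, tW_ι]
        exact h.trans (congrArg W.ι hrt)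
    · intro hxy
      obtain ⟨r, hrs, hrt⟩ := rel_symm G hxy
      have hr : r ∈ G.s ⁻¹ᵁ W := (show G.s r ∈ W from hrs ▸ y.2)
      refine ⟨⟨r, hr⟩, W.ι.isOpenEmbedding.injective ?_, W.ι.isOpenEmbedding.injective ?_⟩
      · show W.ι (tW G W hW ⟨r, hr⟩) = W.ι x
        rw [← Scheme.Hom.comp_apply, tW_ι, Scheme.Hom.comp_apply]
        exact hrt
      · show W.ι (sW G W ⟨r, hr⟩) = W.ι y
        rw [← Scheme.Hom.comp_apply, sW_ι, Scheme.Hom.comp_apply]
        exact hrs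
  · obtain ⟨r, hrt, hrs⟩ := ((h78.2 k).2 x₀ x₁).1 h
    exact ⟨r ≫ (G.s ⁻¹ᵁ W).ι, (tW_iff G (hW := hW) r x₀).1 hrt, (sW_iff G r x₁).1 hrs⟩
  · obtain ⟨h, hh⟩ := desc_exists G' V g (hinv (G'.toQuot ⁻¹ᵁ V).ι g hg)
    exact ⟨h, hh, fun h' hh' => desc_ext G' V h' h (hh'.trans hh.symm)⟩

end Groth.Agent.L24.Quot
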