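import Groth.Agent.L24.Quot.Dat

/-!
# Base change of finite flat groupoid data
-/

universe u

namespace Groth.Agent.L24.Quot

open Polynomial TensorProduct

variable {C : Type u} [CommRing C] (C' : Type u) [CommRing C'] [Algebra C C']

/-- Base change of an algebra map. -/
noncomputable abbrev bcHom {A B : Type u} [CommRing A] [CommRing B] [Algebra C A] [Algebra C B]
    (f : A →ₐ[C] B) : C' ⊗[C] A →ₐ[C'] C' ⊗[C] B :=
  Algebra.TensorProduct.map (AlgHom.id C' C') f

namespace Pres

variable {A B : Type u} [CommRing A] [CommRing B] [Algebra C A] [Algebra C B]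
  {s : A →ₐ[C] B} {n : ℕ} (P : Pres (s : A →+* B) n)

/-- The dual functionals are `C`-linear. -/
noncomputable def φLin (i : Fin n) : B →ₗ[C] A where
  toFun := P.φ i
  map_add' := map_add _
  map_smul' c x := by
    have h : (algebraMap C B c) = (s : A →+* B) (algebraMap C A c) := (s.commutes c).symm
    rw [RingHom.id_apply, Algebra.smul_def, h, P.φ_mul, Algebra.smul_def]

theorem bc_φ_mul (i : Fin n) (a : C' ⊗[C] A) (x : C' ⊗[C] B) :
    (P.φLin i).baseChange C' (bcHom C' s a * x) = a * (P.φLin i).baseChange C' x := by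
  induction a with
  | zero => simp
  | add a b ha hb => simp only [map_add, add_mul, ha, hb]
  | tmul c a =>
    induction x with
    | zero => simp
    | add x y hx hy => simp only [map_add, mul_add, hx, hy]
    | tmul c' x => simp [φLin, ← P.φ_mul i a x]

theorem bc_sum (x : C' ⊗[C] B) :
    ∑ i, bcHom C' s ((P.φLin i).baseChange C' x) * (1 ⊗ₜ P.b i) = x := by
  induction x with
  | zero => simp
  | add x y hx hy => simp only [map_add, add_mul, Finset.sum_add_distrib, hx, hy]
  | tmul c x =>
    simp only [LinearMap.baseChange_tmul, Algebra.TensorProduct.map_tmul, AlgHom.coe_id, id_eq,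
      Algebra.TensorProduct.tmul_mul_tmul, mul_one, ← TensorProduct.tmul_sum]
    exact congrArg (c ⊗ₜ[C] ·) (P.sum x)

/-- Base change of a presentation. -/
noncomputable def bc : Pres ((bcHom C' s : C' ⊗[C] A →ₐ[C'] C' ⊗[C] B) : C' ⊗[C] A →+* C' ⊗[C] B) n where
  b i := 1 ⊗ₜ P.b i
  φ i := ((P.φLin i).baseChange C').toAddMonoidHom
  φ_mul i a x := P.bc_φ_mul C' i a x
  sum x := P.bc_sum C' x

theorem compat_bc : Compat P (P.bc C')
    ((Algebra.TensorProduct.includeRight : A →ₐ[C] C' ⊗[C] A) : A →+* C' ⊗[C] A)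
    ((Algebra.TensorProduct.includeRight : B →ₐ[C] C' ⊗[C] B) : B →+* C' ⊗[C] B) :=
  ⟨fun _ => rfl, fun i x => by simp [bc, φLin]⟩

theorem compat_bc_bc {C'' : Type u} [CommRing C''] [Algebra C C''] (g : C'' →ₐ[C] C') :
    Compat (P.bc C'') (P.bc C')
      ((Algebra.TensorProduct.map g (AlgHom.id C A)) : C'' ⊗[C] A →+* C' ⊗[C] A)
      ((Algebra.TensorProduct.map g (AlgHom.id C B)) : C'' ⊗[C] B →+* C' ⊗[C] B) := by
  refine ⟨fun i => by simp [bc], fun i x => ?_⟩
  induction x with
  | zero => simp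
  | add x y hx hy => simp only [map_add, hx, hy]
  | tmul c x => simp [bc]

theorem Compat.bc {A₂ B₂ : Type u} [CommRing A₂] [CommRing B₂] [Algebra C A₂] [Algebra C B₂]
    {s₂ : A₂ →ₐ[C] B₂} {P₂ : Pres (s₂ : A₂ →+* B₂) n} {f : A →ₐ[C] A₂} {q : B →ₐ[C] B₂}
    (h : Compat P P₂ (f : A →+* A₂) (q : B →+* B₂)) :
    Compat (P.bc C') (P₂.bc C') ((bcHom C' f) : C' ⊗[C] A →+* C' ⊗[C] A₂)
      ((bcHom C' q) : C' ⊗[C] B →+* C' ⊗[C] B₂) := by
  refine ⟨fun i => ?_, fun i x => ?_⟩
  · simp [Pres.bc, h.b_eq]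
  · induction x with
    | zero => simp
    | add x y hx hy => simp only [map_add, hx, hy]
    | tmul c x =>
      have := h.φ_eq i x
      simp_all [Pres.bc, φLin]

end Pres

namespace Dat

variable {A B D : Type u} [CommRing A] [CommRing B] [CommRing D]
  [Algebra C A] [Algebra C B] [Algebra C D] (d : Dat C A B D)

/-- Base change of groupoid data along `C → C'`. -/
noncomputable def bc : Dat C' (C' ⊗[C] A) (C' ⊗[C] B) (C' ⊗[C] D) where
  s := bcHom C' d.s
  t := bcHom C' d.t
  p1 := bcHom C' d.p1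
  p2 := bcHom C' d.p2
  m := bcHom C' d.m
  e := bcHom C' d.e
  n := d.n
  P := d.P.bc C'
  Pt := d.Pt.bc C'
  Ps := d.Ps.bc C'
  ct := Pres.Compat.bc C' d.P d.ct
  cs := Pres.Compat.bc C' d.P d.cs
  mt a := by
    induction a with
    | zero => simp
    | add a b ha hb => simp only [map_add, ha, hb]
    | tmul c a => simp [d.mt]
  es a := by
    induction a with
    | zero => simp
    | add a b ha hb => simp only [map_add, ha, hb]
    | tmul c a => simp [d.es]
  et a := by
    induction a with
    | zero => simp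
    | add a b ha hb => simp only [map_add, ha, hb]
    | tmul c a => simp [d.et]

theorem bc_full [Module.Flat C C'] (h : d.Full) : (d.bc C').Full := by
  intro a ha
  have hex : Function.Exact (Algebra.linearMap C A) (d.s.toLinearMap - d.t.toLinearMap) := by
    intro x
    constructor
    · exact fun hx => h x (sub_eq_zero.1 hx)
    · rintro ⟨c, rfl⟩
      simp
  obtain ⟨z, hz⟩ := (Module.Flat.lTensor_exact C' hex a).1 (by
    rw [LinearMap.lTensor_sub, LinearMap.sub_apply, sub_eq_zero]
    exact ha)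
  refine ⟨(TensorProduct.rid C C') z, ?_⟩
  rw [← hz]
  clear hz
  induction z with
  | zero => simp
  | add x y hx hy => simp only [map_add, hx, hy]
  | tmul c r =>
    rw [LinearMap.lTensor_tmul, TensorProduct.rid_tmul, Algebra.TensorProduct.algebraMap_apply,
      Algebra.algebraMap_self, RingHom.id_apply, TensorProduct.smul_tmul, Algebra.linearMap_apply,
      Algebra.algebraMap_eq_smul_one]

theorem bc_injective [Module.Flat C C'] (h : Function.Injective (algebraMap C A)) :
    Function.Injective (algebraMap C' (C' ⊗[C] A)) := by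
  intro x y hxy
  apply (TensorProduct.rid C C').symm.injective
  apply Module.Flat.lTensor_preserves_injective_linearMap (M := C') (Algebra.linearMap C A) h
  simpa [Algebra.TensorProduct.algebraMap_apply, Algebra.linearMap] using hxy

theorem bc_gen {ι : Type} [Fintype ι] {a : ι → A} (h : d.Gen a) :
    (d.bc C').Gen fun j => 1 ⊗ₜ a j := by
  intro y
  induction y with
  | zero => exact ⟨0, by simp⟩
  | add x y hx hy =>
    obtain ⟨c, rfl⟩ := hx
    obtain ⟨c', rfl⟩ := hy
    exact ⟨c + c', by simp [add_mul, Finset.sum_add_distrib]⟩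
  | tmul r y =>
    obtain ⟨c, rfl⟩ := h y
    exact ⟨fun j => r ⊗ₜ c j, by simp [bc, TensorProduct.tmul_sum]⟩

theorem bc_rkE (h : d.Full) (r : ℕ) :
    ∃ c, algebraMap C' (C' ⊗[C] A) c = (d.bc C').P.rkE r := by
  obtain ⟨c, hc⟩ := h _ (d.rkE_inv r).symm
  refine ⟨algebraMap C C' c, ?_⟩
  show _ = (d.P.bc C').rkE r
  rw [(d.P.compat_bc C').rkE_map, ← hc]
  simp [← IsScalarTower.algebraMap_apply]

theorem bc_lifts (h : d.Full) : (d.bc C').Lifts := by
  intro f
  let g : MvPolynomial C' C →ₐ[C] C' := MvPolynomial.aeval id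
  have hsurj : Function.Surjective (Algebra.TensorProduct.map g (AlgHom.id C A)) := by
    intro z
    induction z with
    | zero => exact ⟨0, map_zero _⟩
    | add x y hx hy =>
      obtain ⟨x', rfl⟩ := hx
      obtain ⟨y', rfl⟩ := hy
      exact ⟨x' + y', map_add _ _ _⟩
    | tmul c a => exact ⟨MvPolynomial.X c ⊗ₜ a, by simp [g]⟩
  obtain ⟨f', rfl⟩ := hsurj f
  obtain ⟨q, hq⟩ := (d.bc (MvPolynomial C' C)).lifts_of_full (d.bc_full _ h) f'
  have ht : ∀ z, Algebra.TensorProduct.map g (AlgHom.id C B) (bcHom (MvPolynomial C' C) d.t z) =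
      bcHom C' d.t (Algebra.TensorProduct.map g (AlgHom.id C A) z) := by
    intro z
    induction z with
    | zero => simp
    | add x y hx hy => simp only [map_add, hx, hy]
    | tmul c a => simp
  have hc := (d.P.compat_bc_bc C' g).chr_map ((d.bc (MvPolynomial C' C)).t f')
  refine ⟨q.map (g : MvPolynomial C' C →+* C'), ?_⟩
  show _ = (d.P.bc C').chr (bcHom C' d.t _)
  rw [← ht f']
  refine Eq.trans ?_ hc.symm
  show _ = Polynomial.map _ ((d.bc (MvPolynomial C' C)).P.chr _)
  rw [← hq, coe_mapRingHom, coe_mapRingHom, Polynomial.map_map, Polynomial.map_map]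
  congr 1

end Dat

end Groth.Agent.L24.Quot
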