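import Groth.Agent.L24.Quot.BC

/-!
# Bases of the form `t(x i)` descend to the invariants
-/

universe u

namespace Groth.Agent.L24.Quot

open TensorProduct

variable {C A B D : Type u} [CommRing C] [CommRing A] [CommRing B] [CommRing D]
  [Algebra C A] [Algebra C B] [Algebra C D]

/-- The hypotheses of basis descent. -/
structure BasisData (s t : A →ₐ[C] B) (e : B →ₐ[C] A) (p1 p2 m : B →ₐ[C] D) {I : Type u} (x : I → A) :
    Prop where
  p1s : ∀ a, p1 (s a) = p2 (t a)
  ms : ∀ a, m (s a) = p2 (s a)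
  mt : ∀ a, m (t a) = p1 (t a)
  es : ∀ a, e (s a) = a
  et : ∀ a, e (t a) = a
  full : ∀ a, s a = t a → ∃ c, algebraMap C A c = a
  inj : Function.Injective (algebraMap C A)
  surj : ∀ y, ∃ c : I →₀ A, (c.sum fun i a => s a * t (x i)) = y
  indB : ∀ c : I →₀ A, (c.sum fun i a => s a * t (x i)) = 0 → c = 0
  indD : ∀ c : I →₀ B, (c.sum fun i b => p2 b * p1 (t (x i))) = 0 → c = 0

namespace BasisData

variable {s t : A →ₐ[C] B} {e : B →ₐ[C] A} {p1 p2 m : B →ₐ[C] D} {I : Type u} {x : I → A}
  (h : BasisData s t e p1 p2 m x)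
include h

/-- `x` is a basis of `A` over `C`. -/
theorem exists_basis : ∃ b : Module.Basis I C A, ∀ i, b i = x i := by
  classical
  have li : LinearIndependent C x := by
    rw [linearIndependent_iff]
    intro l hl
    have h1 : (l.mapRange (algebraMap C A) (map_zero _)) = 0 := by
      apply h.indB
      rw [Finsupp.sum_mapRange_index (fun i => by rw [map_zero, zero_mul])]
      rw [Finsupp.linearCombination_apply] at hl
      have := congrArg t hl
      rw [map_zero, map_finsuppSum] at this
      rw [← this]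
      refine Finsupp.sum_congr fun i _ => ?_
      rw [map_smul, Algebra.smul_def, AlgHom.commutes]
    ext i
    exact h.inj (by simpa using Finsupp.ext_iff.1 h1 i)
  have sp : ⊤ ≤ Submodule.span C (Set.range x) := by
    rintro a -
    obtain ⟨c, hc⟩ := h.surj (t a)
    have hp1 := congrArg p1 hc
    have hm := congrArg m hc
    simp only [map_finsuppSum, map_mul, h.p1s, h.ms, h.mt] at hp1 hm
    have hd : (c.mapRange (fun a => t a - s a) (by simp)) = 0 := by
      apply h.indD
      rw [Finsupp.sum_mapRange_index (fun i => by rw [map_zero, zero_mul])]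
      simp only [map_sub, sub_mul]
      rw [Finsupp.sum_sub, hp1, hm, sub_self]
    have hc' : ∀ i, ∃ γ, algebraMap C A γ = c i := fun i => h.full _ (by
      have := Finsupp.ext_iff.1 hd i
      rw [Finsupp.mapRange_apply, Finsupp.zero_apply, sub_eq_zero] at this; exact this.symm)
    choose γ hγ using hc'
    have ha := congrArg e hc
    simp only [map_finsuppSum, map_mul, h.es, h.et] at ha
    rw [← ha]
    refine Submodule.sum_mem _ fun i _ => ?_
    show c i * x i ∈ _
    rw [← hγ i, ← Algebra.smul_def]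
    exact Submodule.smul_mem _ _ (Submodule.subset_span ⟨i, rfl⟩)
  exact ⟨Module.Basis.mk li sp, fun i => Module.Basis.mk_apply li sp i⟩

/-- `A ⊗_C A ≅ B`. -/
theorem bijective_of_tmul (μ : A ⊗[C] A →ₗ[C] B) (hμ : ∀ a a', μ (a ⊗ₜ a') = s a * t a') :
    Function.Bijective μ := by
  classical
  obtain ⟨b, hb⟩ := h.exists_basis
  let Ψ : (I →₀ A) →ₗ[C] A ⊗[C] A := Finsupp.lsum C fun i => (TensorProduct.mk C A A).flip (x i)
  have hΨ : ∀ c, μ (Ψ c) = c.sum fun i a => s a * t (x i) := fun c => by
    simp [Ψ, Finsupp.lsum_apply, map_finsuppSum, hμ]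
  have hsurj : Function.Surjective Ψ := by
    intro z
    induction z with
    | zero => exact ⟨0, map_zero _⟩
    | add z w hz hw =>
      obtain ⟨c, rfl⟩ := hz
      obtain ⟨c', rfl⟩ := hw
      exact ⟨c + c', map_add _ _ _⟩
    | tmul a a' =>
      refine ⟨(b.repr a').mapRange (fun γ => γ • a) (zero_smul _ _), ?_⟩
      conv_rhs => rw [← b.linearCombination_repr a', Finsupp.linearCombination_apply,
        Finsupp.sum, TensorProduct.tmul_sum]
      simp only [Ψ, Finsupp.lsum_apply]
      rw [Finsupp.sum_mapRange_index (fun i => by simp)]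
      refine Finset.sum_congr rfl fun i _ => ?_
      simp [hb, TensorProduct.smul_tmul]
  refine ⟨(injective_iff_map_eq_zero _).2 fun z hz => ?_, fun y => ?_⟩
  · obtain ⟨c, rfl⟩ := hsurj z
    rw [hΨ] at hz
    rw [h.indB c hz, map_zero]
  · obtain ⟨c, hc⟩ := h.surj y
    exact ⟨Ψ c, (hΨ c).trans hc⟩

end BasisData

namespace Dat

variable (d : Dat C A B D)

theorem p1_s (a : A) : d.p1 (d.s a) = d.p2 (d.t a) := by
  have h : ∀ i, d.Pt.φ i (d.p1 (d.s a)) = d.Pt.φ i (d.p2 (d.t a)) := fun i => by
    have h1 := d.Pt.φ_mul i (d.t a) (d.p1 1)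
    have h2 := d.ct.φ_eq i (d.s a * 1)
    have h3 := d.ct.φ_eq i 1
    simp only [RingHom.coe_coe] at h1 h2 h3
    have h4 := d.P.φ_mul i a 1
    simp only [RingHom.coe_coe] at h4
    rw [h4, map_mul] at h2
    rw [map_one, mul_one] at h1 h2
    rw [map_one] at h3
    rw [h1, h3, h2, map_mul]
  rw [← d.Pt.sum (d.p1 (d.s a)), ← d.Pt.sum (d.p2 (d.t a))]
  simp only [h]

theorem m_s (a : A) : d.m (d.s a) = d.p2 (d.s a) := by
  have h : ∀ i, d.Ps.φ i (d.m (d.s a)) = d.Ps.φ i (d.p2 (d.s a)) := fun i => by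
    have h1 := d.Ps.φ_mul i (d.s a) (d.m 1)
    have h2 := d.cs.φ_eq i (d.s a * 1)
    have h3 := d.cs.φ_eq i 1
    simp only [RingHom.coe_coe] at h1 h2 h3
    have h4 := d.P.φ_mul i a 1
    simp only [RingHom.coe_coe] at h4
    rw [h4, map_mul] at h2
    rw [map_one, mul_one] at h1 h2
    rw [map_one] at h3
    rw [h1, h3, h2, map_mul]
  rw [← d.Ps.sum (d.m (d.s a)), ← d.Ps.sum (d.p2 (d.s a))]
  simp only [h]

/-- Basis descent from coordinate functionals `g`. -/
theorem basisData {I : Type u} [Fintype I] [DecidableEq I] (hfull : d.Full)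
    (hinj : Function.Injective (algebraMap C A)) (x : I → A) (g : I → Fin d.n → A)
    (hsurj : ∀ y : B, ∑ i, d.s (∑ k, g i k * d.P.φ k y) * d.t (x i) = y)
    (hdual : ∀ i j, ∑ k, g i k * d.P.φ k (d.t (x j)) = if i = j then 1 else 0) :
    BasisData d.s d.t d.e d.p1 d.p2 d.m x where
  p1s := d.p1_s
  ms := d.m_s
  mt := d.mt
  es := d.es
  et := d.et
  full := hfull
  inj := hinj
  surj y := ⟨Finsupp.equivFunOnFinite.symm fun i => ∑ k, g i k * d.P.φ k y, by
    rw [Finsupp.sum_fintype _ _ fun i => by simp]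
    simpa using hsurj y⟩
  indB c hc := by
    ext i
    rw [Finsupp.sum_fintype _ _ fun i => by simp] at hc
    have h := congrArg (fun y => ∑ k, g i k * d.P.φ k y) hc
    simp only [map_sum, map_zero, mul_zero, Finset.sum_const_zero, Finset.mul_sum] at h
    rw [Finset.sum_comm] at h
    have hterm : ∀ j, ∑ k, g i k * d.P.φ k (d.s (c j) * d.t (x j)) = if i = j then c j else 0 := by
      intro j
      have : ∀ k, d.P.φ k (d.s (c j) * d.t (x j)) = c j * d.P.φ k (d.t (x j)) :=
        fun k => d.P.φ_mul k _ _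
      simp only [this, mul_left_comm _ (c j), ← Finset.mul_sum, hdual, mul_ite, mul_one, mul_zero]
    simpa [hterm] using h
  indD c hc := by
    ext i
    rw [Finsupp.sum_fintype _ _ fun i => by simp] at hc
    have h := congrArg (fun y => ∑ k, d.t (g i k) * d.Pt.φ k y) hc
    simp only [map_sum, map_zero, mul_zero, Finset.sum_const_zero, Finset.mul_sum] at h
    rw [Finset.sum_comm] at h
    have hterm : ∀ j, ∑ k, d.t (g i k) * d.Pt.φ k (d.p2 (c j) * d.p1 (d.t (x j))) =
        if i = j then c j else 0 := by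
      intro j
      have : ∀ k, d.Pt.φ k (d.p2 (c j) * d.p1 (d.t (x j))) = c j * d.t (d.P.φ k (d.t (x j))) := by
        intro k
        have h1 := d.Pt.φ_mul k (c j) (d.p1 (d.t (x j)))
        have h2 := d.ct.φ_eq k (d.t (x j))
        simp only [RingHom.coe_coe] at h1 h2
        rw [h1, h2]
      simp only [this, mul_left_comm _ (c j), ← Finset.mul_sum, ← map_mul d.t, ← map_sum d.t, hdual]
      split_ifs <;> simp
    simpa [hterm] using h

end Dat

end Groth.Agent.L24.Quot
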