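import Groth.Agent.L24.Quot.Pres

/-!
# Finite flat groupoids on affine schemes: the algebra

`Dat C A B D` records what the theory of quotients uses of a finite locally free groupoid `B` on `A`
linear over `C`, with `D` the composable pairs.
-/

universe u

namespace Groth.Agent.L24.Quot

open Polynomial TensorProduct

/-- Algebraic data of a finite flat affine groupoid over `C`. -/
structure Dat (C A B D : Type u) [CommRing C] [CommRing A] [CommRing B] [CommRing D]
    [Algebra C A] [Algebra C B] [Algebra C D] where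
  s : A →ₐ[C] B
  t : A →ₐ[C] B
  p1 : B →ₐ[C] D
  p2 : B →ₐ[C] D
  m : B →ₐ[C] D
  e : B →ₐ[C] A
  n : ℕ
  P : Pres (s : A →+* B) n
  Pt : Pres (p2 : B →+* D) n
  Ps : Pres (p2 : B →+* D) n
  ct : Pres.Compat P Pt (t : A →+* B) (p1 : B →+* D)
  cs : Pres.Compat P Ps (s : A →+* B) (m : B →+* D)
  mt : ∀ a, m (t a) = p1 (t a)
  es : ∀ a, e (s a) = a
  et : ∀ a, e (t a) = a

namespace Dat

variable {C A B D : Type u} [CommRing C] [CommRing A] [CommRing B] [CommRing D]
  [Algebra C A] [Algebra C B] [Algebra C D] (d : Dat C A B D)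

/-- Every invariant element comes from `C`. -/
def Full : Prop := ∀ a, d.s a = d.t a → ∃ c, algebraMap C A c = a

/-- `t(a j)` generate `B` as an `A`-module via `s`. -/
def Gen {ι : Type} [Fintype ι] (a : ι → A) : Prop :=
  ∀ y : B, ∃ c : ι → A, y = ∑ j, d.s (c j) * d.t (a j)

/-- The characteristic polynomials of elements `t f` have coefficients in `C`. -/
def Lifts : Prop := ∀ f : A, d.P.chr (d.t f) ∈ Polynomial.lifts (algebraMap C A)

theorem chr_inv (f : A) :
    (d.P.chr (d.t f)).map (d.t : A →+* B) = (d.P.chr (d.t f)).map (d.s : A →+* B) := by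
  rw [← d.ct.chr_map, ← d.cs.chr_map]
  simp only [RingHom.coe_coe]
  rw [d.mt, Pres.chr_indep]

theorem rkE_inv (r : ℕ) : d.t (d.P.rkE r) = d.s (d.P.rkE r) := by
  have h1 := d.ct.rkE_map r
  have h2 := d.cs.rkE_map r
  rw [Pres.rkE_indep _ d.Ps] at h1
  exact h1.symm.trans h2

theorem lifts_of_full (h : d.Full) : d.Lifts := by
  intro f
  rw [lifts_iff_coeff_lifts]
  intro k
  refine h _ ?_
  simpa only [coeff_map, RingHom.coe_coe] using congrArg (fun p => coeff p k) (d.chr_inv f).symm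

theorem nrm_mem_range (h : d.Lifts) (f : A) : ∃ c, algebraMap C A c = d.P.nrm (d.t f) := by
  obtain ⟨q, hq⟩ := h (f - 1)
  refine ⟨(-1) ^ d.n * q.eval (-1), ?_⟩
  rw [Pres.nrm_eq_eval_chr, ← map_one d.t, ← map_sub, ← hq, map_mul, map_pow, map_neg, map_one,
    coe_mapRingHom, ← map_one (algebraMap C A), ← map_neg, eval_map, eval₂_at_apply]

theorem nrm_inv (f : A) : d.s (d.P.nrm (d.t f)) = d.t (d.P.nrm (d.t f)) := by
  have h1 := d.ct.nrm_map (d.t f)
  have h2 := d.cs.nrm_map (d.t f)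
  simp only [RingHom.coe_coe] at h1 h2
  rw [Pres.nrm_indep _ d.Ps, ← d.mt] at h1
  exact h2.symm.trans h1

theorem eval₂_chr (f : A) : (d.P.chr (d.t f)).eval₂ (RingHom.id A) f = 0 := by
  have h := congrArg (d.e : B →+* A) (d.P.eval₂_chr_self (d.t f))
  rw [hom_eval₂, map_zero] at h
  have hc : (d.e : B →+* A).comp (d.s : A →+* B) = RingHom.id A := RingHom.ext d.es
  rwa [hc, RingHom.coe_coe, d.et] at h

theorem isIntegral (h : d.Lifts) : Algebra.IsIntegral C A := by
  refine ⟨fun f => ?_⟩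
  obtain ⟨p, hp, -, hm⟩ := lifts_and_natDegree_eq_and_monic (h f) (d.P.chr_monic _)
  refine ⟨p, hm, ?_⟩
  rw [← eval_map, hp, eval, d.eval₂_chr]

theorem rkE_zero : d.P.rkE 0 = 0 := by
  have h := congrArg d.e d.P.map_rkE_zero
  simpa [d.es] using h

theorem dvd_nrm (f : A) : f ∣ d.P.nrm (d.t f) := by
  obtain ⟨y, hy⟩ := d.P.dvd_nrm (d.t f)
  exact ⟨d.e y, by simpa [d.es, d.et] using congrArg d.e hy⟩

/-- Invariant elements satisfy a polynomial `(X - f) ^ N` defined over `C`. -/
theorem exists_pow_lift (h : d.Lifts) (hr : ∀ r, ∃ c, algebraMap C A c = d.P.rkE r) (f : A)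
    (hf : d.s f = d.t f) :
    ∃ (N : ℕ) (P : C[X]), 0 < N ∧ P.map (algebraMap C A) = (X - Polynomial.C f) ^ N := by
  classical
  choose c hc using hr
  obtain ⟨P0, hP0⟩ := h f
  rw [coe_mapRingHom, ← hf] at hP0
  refine ⟨d.n.factorial, ∑ r ∈ Finset.range (d.n + 1),
    Polynomial.C (c r) * ((Polynomial.C (c r) * P0) /ₘ X ^ (d.n - r)) ^ (d.n.factorial / r),
    Nat.factorial_pos _, ?_⟩
  rw [Polynomial.map_sum]
  have key : ∀ r ∈ Finset.range (d.n + 1),
      (Polynomial.C (c r) * ((Polynomial.C (c r) * P0) /ₘ X ^ (d.n - r)) ^ (d.n.factorial / r)).map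
          (algebraMap C A) =
        Polynomial.C (d.P.rkE r) * (X - Polynomial.C f) ^ d.n.factorial := by
    intro r hr'
    rw [Finset.mem_range, Nat.lt_succ_iff] at hr'
    rw [Polynomial.map_mul, Polynomial.map_pow, map_C, map_divByMonic _ (monic_X_pow _),
      Polynomial.map_mul, map_C, hc, hP0, Polynomial.map_pow, map_X]
    have h1 := d.P.chr_smul_one f hr'
    rw [RingHom.coe_coe] at h1
    rw [h1, ← mul_assoc (Polynomial.C _), mul_comm _ (X ^ (d.n - r)),
      mul_divByMonic_cancel_left _ (monic_X_pow _), mul_pow, ← mul_assoc, ← pow_mul, ← pow_succ',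
      ← map_pow, pow_succ']
    rcases Nat.eq_zero_or_pos r with rfl | hpos
    · simp [d.rkE_zero]
    rw [Nat.mul_div_cancel' (Nat.dvd_factorial hpos hr')]
    congr 2
    rw [← pow_succ']
    exact (show IsIdempotentElem (d.P.rkE r) from rk_idem d.P.mat_one_idem r).pow_succ_eq _
  rw [Finset.sum_congr rfl key, ← Finset.sum_mul, ← map_sum, d.P.sum_rkE, map_one, one_mul]

end Dat

end Groth.Agent.L24.Quot
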