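import Groth.Prelude.Def_QuotSh
import Mathlib.CategoryTheory.Sites.RegularEpi
import Mathlib.CategoryTheory.Sites.EpiMono
import Mathlib.CategoryTheory.Sites.LocallyBijective
import Mathlib.CategoryTheory.Limits.Shapes.KernelPair
import Mathlib.AlgebraicGeometry.Sites.Etale
import Mathlib.AlgebraicGeometry.Sites.Fpqc

/-!
# Quotient sheaves in two topologies
-/

set_option autoImplicit false
set_option backward.isDefEq.respectTransparency false
set_option backward.isDefEq.respectTransparency.types false

universe u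

open AlgebraicGeometry CategoryTheory CategoryTheory.Limits Opposite

namespace Groth.L24.Quot

variable {S : Scheme.{u}} {U R M : Over S} {s t : R ⟶ U} {q : U ⟶ M}

/-- The presheaf of points. -/
abbrev P (V : Over S) : (Over S)ᵒᵖ ⥤ Type (u + 1) := yoneda.obj V ⋙ uliftFunctor.{u + 1, u}

/-- The map of presheaves of points. -/
abbrev Pmap {V W : Over S} (g : V ⟶ W) : P V ⟶ P W :=
  Functor.whiskerRight (yoneda.map g) uliftFunctor.{u + 1, u}

/-- `q` is a coequalizer of `s`, `t` as tested against the sheaves for `K`. -/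
def Crit (K : Precoverage Scheme.{u}) (s t : R ⟶ U) (q : U ⟶ M) : Prop :=
  ∀ (F : QuotSh.Sh K S) (a : P U ⟶ F.obj), Pmap s ≫ a = Pmap t ≫ a →
    ∃! b : P M ⟶ F.obj, Pmap q ≫ b = a

theorem crit_iff (K : Precoverage Scheme.{u}) (w : s ≫ q = t ≫ q) :
    Crit K s t q ↔ IsIso (QuotSh.quotDesc K q w) := by
  have hw : QuotSh.repMap K s ≫ QuotSh.repMap K q = QuotSh.repMap K t ≫ QuotSh.repMap K q := by
    change (presheafToSheaf _ _).map (Pmap s) ≫ (presheafToSheaf _ _).map (Pmap q) = _
    rw [← Functor.map_comp, ← Functor.map_comp, ← Functor.whiskerRight_comp, ← Functor.whiskerRight_comp,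
      ← yoneda.map_comp, ← yoneda.map_comp, w]
  let adj := sheafificationAdjunction (QuotSh.J K S) (Type (u + 1))
  have hπ : QuotSh.quotπ K s t ≫ QuotSh.quotDesc K q w = QuotSh.repMap K q :=
    coequalizer.π_desc _ _
  constructor
  · intro h
    have key : ∀ {Z : QuotSh.Sh K S} (a : QuotSh.rep K U ⟶ Z), QuotSh.repMap K s ≫ a = QuotSh.repMap K t ≫ a →
        ∃! b : QuotSh.rep K M ⟶ Z, QuotSh.repMap K q ≫ b = a := by
      intro Z a ha
      obtain ⟨b, hb, hu⟩ := h Z (adj.homEquiv _ _ a) (by
        have := congrArg (adj.homEquiv _ _) ha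
        rw [Adjunction.homEquiv_naturality_left, Adjunction.homEquiv_naturality_left] at this
        exact this)
      refine ⟨(adj.homEquiv _ _).symm b, ?_, fun b' hb' => ?_⟩
      · apply (adj.homEquiv _ _).injective
        rw [Adjunction.homEquiv_naturality_left, Equiv.apply_symm_apply]
        exact hb
      · rw [Equiv.eq_symm_apply]
        apply hu
        show Pmap q ≫ adj.homEquiv _ _ b' = _
        rw [← Adjunction.homEquiv_naturality_left]
        exact congrArg _ hb'
    obtain ⟨b, hb, -⟩ := key (QuotSh.quotπ K s t) (QuotSh.quot_condition K s t)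
    refine ⟨b, coequalizer.hom_ext ?_, ?_⟩
    · change QuotSh.quotπ K s t ≫ _ = QuotSh.quotπ K s t ≫ 𝟙 _
      rw [reassoc_of% hπ, hb, Category.comp_id]
    · obtain ⟨c, -, hc⟩ := key (QuotSh.repMap K q) hw
      rw [hc (𝟙 _) (Category.comp_id _), hc (b ≫ _) (by show _ ≫ _ ≫ _ = _; rw [reassoc_of% hb, hπ])]
  · intro h F a ha
    have ha' : QuotSh.repMap K s ≫ (adj.homEquiv _ _).symm a = QuotSh.repMap K t ≫ (adj.homEquiv _ _).symm a := by
      have := congrArg (adj.homEquiv _ _).symm ha
      rw [Adjunction.homEquiv_naturality_left_symm, Adjunction.homEquiv_naturality_left_symm] at this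
      exact this
    let d : QuotSh.quot K s t ⟶ F := coequalizer.desc _ ha'
    have hd : QuotSh.quotπ K s t ≫ d = (adj.homEquiv _ _).symm a := coequalizer.π_desc _ _
    refine ⟨adj.homEquiv _ _ (inv (QuotSh.quotDesc K q w) ≫ d), ?_, fun b hb => ?_⟩
    · show Pmap q ≫ _ = a
      rw [← Adjunction.homEquiv_naturality_left]
      refine (congrArg (adj.homEquiv _ _) ?_).trans ((adj.homEquiv _ _).apply_symm_apply a)
      change QuotSh.repMap K q ≫ _ = _
      rw [← hπ, Category.assoc, IsIso.hom_inv_id_assoc, hd]
    · refine ((adj.homEquiv _ _).apply_symm_apply b).symm.trans (congrArg _ ?_)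
      rw [IsIso.eq_inv_comp]
      apply coequalizer.hom_ext
      change QuotSh.quotπ K s t ≫ _ = QuotSh.quotπ K s t ≫ d
      rw [hd, reassoc_of% hπ, ← hb]
      exact (Adjunction.homEquiv_naturality_left_symm _ _ _).symm

theorem crit_mono {K K' : Precoverage Scheme.{u}} (h : K ≤ K') (hc : Crit K s t q) : Crit K' s t q := by
  intro F a ha
  have hle : QuotSh.J K S ≤ QuotSh.J K' S := fun X Sv hSv => by
    rw [GrothendieckTopology.mem_over_iff] at hSv ⊢
    exact Precoverage.toGrothendieck_mono h _ hSv
  exact hc ⟨F.obj, (isSheaf_iff_isSheaf_of_type _ _).2 (Presieve.isSheaf_of_le _ hle ((isSheaf_iff_isSheaf_of_type _ _).1 F.property))⟩ a ha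

theorem etalePrecoverage_le_fppfPrecoverage :
    (Scheme.etalePrecoverage : Precoverage Scheme.{u}) ≤ Scheme.fppfPrecoverage :=
  Scheme.precoverage_mono fun _ _ f (hf : Etale f) => ⟨inferInstance, inferInstance⟩

theorem isLocallySurjective_etale [Etale q.left] [Surjective q.left] :
    Presheaf.IsLocallySurjective (QuotSh.J Scheme.etalePrecoverage S) (Pmap q) := by
  constructor
  intro T f
  let p : Over.mk (pullback.fst f.down.left q.left ≫ T.hom) ⟶ T := Over.homMk (pullback.fst _ _) rfl
  refine GrothendieckTopology.superset_covering _ (S := Sieve.generate (Presieve.singleton p)) ?_ ?_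
  · rw [Sieve.generate_le_iff]
    rintro Z g ⟨⟩
    refine ⟨⟨(Over.homMk (pullback.snd f.down.left q.left) ?_ :
      Over.mk (pullback.fst f.down.left q.left ≫ T.hom) ⟶ U)⟩, ?_⟩
    · have h : pullback.snd f.down.left q.left ≫ q.left = pullback.fst f.down.left q.left ≫ f.down.left :=
        pullback.condition.symm
      show _ ≫ U.hom = pullback.fst f.down.left q.left ≫ T.hom
      rw [← Over.w q, reassoc_of% h, Over.w]
    · apply ULift.ext
      apply Over.OverMorphism.ext
      exact pullback.condition.symm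
  · rw [GrothendieckTopology.mem_over_iff, Sieve.overEquiv_generate]
    refine GrothendieckTopology.superset_covering _ ?_
      (Precoverage.generate_mem_toGrothendieck
        (R := Presieve.singleton (pullback.fst f.down.left q.left))
        ((Scheme.singleton_mem_precoverage_iff (P := @Etale) _).2 ⟨(pullback.fst f.down.left q.left).surjective, inferInstance⟩))
    apply Sieve.generate_mono
    rintro Z g ⟨⟩
    exact ⟨_, p, 𝟙 _, Presieve.singleton_self p, by simp [p]⟩

theorem isQuotient_of_isPullback_etale [Etale q.left] [Surjective q.left] (h : IsPullback s t q q) :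
    QuotSh.IsQuotient Scheme.etalePrecoverage s t q := by
  refine ⟨h.w, ?_⟩
  let F : Over S ⥤ QuotSh.Sh Scheme.etalePrecoverage S :=
    yoneda ⋙ (Functor.whiskeringRight (Over S)ᵒᵖ (Type u) (Type (u + 1))).obj uliftFunctor.{u + 1, u} ⋙
      presheafToSheaf (QuotSh.J Scheme.etalePrecoverage S) (Type (u + 1))
  have hpb : IsKernelPair (F.map q) (F.map s) (F.map t) := h.map F
  haveI : Sheaf.IsLocallySurjective (F.map q) :=
    (Presheaf.isLocallySurjective_presheafToSheaf_map_iff (QuotSh.J Scheme.etalePrecoverage S) _).2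
      isLocallySurjective_etale
  haveI : Epi (F.map q) := (Sheaf.isLocallySurjective_iff_epi (F.map q)).1 inferInstance
  haveI : IsRegularEpi (F.map q) := IsRegularEpiCategory.regularEpiOfEpi _
  have hc := hpb.toCoequalizer'
  have he : QuotSh.quotDesc Scheme.etalePrecoverage q h.w =
      ((coequalizerIsCoequalizer (QuotSh.repMap Scheme.etalePrecoverage s)
        (QuotSh.repMap Scheme.etalePrecoverage t)).coconePointUniqueUpToIso hc).hom := by
    apply coequalizer.hom_ext
    rw [QuotSh.quotDesc, coequalizer.π_desc]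
    exact ((coequalizerIsCoequalizer (QuotSh.repMap Scheme.etalePrecoverage s)
        (QuotSh.repMap Scheme.etalePrecoverage t)).comp_coconePointUniqueUpToIso_hom hc
          WalkingParallelPair.one).symm
  rw [he]
  exact Iso.isIso_hom _

theorem isQuotient_fppf_of_etale (h : QuotSh.IsQuotient Scheme.etalePrecoverage s t q) :
    QuotSh.IsQuotient Scheme.fppfPrecoverage s t q := by
  obtain ⟨w, hw⟩ := h
  exact ⟨w, (crit_iff _ w).1 (crit_mono etalePrecoverage_le_fppfPrecoverage ((crit_iff _ w).2 hw))⟩

end Groth.L24.Quot
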