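import Groth.Agent.L24.Quot.BC

/-!
# Geometric points of the quotient of a finite flat affine groupoid
-/

universe u

namespace Groth.Agent.L24.Quot

open Polynomial TensorProduct

/-- For an integral extension, a geometric point of the base lifts through any prime above it. -/
theorem exists_algHom_ker_eq {C A : Type u} [CommRing C] [CommRing A] [Algebra C A]
    [Algebra.IsIntegral C A] (K : Type u) [Field K] [IsAlgClosed K] [Algebra C K]
    (P : Ideal A) [P.IsPrime] (hP : P.comap (algebraMap C A) = RingHom.ker (algebraMap C K)) :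
    ∃ x : A →ₐ[C] K, RingHom.ker x = P := by
  let q := RingHom.ker (algebraMap C K)
  haveI : q.IsPrime := RingHom.ker_isPrime _
  letI : Algebra (C ⧸ q) (A ⧸ P) := (Ideal.quotientMap P (algebraMap C A) hP.ge).toAlgebra
  letI : Algebra (C ⧸ q) K := (RingHom.kerLift (algebraMap C K)).toAlgebra
  have hinjA : Function.Injective (algebraMap (C ⧸ q) (A ⧸ P)) :=
    Ideal.quotientMap_injective' hP.le
  have hinjK : Function.Injective (algebraMap (C ⧸ q) K) := RingHom.kerLift_injective _
  haveI : Module.IsTorsionFree (C ⧸ q) (A ⧸ P) := Module.isTorsionFree_iff_algebraMap_injective.2 hinjA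
  haveI : Module.IsTorsionFree (C ⧸ q) K := Module.isTorsionFree_iff_algebraMap_injective.2 hinjK
  haveI : Algebra.IsIntegral (C ⧸ q) (A ⧸ P) := ⟨fun y => by
    obtain ⟨a, rfl⟩ := Ideal.Quotient.mk_surjective y
    obtain ⟨p, hpm, hp0⟩ := Algebra.IsIntegral.isIntegral (R := C) a
    refine ⟨p.map (Ideal.Quotient.mk q), hpm.map _, ?_⟩
    rw [eval₂_map, RingHom.algebraMap_toAlgebra, Ideal.quotientMap_comp_mk, ← hom_eval₂, hp0, map_zero]⟩
  let f : (A ⧸ P) →ₐ[C ⧸ q] K := IsAlgClosed.lift
  have hf : Function.Injective f.toRingHom := by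
    rw [RingHom.injective_iff_ker_eq_bot]
    apply Ideal.eq_bot_of_comap_eq_bot (R := C ⧸ q)
    rw [RingHom.comap_ker, show f.toRingHom.comp (algebraMap (C ⧸ q) (A ⧸ P)) = algebraMap (C ⧸ q) K
      from f.comp_algebraMap, (RingHom.injective_iff_ker_eq_bot _).1 hinjK]
  refine ⟨⟨f.toRingHom.comp (Ideal.Quotient.mk P), fun c => ?_⟩, ?_⟩
  · have := f.commutes (Ideal.Quotient.mk q c)
    rw [RingHom.algebraMap_toAlgebra, RingHom.algebraMap_toAlgebra, Ideal.quotientMap_mk,
      RingHom.kerLift_mk] at this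
    exact this
  · show RingHom.ker (f.toRingHom.comp (Ideal.Quotient.mk P)) = P
    rw [RingHom.ker_comp_of_injective _ hf, Ideal.mk_ker]

/-- For an injective integral extension every geometric point lifts. -/
theorem exists_algHom_algClosed {C A : Type u} [CommRing C] [CommRing A] [Algebra C A]
    [Algebra.IsIntegral C A] (hinj : Function.Injective (algebraMap C A))
    (K : Type u) [Field K] [IsAlgClosed K] [Algebra C K] : Nonempty (A →ₐ[C] K) := by
  haveI : (RingHom.ker (algebraMap C K)).IsPrime := RingHom.ker_isPrime _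
  obtain ⟨P, -, hP, hPC⟩ := Ideal.exists_ideal_over_prime_of_isIntegral
    (RingHom.ker (algebraMap C K)) (⊥ : Ideal A)
    (by rw [← RingHom.ker_eq_comap_bot, (RingHom.injective_iff_ker_eq_bot _).1 hinj]; exact bot_le)
  obtain ⟨x, -⟩ := exists_algHom_ker_eq K P hPC
  exact ⟨x⟩

/-- Elements killed by an injective integral extension after base change are nilpotent. -/
theorem isNilpotent_of_tmul_eq_zero {C A : Type u} [CommRing C] [CommRing A] [Algebra C A]
    [Algebra.IsIntegral C A] (hinj : Function.Injective (algebraMap C A))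
    (C' : Type u) [CommRing C'] [Algebra C C'] (c : C')
    (hc : algebraMap C' (C' ⊗[C] A) c = 0) : IsNilpotent c := by
  rw [nilpotent_iff_mem_prime]
  intro p hp
  let L := AlgebraicClosure (FractionRing (C' ⧸ p))
  obtain ⟨x⟩ := exists_algHom_algClosed hinj L
  let y : C' →ₐ[C] L := IsScalarTower.toAlgHom C C' L
  have h := congrArg (Algebra.TensorProduct.lift y x fun _ _ => Commute.all _ _) hc
  simp only [Algebra.TensorProduct.algebraMap_apply, Algebra.algebraMap_self, RingHom.id_apply,
    Algebra.TensorProduct.lift_tmul, map_one, mul_one, map_zero] at h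
  have h2 : algebraMap (C' ⧸ p) L (Ideal.Quotient.mk p c) = 0 := h
  rw [IsScalarTower.algebraMap_apply (C' ⧸ p) (FractionRing (C' ⧸ p)) L, map_eq_zero,
    IsFractionRing.to_map_eq_zero_iff] at h2
  exact Ideal.Quotient.eq_zero_iff_mem.1 h2

namespace Dat

variable {C A B D : Type u} [CommRing C] [CommRing A] [CommRing B] [CommRing D]
  [Algebra C A] [Algebra C B] [Algebra C D] (d : Dat C A B D)

/-- Over a field, two points with the same image are joined by an arrow. -/
theorem exists_arrow_of_field {k : Type u} [Field k] [IsAlgClosed k] {A B D : Type u} [CommRing A]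
    [CommRing B] [CommRing D] [Algebra k A] [Algebra k B] [Algebra k D] (d : Dat k A B D)
    (hl : d.Lifts) (x0 x1 : A →ₐ[k] k) :
    ∃ r : B →ₐ[k] k, r.comp d.t = x0 ∧ r.comp d.s = x1 := by
  classical
  by_contra hcon
  let Rs : Set (B →ₐ[k] k) := {r | r.comp d.s = x1}
  have hfin : Rs.Finite := by
    refine Set.Finite.of_finite_image (f := fun r i => r (d.P.b i)) ?_ ?_
    · refine (Set.Finite.pi fun i : Fin d.n =>
        ((d.P.chr (d.P.b i)).map (x1 : A →+* k)).roots.toFinset.finite_toSet).subset ?_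
      rintro - ⟨r, hr, rfl⟩ i -
      rw [Finset.mem_coe, Multiset.mem_toFinset, mem_roots ((d.P.chr_monic _).map _).ne_zero,
        IsRoot, eval_map]
      have h := congrArg (r : B →+* k) (d.P.eval₂_chr_self (d.P.b i))
      rw [hom_eval₂, map_zero] at h
      rwa [show (r : B →+* k).comp (d.s : A →+* B) = (x1 : A →+* k) from
        congrArg (fun g : A →ₐ[k] k => (g : A →+* k)) hr] at h
    · intro r hr r' hr' h
      refine AlgHom.ext fun y => ?_
      rw [← d.P.sum y, map_sum, map_sum]
      refine Finset.sum_congr rfl fun i _ => ?_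
      rw [map_mul, map_mul, RingHom.coe_coe, ← AlgHom.comp_apply r, ← AlgHom.comp_apply r',
        show r.comp d.s = x1 from hr, show r'.comp d.s = x1 from hr']
      exact congrArg _ (congrFun h i)
  have hS : ¬ ((RingHom.ker x0 : Ideal A) : Set A) ⊆
      ⋃ x ∈ (fun r : B →ₐ[k] k => r.comp d.t) '' Rs, ((RingHom.ker x : Ideal A) : Set A) := by
    rw [Ideal.subset_union_prime_finite (hfin.image _) x0 x0 fun x _ _ _ => RingHom.ker_isPrime x]
    rintro ⟨x, ⟨r, hr, rfl⟩, hle⟩
    refine hcon ⟨r, AlgHom.ext fun a => ?_, hr⟩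
    have h := hle (show a - algebraMap k A (x0 a) ∈ RingHom.ker x0 by simp)
    rw [RingHom.mem_ker, map_sub, AlgHom.commutes, sub_eq_zero] at h
    exact h
  obtain ⟨f, hf0, hf⟩ := Set.not_subset.1 hS
  simp only [Set.mem_iUnion, SetLike.mem_coe, RingHom.mem_ker, Set.mem_image, exists_prop,
    forall_exists_index, and_imp, forall_apply_eq_imp_iff₂, AlgHom.comp_apply, not_exists, not_and] at hf
  have hx0 : x0 (d.P.nrm (d.t f)) = 0 := by
    obtain ⟨z, hz⟩ := d.dvd_nrm f
    rw [hz, map_mul, hf0, zero_mul]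
  obtain ⟨c, hc⟩ := d.nrm_mem_range hl f
  have hx1 : x1 (d.P.nrm (d.t f)) = 0 := by
    rw [← hc, AlgHom.commutes, ← hx0, ← hc, AlgHom.commutes]
  let J : Ideal B := (RingHom.ker x1).map (d.s : A →+* B) ⊔ Ideal.span {d.t f}
  by_cases hJ : J = ⊤
  · obtain ⟨z, hz, w, hw, hzw⟩ := Submodule.mem_sup.1 ((Ideal.eq_top_iff_one J).1 hJ)
    obtain ⟨u, rfl⟩ := Ideal.mem_span_singleton.1 hw
    have hz0 : ∀ v, (d.P.mat (z * v)).map x1 = 0 := by
      clear hzw
      induction hz using Submodule.span_induction with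
      | mem x hx =>
        obtain ⟨a, ha, rfl⟩ := hx
        intro v
        rw [d.P.mat_smul]
        ext i j
        simp [show x1 a = 0 from ha]
      | zero => intro v; rw [zero_mul, d.P.mat_zero]; exact Matrix.map_zero _ (map_zero x1)
      | add x y _ _ hx hy =>
        intro v
        rw [add_mul, d.P.mat_add, Matrix.map_add _ (map_add x1), hx, hy, add_zero]
      | smul a x _ hx =>
        intro v
        rw [smul_eq_mul, mul_comm a x, mul_assoc]
        exact hx _
    have h1 : x1 (d.P.nrm (d.t f * u)) = 1 := by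
      rw [Pres.nrm, show d.t f * u - 1 = z * (-1) by linear_combination hzw, AlgHom.map_det]
      rw [map_add, map_one, show x1.mapMatrix (d.P.mat (z * -1)) = 0 from hz0 _, add_zero,
        Matrix.det_one]
    rw [d.P.nrm_mul, map_mul, hx1, zero_mul] at h1
    exact zero_ne_one h1
  · obtain ⟨M, hM, hJM⟩ := Ideal.exists_le_maximal J hJ
    letI := Ideal.Quotient.field M
    let φ : B →ₐ[k] B ⧸ M := Ideal.Quotient.mkₐ k M
    have hs : ∀ a, φ (d.s a) = algebraMap k (B ⧸ M) (x1 a) := by
      intro a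
      have h0 : d.s (a - algebraMap k A (x1 a)) ∈ J :=
        Ideal.mem_sup_left (Ideal.mem_map_of_mem (d.s : A →+* B) (by simp))
      have h1 := Ideal.Quotient.eq_zero_iff_mem.2 (hJM h0)
      rw [map_sub d.s, map_sub, sub_eq_zero, AlgHom.commutes] at h1
      exact h1
    haveI : Algebra.IsIntegral k (B ⧸ M) := ⟨fun z => by
      obtain ⟨y, rfl⟩ := Ideal.Quotient.mk_surjective z
      refine ⟨(d.P.chr y).map (x1 : A →+* k), (d.P.chr_monic y).map _, ?_⟩
      have h := congrArg (φ : B →+* B ⧸ M) (d.P.eval₂_chr_self y)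
      rw [hom_eval₂, map_zero] at h
      rw [eval₂_map]
      rwa [show (φ : B →+* B ⧸ M).comp (d.s : A →+* B) = (algebraMap k (B ⧸ M)).comp (x1 : A →+* k)
        from RingHom.ext hs] at h⟩
    let e := AlgEquiv.ofBijective (Algebra.ofId k (B ⧸ M))
      IsAlgClosed.algebraMap_bijective_of_isIntegral
    let r : B →ₐ[k] k := e.symm.toAlgHom.comp φ
    refine hf r (AlgHom.ext fun a => ?_) ?_
    · show e.symm (φ (d.s a)) = x1 a
      rw [hs]
      exact e.symm.commutes (x1 a)
    · show e.symm (φ (d.t f)) = 0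
      rw [show φ (d.t f) = 0 from Ideal.Quotient.eq_zero_iff_mem.2
        (hJM (Ideal.mem_sup_right (Ideal.mem_span_singleton_self _))), map_zero]

/-- Geometric points with the same image in `C` are joined by an arrow. -/
theorem exists_arrow (hfull : d.Full) (k : Type u) [Field k] [IsAlgClosed k] [Algebra C k]
    (x0 x1 : A →ₐ[C] k) : ∃ r : B →ₐ[C] k, r.comp d.t = x0 ∧ r.comp d.s = x1 := by
  let ext : (A →ₐ[C] k) → (k ⊗[C] A →ₐ[k] k) := fun x =>
    Algebra.TensorProduct.lift (AlgHom.id k k) x fun _ _ => Commute.all _ _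
  obtain ⟨r, h0, h1⟩ := exists_arrow_of_field (d.bc k) (d.bc_lifts k hfull) (ext x0) (ext x1)
  refine ⟨(r.restrictScalars C).comp Algebra.TensorProduct.includeRight, ?_, ?_⟩
  · refine AlgHom.ext fun a => ?_
    have h := congr($h0 ((1 : k) ⊗ₜ[C] a))
    simpa [bc, ext] using h
  · refine AlgHom.ext fun a => ?_
    have h := congr($h1 ((1 : k) ⊗ₜ[C] a))
    simpa [bc, ext] using h

/-- Two primes with the same contraction to `C` lie in one orbit. -/
theorem exists_prime_arrow (hfull : d.Full) (P0 P1 : Ideal A) [P0.IsPrime] [P1.IsPrime]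
    (h : P0.comap (algebraMap C A) = P1.comap (algebraMap C A)) :
    ∃ Q : Ideal B, Q.IsPrime ∧ Q.comap d.t = P0 ∧ Q.comap d.s = P1 := by
  haveI := d.isIntegral (d.lifts_of_full hfull)
  let q := P0.comap (algebraMap C A)
  let K := AlgebraicClosure (FractionRing (C ⧸ q))
  have hker : q = RingHom.ker (algebraMap C K) := by
    ext c
    rw [RingHom.mem_ker, IsScalarTower.algebraMap_apply C (C ⧸ q) K,
      IsScalarTower.algebraMap_apply (C ⧸ q) (FractionRing (C ⧸ q)) K, map_eq_zero,
      IsFractionRing.to_map_eq_zero_iff]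
    exact Ideal.Quotient.eq_zero_iff_mem.symm
  obtain ⟨x0, hx0⟩ := exists_algHom_ker_eq K P0 hker
  obtain ⟨x1, hx1⟩ := exists_algHom_ker_eq K P1 (h.symm.trans hker)
  obtain ⟨r, h0, h1⟩ := d.exists_arrow hfull K x0 x1
  refine ⟨RingHom.ker r, RingHom.ker_isPrime _, ?_, ?_⟩
  · show RingHom.ker (r.comp d.t) = P0
    rw [h0]; exact hx0
  · show RingHom.ker (r.comp d.s) = P1
    rw [h1]; exact hx1

end Dat

end Groth.Agent.L24.Quot
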