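import Groth.Agent.L24.Quot.Generic
import Groth.Agent.L24.Quot.Points
import Mathlib.RingTheory.Finiteness.Descent
import Mathlib.RingTheory.Flat.FaithfullyFlat.Algebra

/-!
# A free finite groupoid has a finite flat quotient
-/

universe u

namespace Groth.Agent.L24.Quot

open TensorProduct

namespace Dat

variable {C A B D : Type u} [CommRing C] [CommRing A] [CommRing B] [CommRing D]
  [Algebra C A] [Algebra C B] [Algebra C D] (d : Dat C A B D) {ι : Type} [Fintype ι] {a : ι → A}

include d

/-- An element killed in every generic extension is zero. -/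
theorem eq_zero_of_forall_generic {M : Type u} [AddCommGroup M] [Module C M] (z : M)
    (h : ∀ q : Ideal C, q.IsMaximal → ∃ (C2 : Type u) (_ : CommRing C2) (_ : Algebra C C2),
      Module.Flat C C2 ∧ (∀ I : Ideal C, I.map (algebraMap C C2) = ⊤ → ¬ I ≤ q) ∧
      (1 : C2) ⊗ₜ[C] z = 0) : z = 0 := by
  let I : Ideal C := LinearMap.ker (LinearMap.toSpanSingleton C M z)
  have hI : I = ⊤ := by
    by_contra hne
    obtain ⟨q, hq, hIq⟩ := Ideal.exists_le_maximal I hne
    obtain ⟨C2, _, _, hflat, hdet, hz⟩ := h q hq
    refine hdet I ?_ hIq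
    let e : C ⧸ I →ₗ[C] M := Submodule.liftQ I (LinearMap.toSpanSingleton C M z) le_rfl
    have he : Function.Injective e := by
      rw [← LinearMap.ker_eq_bot]
      exact Submodule.ker_liftQ_eq_bot _ _ _ le_rfl
    have h1 : (1 : C2) ⊗ₜ[C] (Ideal.Quotient.mk I 1 : C ⧸ I) = 0 := by
      apply Module.Flat.lTensor_preserves_injective_linearMap (M := C2) e he
      rw [LinearMap.lTensor_tmul, map_zero]
      refine Eq.trans ?_ hz
      congr 1
      exact one_smul C z
    have h2 := congrArg (TensorProduct.tensorQuotEquivQuotSMul C2 I) h1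
    rw [map_zero] at h2
    rw [Ideal.eq_top_iff_one]
    have h3 : (1 : C2) ∈ (I • ⊤ : Submodule C C2) := by
      rw [← Submodule.Quotient.mk_eq_zero]
      rw [TensorProduct.tensorQuotEquivQuotSMul_tmul_mk, one_smul] at h2
      exact h2
    rw [Ideal.smul_top_eq_map] at h3
    exact h3
  have h1 : (1 : C) ∈ I := hI ▸ Submodule.mem_top
  simpa [I] using h1

/-- Multiplication `A ⊗ A → B`, `x ⊗ y ↦ s x * t y`. -/
noncomputable def μ : A ⊗[C] A →ₐ[C] B :=
  Algebra.TensorProduct.lift d.s d.t fun _ _ => Commute.all _ _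

theorem μ_tmul (x y : A) : d.μ (x ⊗ₜ y) = d.s x * d.t y := by simp [μ]

theorem span_gen (hfull : d.Full) (hinj : Function.Injective (algebraMap C A)) (ha : d.Gen a) :
    Submodule.span C (Set.range a) = ⊤ := by
  rw [← Submodule.Quotient.subsingleton_iff]
  let N := Submodule.span C (Set.range a)
  refine subsingleton_of_forall_eq 0 fun z => d.eq_zero_of_forall_generic z fun q hq => ?_
  obtain ⟨C2, _, _, hflat, hdet, r, x, hx, hd⟩ := d.exists_generic hfull hinj ha q
  refine ⟨C2, inferInstance, inferInstance, hflat, hdet, ?_⟩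
  obtain ⟨y, rfl⟩ := N.mkQ_surjective z
  obtain ⟨b, hb⟩ := hd.exists_basis
  have hzero : N.mkQ.baseChange C2 = 0 := by
    refine b.ext fun i => ?_
    rw [hb, LinearMap.zero_apply]
    refine (Submodule.span_le.2 ?_ : _ ≤ LinearMap.ker (N.mkQ.baseChange C2)) (hx i)
    rintro - ⟨j, rfl⟩
    rw [SetLike.mem_coe, LinearMap.mem_ker, LinearMap.baseChange_tmul]
    rw [show N.mkQ (a j) = 0 from (Submodule.Quotient.mk_eq_zero N).2 (Submodule.subset_span ⟨j, rfl⟩),
      TensorProduct.tmul_zero]
  have := LinearMap.congr_fun hzero ((1 : C2) ⊗ₜ[C] y)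
  rwa [LinearMap.baseChange_tmul, LinearMap.zero_apply] at this

theorem finite_of_gen (hfull : d.Full) (hinj : Function.Injective (algebraMap C A)) (ha : d.Gen a) :
    Module.Finite C A := by
  classical
  exact ⟨⟨Finset.univ.image a, by rw [Finset.coe_image, Finset.coe_univ, Set.image_univ,
    d.span_gen hfull hinj ha]⟩⟩

theorem flat_of_gen (hfull : d.Full) (hinj : Function.Injective (algebraMap C A)) (ha : d.Gen a) :
    Module.Flat C A := by
  rw [Module.Flat.iff_lTensor_preserves_injective_linearMap]
  intro N N' _ _ _ _ f hf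
  rw [injective_iff_map_eq_zero]
  intro z hz
  refine d.eq_zero_of_forall_generic z fun q hq => ?_
  obtain ⟨C2, _, _, hflat, hdet, r, x, hx, hd⟩ := d.exists_generic hfull hinj ha q
  refine ⟨C2, inferInstance, inferInstance, hflat, hdet, ?_⟩
  obtain ⟨b, -⟩ := hd.exists_basis
  haveI : Module.Free C2 (C2 ⊗[C] A) := .of_basis b
  haveI : Module.Flat C (C2 ⊗[C] A) := Module.Flat.trans C C2 _
  have hinjf := Module.Flat.lTensor_preserves_injective_linearMap (M := C2 ⊗[C] A) f hf
  apply (TensorProduct.assoc C C2 A N).symm.injective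
  apply hinjf
  rw [map_zero, map_zero]
  have h : ∀ w : C2 ⊗[C] (A ⊗[C] N), f.lTensor (C2 ⊗[C] A) ((TensorProduct.assoc C C2 A N).symm w) =
      (TensorProduct.assoc C C2 A N').symm ((f.lTensor A).lTensor C2 w) := by
    intro w
    induction w with
    | zero => simp
    | add u v hu hv => simp only [map_add, hu, hv]
    | tmul c w =>
      induction w with
      | zero => simp
      | add u v hu hv => simp only [TensorProduct.tmul_add, map_add, hu, hv]
      | tmul a n => simp
  rw [h, LinearMap.lTensor_tmul, hz, TensorProduct.tmul_zero, map_zero]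

theorem bijective_μ (hfull : d.Full) (hinj : Function.Injective (algebraMap C A)) (ha : d.Gen a) :
    Function.Bijective d.μ := by
  refine ⟨?_, fun y => ?_⟩
  · rw [injective_iff_map_eq_zero]
    intro z hz
    refine d.eq_zero_of_forall_generic z fun q hq => ?_
    obtain ⟨C2, _, _, hflat, hdet, r, x, hx, hd⟩ := d.exists_generic hfull hinj ha q
    refine ⟨C2, inferInstance, inferInstance, hflat, hdet, ?_⟩
    let e := AlgebraTensorModule.distribBaseChange C C2 A A
    have hbij := hd.bijective_of_tmul (d.bc C2).μ.toLinearMap (d.bc C2).μ_tmul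
    apply e.injective
    apply hbij.1
    have h : ∀ w : C2 ⊗[C] (A ⊗[C] A),
        (d.bc C2).μ.toLinearMap (e w) = d.μ.toLinearMap.baseChange C2 w := by
      intro w
      induction w with
      | zero => simp
      | add u v hu hv => simp only [map_add, hu, hv]
      | tmul c w =>
        induction w with
        | zero => simp
        | add u v hu hv => simp only [TensorProduct.tmul_add, map_add, hu, hv]
        | tmul u v => simp [e, μ, bc]
    rw [h, map_zero, map_zero, LinearMap.baseChange_tmul, AlgHom.toLinearMap_apply, hz,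
      TensorProduct.tmul_zero]
  · obtain ⟨c, rfl⟩ := ha y
    exact ⟨∑ j, c j ⊗ₜ a j, by simp [μ_tmul]⟩

theorem faithfullyFlat_of_gen (hfull : d.Full) (hinj : Function.Injective (algebraMap C A))
    (ha : d.Gen a) : Module.FaithfullyFlat C A := by
  haveI := d.flat_of_gen hfull hinj ha
  haveI := d.isIntegral (d.lifts_of_full hfull)
  refine Module.FaithfullyFlat.of_comap_surjective fun m => ?_
  obtain ⟨P, -, hP, hPC⟩ := Ideal.exists_ideal_over_prime_of_isIntegral (S := A) m.asIdeal ⊥
    (by rw [← RingHom.ker_eq_comap_bot, (RingHom.injective_iff_ker_eq_bot _).1 hinj]; exact bot_le)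
  exact ⟨⟨P, hP⟩, PrimeSpectrum.ext hPC⟩

theorem finitePresentation_of_gen (hfull : d.Full) (hinj : Function.Injective (algebraMap C A))
    (ha : d.Gen a) (hs : (d.s : A →+* B).FinitePresentation) :
    Algebra.FinitePresentation C A := by
  haveI := d.faithfullyFlat_of_gen hfull hinj ha
  letI : Algebra A B := (d.s : A →+* B).toAlgebra
  haveI : Algebra.FinitePresentation A B := hs
  let e : A ⊗[C] A ≃ₐ[A] B := AlgEquiv.ofBijective
    ({ toRingHom := d.μ.toRingHom, commutes' := fun x => by
        show d.μ (x ⊗ₜ 1) = d.s x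
        rw [μ_tmul, map_one, mul_one] } : A ⊗[C] A →ₐ[A] B)
    (d.bijective_μ hfull hinj ha)
  haveI : Algebra.FinitePresentation A (A ⊗[C] A) := Algebra.FinitePresentation.equiv e.symm
  exact Algebra.FinitePresentation.of_finitePresentation_tensorProduct_of_faithfullyFlat A

end Dat

end Groth.Agent.L24.Quot
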