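import Groth.Agent.L24.Quot.Basis
import Mathlib.RingTheory.Flat.Localization
import Mathlib.RingTheory.Finiteness.Nakayama
import Mathlib.RingTheory.Localization.AtPrime.Basic
import Mathlib.LinearAlgebra.FreeModule.Finite.Basic

/-!
# The generic flat extension over which the target coordinates give a basis
-/

universe u

namespace Groth.Agent.L24.Quot

open TensorProduct

/-- An idempotent matrix of rank `r` with `V * G = E`, `E * V = V` has a numeric selection. -/
theorem exists_sel {K : Type*} [Field K] {n : ℕ} {ι : Type*} [Fintype ι]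
    {E : Matrix (Fin n) (Fin n) K} (hE : E * E = E) {r : ℕ} (hr : rk E r = 1)
    (V : Matrix (Fin n) ι K) (G : Matrix ι (Fin n) K) (hVG : V * G = E) :
    ∃ (ι' : Matrix (Fin n) (Fin r) K) (π' : Matrix (Fin r) (Fin n) K) (S : Matrix ι (Fin r) K),
      ι' * π' = E ∧ π' * V * S = 1 := by
  classical
  let W := LinearMap.range E.mulVecLin
  let b := Module.finBasis K W
  let J : Matrix (Fin n) (Fin (Module.finrank K W)) K := Matrix.of fun k j => (b j : Fin n → K) k
  let Q : Matrix (Fin (Module.finrank K W)) (Fin n) K :=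
    Matrix.of fun j l => b.repr ⟨E.mulVec (Pi.single l 1), LinearMap.mem_range_self _ _⟩ j
  have hJQ : J * Q = E := by
    ext k l
    have h := congrArg (fun w : W => (w : Fin n → K) k)
      (b.sum_repr ⟨E.mulVec (Pi.single l 1), LinearMap.mem_range_self _ _⟩)
    simp only [Submodule.coe_sum, Finset.sum_apply, SetLike.val_smul, Pi.smul_apply, smul_eq_mul,
      Matrix.mulVec_single_one, Matrix.col_apply] at h
    rw [Matrix.mul_apply, ← h]
    refine Finset.sum_congr rfl fun j _ => ?_
    simp [J, Q, Matrix.mulVec_single_one, mul_comm]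
  have hEJ : E * J = J := by
    ext k j
    obtain ⟨w, hw⟩ := (b j).2
    have hw' : E.mulVec (b j : Fin n → K) = (b j : Fin n → K) := by
      rw [← hw, Matrix.mulVecLin_apply, Matrix.mulVec_mulVec, hE]
    exact congrFun hw' k
  have hQJ : Q * J = 1 := by
    have h1 : J * (Q * J) = J := by rw [← Matrix.mul_assoc, hJQ, hEJ]
    have hinj : Function.Injective J.mulVec := by
      intro v v' h
      have h2 : ∑ j, v j • b j = ∑ j, v' j • b j := by
        apply Subtype.ext
        funext k
        simpa [Matrix.mulVec, dotProduct, J, mul_comm, Finset.sum_apply] using congrFun h k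
      ext j
      simpa [Finsupp.single_apply] using congrArg (fun w => b.repr w j) h2
    apply Matrix.ext_of_mulVec_single
    intro j
    apply hinj
    rw [Matrix.mulVec_mulVec, Matrix.mulVec_mulVec, h1, Matrix.mul_one]
  have hd : Module.finrank K W = r := by
    by_contra hne
    have h1 : rkPoly E = Polynomial.X ^ (Module.finrank K W) := by
      have hm : E.map Polynomial.C = J.map Polynomial.C * Q.map Polynomial.C := by
        rw [← Matrix.map_mul, hJQ]
      have h2 : rkPoly E = Matrix.det
          (1 + (((Polynomial.X : Polynomial K) - 1) • J.map Polynomial.C) * Q.map Polynomial.C) := by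
        rw [rkPoly, dd, one_smul, Matrix.smul_mul, ← hm, sub_smul, one_smul]
        congr 1; abel
      rw [h2, Matrix.det_one_add_mul_comm, Matrix.mul_smul, ← Matrix.map_mul, hQJ,
        Matrix.map_one _ (map_zero _) (map_one _)]
      rw [show (1 : Matrix (Fin (Module.finrank K W)) _ (Polynomial K)) +
        ((Polynomial.X : Polynomial K) - 1) • 1 = (Polynomial.X : Polynomial K) • 1 by
          rw [sub_smul, one_smul]; abel, Matrix.det_smul, Matrix.det_one, mul_one, Fintype.card_fin]
    rw [rk, h1, Polynomial.coeff_X_pow, if_neg (Ne.symm hne)] at hr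
    exact zero_ne_one hr
  clear_value J Q b
  subst hd
  exact ⟨J, Q, G * J, hJQ, by
    rw [Matrix.mul_assoc, ← Matrix.mul_assoc V, hVG, hEJ, hQJ]⟩

namespace Dat

variable {C A B D : Type u} [CommRing C] [CommRing A] [CommRing B] [CommRing D]
  [Algebra C A] [Algebra C B] [Algebra C D] (d : Dat C A B D)

/-- If the `x i` generate modulo every maximal ideal in the rank `r` sense, coordinates exist. -/
theorem exists_coord {r : ℕ} (hr : d.P.rkE r = 1) (x : Fin r → A)
    (h : ∀ Q : Ideal A, Q.IsMaximal → ∃ g : Fin r → Fin d.n → A,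
      ∀ k l, d.P.φ k (1 * d.P.b l) - ∑ i, d.P.φ k (d.t (x i)) * g i l ∈ Q) :
    ∃ g : Fin r → Fin d.n → A,
      (∀ y : B, ∑ i, d.s (∑ k, g i k * d.P.φ k y) * d.t (x i) = y) ∧
      (∀ i j, ∑ k, g i k * d.P.φ k (d.t (x j)) = if i = j then 1 else 0) := by
  classical
  letI : Algebra A B := (d.s : A →+* B).toAlgebra
  let N : Submodule A B := Submodule.span A (Set.range fun i => d.t (x i))
  haveI : Module.Finite A B := ⟨⟨Finset.univ.image d.P.b, by
    rw [eq_top_iff]
    rintro y -
    rw [← d.P.sum y]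
    refine Submodule.sum_mem _ fun i _ => ?_
    exact Submodule.smul_mem _ (d.P.φ i y) (Submodule.subset_span (by simp))⟩⟩
  have hN : N = ⊤ := by
    suffices hs : Module.annihilator A (B ⧸ N) = ⊤ by
      rw [Module.annihilator_eq_top_iff] at hs
      exact Submodule.Quotient.subsingleton_iff.1 hs
    by_contra hne
    obtain ⟨Q, hQ, hQle⟩ := Ideal.exists_le_maximal _ hne
    obtain ⟨g, hg⟩ := h Q hQ
    have hle : (⊤ : Submodule A (B ⧸ N)) ≤ Q • ⊤ := by
      rintro z -
      obtain ⟨y, rfl⟩ := N.mkQ_surjective z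
      rw [← d.P.sum y, map_sum]
      refine Submodule.sum_mem _ fun l _ => ?_
      show N.mkQ (d.P.φ l y • d.P.b l) ∈ _
      rw [map_smul]
      refine Submodule.smul_mem _ _ ?_
      have hb : d.P.b l = ∑ i, g i l • d.t (x i) +
          ∑ k, (d.P.φ k (1 * d.P.b l) - ∑ i, d.P.φ k (d.t (x i)) * g i l) • d.P.b k := by
        have h1 : ∀ k, (∑ i, d.P.φ k (d.t (x i)) * g i l) = d.P.φ k (∑ i, g i l • d.t (x i)) := by
          intro k
          rw [map_sum]
          refine Finset.sum_congr rfl fun i _ => ?_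
          rw [mul_comm]
          exact (d.P.φ_mul k _ _).symm
        simp only [one_mul, sub_smul, Finset.sum_sub_distrib, h1]
        rw [show ∑ k, d.P.φ k (d.P.b l) • d.P.b k = d.P.b l from d.P.sum _,
          show ∑ k, d.P.φ k (∑ i, g i l • d.t (x i)) • d.P.b k = ∑ i, g i l • d.t (x i) from d.P.sum _]
        abel
      rw [hb, map_add]
      refine Submodule.add_mem _ ?_ ?_
      · rw [show N.mkQ (∑ i, g i l • d.t (x i)) = 0 from (Submodule.Quotient.mk_eq_zero N).2
          (Submodule.sum_mem _ fun i _ => Submodule.smul_mem _ _ (Submodule.subset_span ⟨i, rfl⟩))]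
        exact Submodule.zero_mem _
      · rw [map_sum]
        refine Submodule.sum_mem _ fun k _ => ?_
        rw [map_smul]
        exact Submodule.smul_mem_smul (hg k l) Submodule.mem_top
    obtain ⟨a, ha, ha0⟩ := Submodule.exists_sub_one_mem_and_smul_eq_zero_of_fg_of_le_smul Q _
      Module.Finite.fg_top hle
    have haQ : a ∈ Q := hQle (Module.mem_annihilator.2 fun z => ha0 z Submodule.mem_top)
    exact hQ.ne_top ((Ideal.eq_top_iff_one _).2 (by simpa using Q.sub_mem haQ ha))
  have hb : ∀ l, ∃ g : Fin r → A, ∑ i, g i • d.t (x i) = d.P.b l := fun l =>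
    (Submodule.mem_span_range_iff_exists_fun A).1 (show d.P.b l ∈ N from hN ▸ Submodule.mem_top)
  choose g0 hg0 using hb
  let Φ : Matrix (Fin d.n) (Fin r) A := Matrix.of fun k i => d.P.φ k (d.t (x i))
  let G0 : Matrix (Fin r) (Fin d.n) A := Matrix.of fun i l => g0 l i
  let G : Matrix (Fin r) (Fin d.n) A := G0 * d.P.mat 1
  have hEΦ : d.P.mat 1 * Φ = Φ := by
    ext k i
    simp only [Matrix.mul_apply, Pres.mat_apply, one_mul, Φ, Matrix.of_apply]
    conv_rhs => rw [← d.P.sum (d.t (x i)), map_sum]
    refine Finset.sum_congr rfl fun l _ => ?_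
    rw [d.P.φ_mul, mul_comm]
  have hΦG0 : Φ * G0 = d.P.mat 1 := by
    ext k l
    simp only [Matrix.mul_apply, Pres.mat_apply, one_mul, Φ, G0, Matrix.of_apply]
    conv_rhs => rw [← hg0 l, map_sum]
    refine Finset.sum_congr rfl fun i _ => ?_
    rw [mul_comm]
    exact (d.P.φ_mul k _ _).symm
  have hΦG : Φ * G = d.P.mat 1 := by
    show Φ * (G0 * d.P.mat 1) = _
    rw [← Matrix.mul_assoc, hΦG0, d.P.mat_one_idem]
  have hH : (G * Φ) * (G * Φ) = G * Φ := by
    rw [Matrix.mul_assoc, ← Matrix.mul_assoc Φ, hΦG, hEΦ]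
  have hGΦ : G * Φ = 1 := by
    have hrk : rk (G * Φ) r = 1 := by
      have key : ∀ {m k : ℕ} (L : Matrix (Fin m) (Fin k) A) (L' : Matrix (Fin k) (Fin m) A),
          rkPoly (L * L') = Matrix.det
            (1 + (((Polynomial.X : Polynomial A) - 1) • L.map Polynomial.C) * L'.map Polynomial.C) := by
        intro m k L L'
        rw [rkPoly, dd, one_smul, Matrix.smul_mul, ← Matrix.map_mul, sub_smul, one_smul]
        congr 1; abel
      have he : rkPoly (G * Φ) = rkPoly (Φ * G) := by
        rw [key, key, Matrix.det_one_add_mul_comm, Matrix.mul_smul, ← Matrix.smul_mul]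
      rw [rk, he, hΦG]
      exact hr
    have hdet : (G * Φ).det = 1 := by
      have := rk_mul_dd (RingHom.id A) hH (r := r) (by simp) (1 : A) 0
      simpa [hrk, dd] using this
    have hu : IsUnit (G * Φ) := (Matrix.isUnit_iff_isUnit_det _).2 (by rw [hdet]; exact isUnit_one)
    exact hu.mul_left_cancel (hH.trans (mul_one _).symm)
  refine ⟨fun i k => G i k, fun y => ?_, fun i j => ?_⟩
  · calc ∑ i, d.s (∑ k, G i k * d.P.φ k y) * d.t (x i)
        = ∑ k, d.P.φ k y • ∑ i, G i k • d.t (x i) := by
          simp only [map_sum, Finset.sum_mul, Finset.smul_sum]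
          rw [Finset.sum_comm]
          refine Finset.sum_congr rfl fun k _ => Finset.sum_congr rfl fun i _ => ?_
          rw [map_mul, smul_smul, mul_comm (d.P.φ k y)]
          show _ = d.s (G i k * d.P.φ k y) * d.t (x i)
          rw [map_mul]
      _ = ∑ k, d.P.φ k y • d.P.b k := by
          refine Finset.sum_congr rfl fun k _ => congrArg _ ?_
          conv_rhs => rw [← d.P.sum (d.P.b k)]
          have h1 : ∀ l, d.P.φ l (d.P.b k) = d.P.mat 1 l k := fun l => by rw [Pres.mat_apply, one_mul]
          simp only [h1, G, Matrix.mul_apply, Finset.sum_smul]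
          rw [Finset.sum_comm]
          refine Finset.sum_congr rfl fun l _ => ?_
          show ∑ i, (G0 i l * d.P.mat 1 l k) • d.t (x i) = d.P.mat 1 l k • d.P.b l
          rw [← hg0 l, Finset.smul_sum]
          refine Finset.sum_congr rfl fun i _ => ?_
          rw [smul_smul, mul_comm]
          rfl
      _ = y := d.P.sum y
  · have := congrFun (congrFun hGΦ i) j
    simpa [Matrix.mul_apply, Matrix.one_apply, Φ] using this

/-- Basis data from coordinates indexed by `Fin r`. -/
theorem basisData_fin (hfull : d.Full) (hinj : Function.Injective (algebraMap C A)) {r : ℕ}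
    (x : Fin r → A) (g : Fin r → Fin d.n → A)
    (h1 : ∀ y : B, ∑ i, d.s (∑ k, g i k * d.P.φ k y) * d.t (x i) = y)
    (h2 : ∀ i j, ∑ k, g i k * d.P.φ k (d.t (x j)) = if i = j then 1 else 0) :
    BasisData d.s d.t d.e d.p1 d.p2 d.m (fun i : ULift.{u} (Fin r) => x i.down) :=
  d.basisData hfull hinj (fun i : ULift.{u} (Fin r) => x i.down) (fun i => g i.down)
    (fun y => (Fintype.sum_equiv Equiv.ulift _ (fun i => d.s (∑ k, g i k * d.P.φ k y) * d.t (x i))
      fun _ => rfl).trans (h1 y))
    (fun i j => by rw [h2]; simp [ULift.down_inj])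

set_option maxHeartbeats 1200000 in
/-- Over a maximal ideal `q` of `C` there is a flat extension with prime over `q` on which generic
combinations of the generators form a basis. -/
theorem exists_generic (hfull : d.Full) (hinj : Function.Injective (algebraMap C A))
    {ι : Type} [Fintype ι] {a : ι → A} (ha : d.Gen a) (q : Ideal C) [hq : q.IsMaximal] :
    ∃ (C2 : Type u) (_ : CommRing C2) (_ : Algebra C C2),
      Module.Flat C C2 ∧ (∀ I : Ideal C, I.map (algebraMap C C2) = ⊤ → ¬ I ≤ q) ∧
      ∃ (r : ℕ) (x : ULift.{u} (Fin r) → C2 ⊗[C] A),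
        (∀ i, x i ∈ Submodule.span C2 (Set.range fun j => (1 : C2) ⊗ₜ[C] a j)) ∧
        BasisData (d.bc C2).s (d.bc C2).t (d.bc C2).e (d.bc C2).p1 (d.bc C2).p2 (d.bc C2).m x := by
  classical
  haveI := d.isIntegral (d.lifts_of_full hfull)
  choose c hc using fun r => hfull _ (d.rkE_inv r).symm
  have hsum : ∑ r ∈ Finset.range (d.n + 1), c r = 1 :=
    hinj (by rw [map_sum, Finset.sum_congr rfl fun r _ => hc r, d.P.sum_rkE, map_one])
  obtain ⟨r, hrn, hrq⟩ : ∃ r ∈ Finset.range (d.n + 1), c r ∉ q := by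
    by_contra hcon
    simp only [not_exists, not_and, not_not] at hcon
    exact hq.ne_top ((Ideal.eq_top_iff_one q).2 (hsum ▸ q.sum_mem hcon))
  let R0 := MvPolynomial (Fin r × ι) C
  let ξ : Ideal R0 := RingHom.ker (MvPolynomial.map (σ := Fin r × ι) (Ideal.Quotient.mk q))
  haveI : IsDomain (C ⧸ q) := Ideal.Quotient.isDomain q
  haveI : ξ.IsPrime := RingHom.ker_isPrime _
  let C2 := Localization.AtPrime ξ
  have hflat : Module.Flat C C2 :=
    haveI : Module.Flat R0 C2 := IsLocalization.flat C2 ξ.primeCompl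
    Module.Flat.trans C R0 C2
  have hξ : ∀ γ : C, algebraMap C R0 γ ∈ ξ ↔ γ ∈ q := fun γ => by
    rw [RingHom.mem_ker, MvPolynomial.algebraMap_eq, MvPolynomial.map_C, map_eq_zero_iff _
      (MvPolynomial.C_injective _ _), Ideal.Quotient.eq_zero_iff_mem]
  have hdet : ∀ I : Ideal C, I.map (algebraMap C C2) = ⊤ → ¬ I ≤ q := by
    intro I hI hle
    have h1 : I.map (algebraMap C R0) ≤ ξ := Ideal.map_le_iff_le_comap.2 fun γ hγ => (hξ γ).2 (hle hγ)
    have h2 : I.map (algebraMap C C2) ≤ IsLocalRing.maximalIdeal C2 := by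
      rw [IsScalarTower.algebraMap_eq C R0 C2, ← Ideal.map_map, ← Localization.AtPrime.map_eq_maximalIdeal]
      exact Ideal.map_mono h1
    rw [hI] at h2
    exact (IsLocalRing.maximalIdeal.isMaximal C2).ne_top (top_le_iff.1 h2)
  have hfull2 := d.bc_full C2 hfull
  have hinj2 := Dat.bc_injective C2 hinj
  haveI := (d.bc C2).isIntegral ((d.bc C2).lifts_of_full hfull2)
  have hcr : algebraMap C C2 (c r) = 1 := by
    have hidem : c r * c r = c r := hinj (by rw [map_mul, hc]; exact rk_idem d.P.mat_one_idem r)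
    have hu : IsUnit (algebraMap C C2 (c r)) := by
      rw [IsScalarTower.algebraMap_apply C R0 C2]
      exact IsLocalization.map_units C2 (⟨_, fun h => hrq ((hξ _).1 h)⟩ : ξ.primeCompl)
    exact hu.mul_left_cancel (by rw [← map_mul, hidem, mul_one])
  have hr2 : (d.bc C2).P.rkE r = 1 := by
    show (d.P.bc C2).rkE r = 1
    rw [(d.P.compat_bc C2).rkE_map, ← hc, RingHom.coe_coe, AlgHom.commutes,
      IsScalarTower.algebraMap_apply C C2 (C2 ⊗[C] A), hcr, map_one]
  let X' : Fin r → ι → C2 := fun i j => algebraMap R0 C2 (MvPolynomial.X (i, j))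
  let x : Fin r → C2 ⊗[C] A := fun i => ∑ j, X' i j • ((1 : C2) ⊗ₜ[C] a j)
  obtain ⟨g, hg1, hg2⟩ := (d.bc C2).exists_coord hr2 x fun Q hQ => by
    -- generic combinations span modulo every maximal ideal
    let K := (C2 ⊗[C] A) ⧸ Q
    letI : Field K := Ideal.Quotient.field Q
    let π : C2 ⊗[C] A →+* K := Ideal.Quotient.mk Q
    let χ : R0 →+* K := (π.comp (algebraMap C2 (C2 ⊗[C] A))).comp (algebraMap R0 C2)
    have hχ : RingHom.ker χ = ξ := by
      haveI : (Q.comap (algebraMap C2 (C2 ⊗[C] A))).IsMaximal :=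
        Ideal.isMaximal_comap_of_isIntegral_of_isMaximal (R := C2) Q
      have h1 : RingHom.ker (π.comp (algebraMap C2 (C2 ⊗[C] A))) = IsLocalRing.maximalIdeal C2 := by
        rw [← RingHom.comap_ker, Ideal.mk_ker]
        exact IsLocalRing.eq_maximalIdeal inferInstance
      show RingHom.ker ((π.comp (algebraMap C2 (C2 ⊗[C] A))).comp (algebraMap R0 C2)) = ξ
      rw [← RingHom.comap_ker, h1]
      exact IsLocalization.AtPrime.comap_maximalIdeal C2 ξ
    let ρ : A →+* K := π.comp
      (Algebra.TensorProduct.includeRight : A →ₐ[C] C2 ⊗[C] A).toRingHom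
    have hρχ : ∀ γ : C, ρ (algebraMap C A γ) = χ (MvPolynomial.C γ) := fun γ => by
      show π ((Algebra.TensorProduct.includeRight : A →ₐ[C] C2 ⊗[C] A) (algebraMap C A γ)) =
        π (algebraMap C2 (C2 ⊗[C] A) (algebraMap R0 C2 (algebraMap C R0 γ)))
      rw [AlgHom.commutes, ← IsScalarTower.algebraMap_apply, ← IsScalarTower.algebraMap_apply]
    let P0 : Ideal A := RingHom.ker ρ
    haveI : P0.IsPrime := RingHom.ker_isPrime _
    have hP0 : q = P0.comap (algebraMap C A) := by
      ext γ
      rw [Ideal.mem_comap, RingHom.mem_ker, hρχ, ← RingHom.mem_ker, hχ, ← MvPolynomial.algebraMap_eq, hξ]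
    haveI hP0m : P0.IsMaximal := Ideal.isMaximal_of_isIntegral_of_isMaximal_comap P0 (hP0 ▸ hq)
    let K0 := A ⧸ P0
    letI : Field K0 := Ideal.Quotient.field P0
    let ρ0 : K0 →+* K := RingHom.kerLift ρ
    let τ : A →+* K0 := Ideal.Quotient.mk P0
    let θ : MvPolynomial (Fin r × ι) K0 →+* K :=
      MvPolynomial.eval₂Hom ρ0 fun p => χ (MvPolynomial.X p)
    have hθ : Function.Injective θ := by
      let ω : C ⧸ q →+* K0 := Ideal.quotientMap P0 (algebraMap C A) hP0.le
      letI : Algebra (MvPolynomial (Fin r × ι) (C ⧸ q)) (MvPolynomial (Fin r × ι) K0) :=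
        (MvPolynomial.map ω).toAlgebra
      haveI : Algebra.IsIntegral (MvPolynomial (Fin r × ι) (C ⧸ q)) (MvPolynomial (Fin r × ι) K0) := by
        refine ⟨fun z => ?_⟩
        induction z using MvPolynomial.induction_on with
        | C z =>
          obtain ⟨w, rfl⟩ := Ideal.Quotient.mk_surjective z
          obtain ⟨p, hpm, hp0⟩ := Algebra.IsIntegral.isIntegral (R := C) w
          refine ⟨p.map (MvPolynomial.C.comp (Ideal.Quotient.mk q)), hpm.map _, ?_⟩
          have h := congrArg ((MvPolynomial.C : K0 →+* MvPolynomial (Fin r × ι) K0).comp τ) hp0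
          rw [Polynomial.hom_eval₂, map_zero] at h
          rw [Polynomial.eval₂_map]
          refine Eq.trans ?_ h
          congr 1
          refine RingHom.ext fun γ => ?_
          (simp [RingHom.algebraMap_toAlgebra, ω, τ]) <;> exact Ideal.quotientMap_mk
        | add p p' hp hp' => exact hp.add hp'
        | mul_X p i hp =>
          refine hp.mul ?_
          rw [show (MvPolynomial.X i : MvPolynomial (Fin r × ι) K0) =
            algebraMap (MvPolynomial (Fin r × ι) (C ⧸ q)) _ (MvPolynomial.X i) by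
              simp [RingHom.algebraMap_toAlgebra]]
          exact isIntegral_algebraMap
      rw [RingHom.injective_iff_ker_eq_bot]
      apply Ideal.eq_bot_of_comap_eq_bot (R := MvPolynomial (Fin r × ι) (C ⧸ q))
      rw [eq_bot_iff]
      intro z hz
      obtain ⟨p, rfl⟩ := MvPolynomial.map_surjective _ Ideal.Quotient.mk_surjective z
      rw [Ideal.mem_comap, RingHom.mem_ker, RingHom.algebraMap_toAlgebra, MvPolynomial.map_map] at hz
      have hcomp : θ.comp (MvPolynomial.map (ω.comp (Ideal.Quotient.mk q))) = χ := by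
        apply MvPolynomial.ringHom_ext
        · intro γ
          simp only [RingHom.comp_apply, MvPolynomial.map_C, θ, MvPolynomial.eval₂Hom_C]
          rw [← hρχ]
          rfl
        · intro i
          simp [θ]
      have : χ p = 0 := by rw [← hcomp]; exact hz
      rw [← RingHom.mem_ker, hχ] at this
      exact Ideal.mem_bot.2 this
    -- the numeric data over `K0`
    have hb : ∀ l, ∃ γ : ι → A, d.P.b l = ∑ j, d.s (γ j) * d.t (a j) := fun l => ha _
    choose γ hγ using hb
    let V : Matrix (Fin d.n) ι A := Matrix.of fun k j => d.P.φ k (d.t (a j))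
    let Γ' : Matrix ι (Fin d.n) A := Matrix.of fun j l => γ l j
    have hVG : V * Γ' = d.P.mat 1 := by
      ext k l
      simp only [Matrix.mul_apply, Pres.mat_apply, one_mul, V, Γ', Matrix.of_apply]
      rw [hγ l, map_sum]
      refine Finset.sum_congr rfl fun j _ => ?_
      rw [mul_comm]
      exact (d.P.φ_mul k _ _).symm
    have hEV : d.P.mat 1 * V = V := by
      ext k i
      simp only [Matrix.mul_apply, Pres.mat_apply, one_mul, V, Matrix.of_apply]
      conv_rhs => rw [← d.P.sum (d.t (a i)), map_sum]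
      refine Finset.sum_congr rfl fun l _ => ?_
      rw [d.P.φ_mul, mul_comm]
    have hτr : rk ((d.P.mat 1).map τ) r = 1 := by
      rw [rk_map, show rk (d.P.mat 1) r = algebraMap C A (c r) from (hc r).symm]
      have hidem : c r * c r = c r := hinj (by rw [map_mul, hc]; exact rk_idem d.P.mat_one_idem r)
      have h0 : τ (algebraMap C A (c r)) ≠ 0 := fun h => hrq (by
        rw [hP0, Ideal.mem_comap]; exact Ideal.Quotient.eq_zero_iff_mem.1 h)
      apply mul_left_cancel₀ h0
      rw [← map_mul, ← map_mul, hidem, mul_one]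
    obtain ⟨J, L, Sel, hJL, hLVS⟩ := exists_sel
      (by rw [← Matrix.map_mul, d.P.mat_one_idem]) hτr (V.map τ) (Γ'.map τ)
      (by rw [← Matrix.map_mul, hVG])
    let Xm : Matrix ι (Fin r) (MvPolynomial (Fin r × ι) K0) := Matrix.of fun j i => MvPolynomial.X (i, j)
    let M : Matrix (Fin r) (Fin r) (MvPolynomial (Fin r × ι) K0) :=
      (L * V.map τ).map MvPolynomial.C * Xm
    have hM : M.det ≠ 0 := by
      intro h0
      have h := congrArg (MvPolynomial.eval fun p => Sel p.2 p.1) h0
      rw [RingHom.map_det, map_zero] at h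
      have he : (MvPolynomial.eval fun p : Fin r × ι => Sel p.2 p.1).mapMatrix M = 1 := by
        rw [← hLVS, RingHom.mapMatrix_apply, Matrix.map_mul, Matrix.map_map]
        congr 1
        · ext i j; simp
        · ext i j; simp [Xm]
      rw [he, Matrix.det_one] at h
      exact one_ne_zero h
    have hu : IsUnit (M.map θ) := by
      rw [Matrix.isUnit_iff_isUnit_det, show (M.map θ).det = θ M.det from (RingHom.map_det θ M).symm]
      exact (map_ne_zero_iff _ hθ |>.2 hM).isUnit
    -- transport to `K`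
    let Φ : Matrix (Fin d.n) (Fin r) K :=
      Matrix.of fun k i => π ((d.bc C2).P.φ k ((d.bc C2).t (x i)))
    have hΦ : Φ = (V.map τ).map ρ0 * Xm.map θ := by
      ext k i
      simp only [Φ, x, Matrix.of_apply, map_sum, Matrix.mul_apply, Matrix.map_apply, Xm,
        θ, MvPolynomial.eval₂Hom_X']
      refine Finset.sum_congr rfl fun j _ => ?_
      rw [map_smul, Algebra.smul_def, ← (d.bc C2).s.commutes,
        show ((d.bc C2).s (algebraMap C2 (C2 ⊗[C] A) (X' i j)) * (d.bc C2).t ((1 : C2) ⊗ₜ[C] a j)) =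
          ((d.bc C2).s : C2 ⊗[C] A →+* C2 ⊗[C] B) (algebraMap C2 (C2 ⊗[C] A) (X' i j)) *
            (d.bc C2).t ((1 : C2) ⊗ₜ[C] a j) from rfl]
      erw [(d.bc C2).P.φ_mul]
      rw [map_mul, mul_comm]
      congr 1
    let Mi : Matrix (Fin r) (Fin r) K :=
      ((hu.unit⁻¹ : (Matrix (Fin r) (Fin r) K)ˣ) : Matrix (Fin r) (Fin r) K)
    have hMi : M.map θ * Mi = 1 := hu.mul_val_inv
    have hE : (d.P.mat 1).map ρ = Φ * (Mi * L.map ρ0) := by
      have h1 : (d.P.mat 1).map ρ = J.map ρ0 * L.map ρ0 := by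
        rw [← Matrix.map_mul, hJL, Matrix.map_map]
        rfl
      have h2 : (d.P.mat 1).map ρ * Φ = Φ := by
        rw [hΦ, ← Matrix.mul_assoc]
        congr 1
        have h3 : (d.P.mat 1).map ρ = ((d.P.mat 1).map τ).map ρ0 := by rw [Matrix.map_map]; rfl
        rw [h3, ← Matrix.map_mul, ← Matrix.map_mul, hEV]
      have h4 : M.map θ = L.map ρ0 * Φ := by
        rw [hΦ, ← Matrix.mul_assoc, ← Matrix.map_mul, Matrix.map_mul, Matrix.map_map]
        congr 1
        ext i j
        simp [θ]
      have h5 : Φ = J.map ρ0 * M.map θ := by rw [h4, ← Matrix.mul_assoc, ← h1, h2]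
      conv_rhs => rw [h5, Matrix.mul_assoc, ← Matrix.mul_assoc (M.map θ),
        hMi, Matrix.one_mul]
      exact h1
    choose g hg using fun (i : Fin r) (l : Fin d.n) =>
      Ideal.Quotient.mk_surjective (I := Q) ((Mi * L.map ρ0) i l)
    refine ⟨g, fun (k l : Fin d.n) => ?_⟩
    refine Ideal.Quotient.eq_zero_iff_mem.1 ?_
    erw [map_sub, map_sum, sub_eq_zero]
    refine Eq.trans ?_ ((congrFun (congrFun hE k) l).trans ?_)
    · rw [Matrix.map_apply, Pres.mat_apply, one_mul, one_mul]
      exact congrArg π ((d.P.compat_bc C2).φ_eq k (d.P.b l))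
    · rw [Matrix.mul_apply]
      refine Finset.sum_congr rfl fun i _ => ?_
      rw [map_mul, hg]
      rfl
  refine ⟨C2, inferInstance, inferInstance, hflat, hdet, r, fun i => x i.down, fun i => ?_, ?_⟩
  · exact Submodule.sum_mem _ fun j _ => Submodule.smul_mem _ _ (Submodule.subset_span ⟨j, rfl⟩)
  · exact @Dat.basisData_fin C2 (C2 ⊗[C] A) (C2 ⊗[C] B) (C2 ⊗[C] D) _ _ _ _ _ _ _ (d.bc C2) hfull2 hinj2 r x g hg1 hg2

end Dat

end Groth.Agent.L24.Quot
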