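import Mathlib.LinearAlgebra.Matrix.Charpoly.Coeff
import Mathlib.LinearAlgebra.Matrix.SchurComplement
import Mathlib.RingTheory.TensorProduct.Maps
import Mathlib.RingTheory.Flat.Basic
import Mathlib.RingTheory.Flat.EquationalCriterion
import Mathlib.RingTheory.Ideal.GoingUp
import Mathlib.RingTheory.Finiteness.Projective
import Mathlib.RingTheory.Finiteness.ModuleFinitePresentation
import Mathlib.FieldTheory.IsAlgClosed.AlgebraicClosure
import Mathlib.RingTheory.Norm.Basic
import Mathlib.RingTheory.MvPolynomial.Basic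
import Mathlib.Algebra.Polynomial.Lifts
import Mathlib.Tactic.LinearCombination

/-!
# Determinants attached to an idempotent matrix

For an idempotent matrix `E` the coefficients `rk E r` of `det (X E + (1 - E))` are orthogonal idempotents
summing to `1`; on the piece cut out by `rk E r` the projective module `im E` has rank `r`.
-/

universe u

namespace Groth.Agent.L24.Quot

open Polynomial Matrix

variable {A : Type*} [CommRing A] {n : Type*} [Fintype n] [DecidableEq n]

/-- `det (u E + v (1 - E))`, after pushing `E` along `f`. -/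
noncomputable def dd {R : Type*} [CommRing R] (E : Matrix n n A) (f : A →+* R) (u v : R) : R :=
  det (u • E.map f + v • (1 - E.map f))

variable {E : Matrix n n A} {R : Type*} [CommRing R] (f : A →+* R)

theorem dd_map {T : Type*} [CommRing T] (g : R →+* T) (u v : R) :
    g (dd E f u v) = dd E (g.comp f) (g u) (g v) := by
  unfold dd
  rw [RingHom.map_det]
  congr 1
  ext i j
  simp [Matrix.one_apply, apply_ite g]

theorem dd_one : dd E f 1 1 = 1 := by
  simp [dd]

theorem dd_diag (v : R) : dd E f v v = v ^ Fintype.card n := by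
  simp [dd, ← smul_add, det_smul]

theorem dd_mul (hE : E * E = E) (u v u' v' : R) :
    dd E f u v * dd E f u' v' = dd E f (u * u') (v * v') := by
  unfold dd
  rw [← det_mul]
  congr 1
  have h : E.map f * E.map f = E.map f := by rw [← Matrix.map_mul, hE]
  simp only [add_mul, mul_add, smul_mul_smul_comm, sub_mul, mul_sub, one_mul, mul_one, h, sub_self,
    sub_zero, smul_zero, add_zero, zero_add]

/-- The rank polynomial of an idempotent matrix. -/
noncomputable def rkPoly (E : Matrix n n A) : A[X] := dd E C X 1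

/-- The idempotent cutting out rank `r`. -/
noncomputable def rk (E : Matrix n n A) (r : ℕ) : A := (rkPoly E).coeff r

theorem dd_eq_eval₂ (u : R) : dd E f u 1 = (rkPoly E).eval₂ f u := by
  rw [rkPoly, ← coe_eval₂RingHom f u, dd_map, coe_eval₂RingHom, eval₂_X, eval₂_one]
  congr 1
  ext a
  simp

theorem rk_eq_zero_of_card_lt {r : ℕ} (h : Fintype.card n < r) : rk E r = 0 := by
  apply coeff_eq_zero_of_natDegree_lt
  refine lt_of_le_of_lt ?_ h
  have := natDegree_det_X_add_C_le E (1 - E)
  refine le_of_eq_of_le ?_ this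
  rw [rkPoly, dd]
  congr 2
  ext i j
  simp [Matrix.one_apply, apply_ite (C : A → A[X])]

theorem rkPoly_natDegree_le : (rkPoly E).natDegree ≤ Fintype.card n := by
  rw [natDegree_le_iff_coeff_eq_zero]
  exact fun r hr => rk_eq_zero_of_card_lt hr

theorem rk_mul_rk (hE : E * E = E) (r s : ℕ) : rk E r * rk E s = if r = s then rk E r else 0 := by
  let g : A →+* A[X][X] := (C : A[X] →+* A[X][X]).comp C
  have h1 := dd_mul g hE (C X) 1 X 1
  rw [mul_one, dd_eq_eval₂, dd_eq_eval₂, dd_eq_eval₂] at h1
  have h2 : (rkPoly E).eval₂ g (C X) = C (rkPoly E) := by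
    rw [← hom_eval₂ (rkPoly E) C C X, eval₂_C_X]
  have h3 : (rkPoly E).eval₂ g X = (rkPoly E).map C := rfl
  rw [h2, h3] at h1
  have h4 := congrArg (fun P : A[X][X] => (P.coeff r).coeff s) h1
  simp only [coeff_C_mul, coeff_map, coeff_mul_C] at h4
  rw [rk, rk, mul_comm, h4, eval₂_eq_sum_range, finset_sum_coeff, finset_sum_coeff]
  simp only [g, RingHom.comp_apply, mul_pow, ← mul_assoc, ← C_pow, ← C_mul, coeff_C_mul_X_pow]
  rw [Finset.sum_eq_single r]
  · simp [coeff_C_mul_X_pow, eq_comm]
  · intro b _ hb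
    simp [Ne.symm hb]
  · intro hr
    rw [Finset.mem_range, not_lt] at hr
    have : (rkPoly E).coeff r = 0 := coeff_eq_zero_of_natDegree_lt (by omega)
    simp [this]

theorem rk_idem (hE : E * E = E) (r : ℕ) : rk E r * rk E r = rk E r := by
  simp [rk_mul_rk hE]

theorem rk_mul_eval₂ (hE : E * E = E) (r : ℕ) (u : R) :
    f (rk E r) * dd E f u 1 = f (rk E r) * u ^ r := by
  rw [dd_eq_eval₂, eval₂_eq_sum_range, Finset.mul_sum, Finset.sum_eq_single r]
  · rw [← mul_assoc, ← map_mul, show (rkPoly E).coeff r = rk E r from rfl, rk_idem hE]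
  · intro b _ hb
    rw [← mul_assoc, ← map_mul, show (rkPoly E).coeff b = rk E b from rfl, rk_mul_rk hE,
      if_neg (Ne.symm hb), map_zero, zero_mul]
  · intro hr
    rw [Finset.mem_range, not_lt] at hr
    have : (rkPoly E).coeff r = 0 := coeff_eq_zero_of_natDegree_lt (by omega)
    simp [this, show rk E r = 0 from this]

theorem rk_mul_dd (hE : E * E = E) {r : ℕ} (hr : r ≤ Fintype.card n) (u v : R) :
    f (rk E r) * dd E f u v = f (rk E r) * (u ^ r * v ^ (Fintype.card n - r)) := by
  have key : C (rk E r) * dd E C 1 X = C (rk E r) * (X : A[X]) ^ (Fintype.card n - r) := by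
    have h1 := dd_mul (C : A →+* A[X]) hE X 1 1 X
    rw [mul_one, one_mul, dd_diag] at h1
    have h2 : C (rk E r) * (dd E C X 1 * dd E C 1 X) = C (rk E r) * (X : A[X]) ^ Fintype.card n := by
      rw [h1]
    rw [← mul_assoc, rk_mul_eval₂ C hE, ← Nat.add_sub_cancel' hr, pow_add] at h2
    apply (monic_X_pow r).isRegular.left
    dsimp only
    linear_combination h2
  have key' := congrArg (eval₂RingHom f v) key
  simp only [map_mul, map_pow, dd_map, coe_eval₂RingHom, eval₂_C, eval₂_X, eval₂_one] at key'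
  have hcomp : (eval₂RingHom f v).comp C = f := by ext a; simp
  rw [hcomp] at key'
  have h3 : dd E f u v = dd E f u 1 * dd E f 1 v := by rw [dd_mul f hE, mul_one, one_mul]
  rw [h3, ← mul_assoc, rk_mul_eval₂ f hE, mul_comm (f (rk E r)) (u ^ r), mul_assoc, key']
  ring

theorem sum_rk : ∑ r ∈ Finset.range (Fintype.card n + 1), rk E r = 1 := by
  have h : (rkPoly E).eval₂ (RingHom.id A) 1 = 1 := by rw [← dd_eq_eval₂, dd_one]
  rw [← h, eval₂_eq_sum_range' _ (Nat.lt_succ_of_le rkPoly_natDegree_le)]
  simp [rk]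

theorem rk_map (g : A →+* R) (r : ℕ) : rk (E.map g) r = g (rk E r) := by
  have h : rkPoly (E.map g) = (rkPoly E).map g := by
    rw [rkPoly, rkPoly, ← coe_mapRingHom, dd_map, coe_mapRingHom, map_X, Polynomial.map_one]
    unfold dd
    congr 3 <;> (ext i j; simp)
  rw [rk, h, coeff_map]
  rfl

theorem rk_zero_mul_apply (hE : E * E = E) (w : n → A) : rk E 0 • E.mulVec w = 0 := by
  have h0 : rk E 0 = det (1 - E) := by
    have := dd_eq_eval₂ (E := E) (RingHom.id A) 0
    rw [eval₂_at_zero] at this
    rw [rk, ← RingHom.id_apply ((rkPoly E).coeff 0), ← this]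
    simp [dd]
  have h1 : (1 - E).mulVec (E.mulVec w) = 0 := by
    rw [mulVec_mulVec, sub_mul, one_mul, hE, sub_self, zero_mulVec]
  have h2 := congrArg ((1 - E).adjugate.mulVec) h1
  rw [mulVec_mulVec, adjugate_mul, mulVec_zero, smul_mulVec, one_mulVec] at h2
  rwa [h0]

end Groth.Agent.L24.Quot
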