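import Groth.Agent.L24.Quot.Restrict
import Groth.Agent.L24.Quot.Invariant
import Groth.Agent.S1878

/-!
# Quotient maps of finite flat groupoids, opens-stably
-/

set_option backward.isDefEq.respectTransparency.types false

universe u

namespace Groth.Agent.L24.Quot

open AlgebraicGeometry CategoryTheory CategoryTheory.Limits Topology TopologicalSpace

variable {S : Scheme.{u}} (G : Grpd.GroupoidScheme S)

/-- Morphisms on an open cover which agree on intersections glue. -/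
theorem exists_glue {ι : Type u} {X Z : Scheme.{u}} (U : ι → X.Opens) (hU : ∀ x, ∃ i, x ∈ U i)
    (f : ∀ i, (U i).toScheme ⟶ Z)
    (hf : ∀ i j, X.homOfLE inf_le_left ≫ f i = X.homOfLE (inf_le_right : U i ⊓ U j ≤ U j) ≫ f j) :
    ∃ g : X ⟶ Z, ∀ i, (U i).ι ≫ g = f i := by
  let cov : X.OpenCover := Scheme.openCoverOfIsOpenCover X U (eq_top_iff.2 fun x _ => Opens.mem_iSup.2 (hU x))
  refine ⟨cov.glueMorphisms f fun i j => ?_, fun i => Scheme.Cover.ι_glueMorphisms cov f _ i⟩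
  let q := pullback.fst (U i).ι (U j).ι ≫ (U i).ι
  have hr : Set.range q ⊆ Set.range (U i ⊓ U j).ι := by
    rintro _ ⟨w, rfl⟩
    rw [Scheme.Opens.range_ι]
    refine ⟨(pullback.fst (U i).ι (U j).ι w).2, ?_⟩
    show (pullback.fst (U i).ι (U j).ι ≫ (U i).ι) w ∈ U j
    rw [pullback.condition]
    exact (pullback.snd (U i).ι (U j).ι w).2
  have h1 : IsOpenImmersion.lift _ q hr ≫ X.homOfLE inf_le_left = pullback.fst (U i).ι (U j).ι := by
    rw [← cancel_mono (U i).ι, Category.assoc, Scheme.homOfLE_ι, IsOpenImmersion.lift_fac]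
  have h2 : IsOpenImmersion.lift _ q hr ≫ X.homOfLE inf_le_right = pullback.snd (U i).ι (U j).ι := by
    rw [← cancel_mono (U j).ι, Category.assoc, Scheme.homOfLE_ι, IsOpenImmersion.lift_fac]
    exact pullback.condition
  show pullback.fst (U i).ι (U j).ι ≫ f i = pullback.snd (U i).ι (U j).ι ≫ f j
  rw [← h1, ← h2, Category.assoc, Category.assoc, hf]

/-- `g` coequalizes the groupoid pulled back along `j`. -/
def Inv {X Z : Scheme.{u}} (j : X ⟶ G.U) (g : X ⟶ Z) : Prop :=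
  ∀ ⦃T : Scheme.{u}⦄ (a b : T ⟶ X) (r : T ⟶ G.R), r ≫ G.t = a ≫ j → r ≫ G.s = b ≫ j → a ≫ g = b ≫ g

theorem Inv.comp {X Z Z' : Scheme.{u}} {j : X ⟶ G.U} {g : X ⟶ Z} (h : Inv G j g) (k : Z ⟶ Z') :
    Inv G j (g ≫ k) := fun _ a b r h1 h2 => by rw [← Category.assoc, h a b r h1 h2, Category.assoc]

theorem Inv.precomp {X X' Z : Scheme.{u}} {j : X ⟶ G.U} {g : X ⟶ Z} (h : Inv G j g) (i : X' ⟶ X) :
    Inv G (i ≫ j) (i ≫ g) := fun _ a b r h1 h2 => by
  rw [← Category.assoc, h (a ≫ i) (b ≫ i) r (by rw [h1, Category.assoc]) (by rw [h2, Category.assoc]),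
    Category.assoc]

/-- `p : W → Y` is a quotient of the invariant open `W`, stably under restriction to opens of `Y`. -/
structure IsQuot (W : G.U.Opens) {Y : Scheme.{u}} (p : W.toScheme ⟶ Y) : Prop where
  sat : G.s ⁻¹ᵁ W = G.t ⁻¹ᵁ W
  inv : Inv G W.ι p
  surj : Function.Surjective p
  isIntegral : IsIntegralHom p
  fibres : ∀ x y : W.toScheme, p x = p y ↔ Rel G (W.ι x) (W.ι y)
  geom : ∀ (k : Type u) [Field k] [IsAlgClosed k] (x₀ x₁ : Spec (CommRingCat.of k) ⟶ W.toScheme),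
    x₀ ≫ p = x₁ ≫ p → ∃ r : Spec (CommRingCat.of k) ⟶ G.R, r ≫ G.t = x₀ ≫ W.ι ∧ r ≫ G.s = x₁ ≫ W.ι
  desc : ∀ (V : Y.Opens) {Z : Scheme.{u}} (g : (p ⁻¹ᵁ V).toScheme ⟶ Z),
    Inv G ((p ⁻¹ᵁ V).ι ≫ W.ι) g → ∃! h : V.toScheme ⟶ Z, (p ∣_ V) ≫ h = g

/-- Exactness passes to localisations. -/
theorem exists_of_eq_localization {C A B Cc Ac Bc : Type u} [CommRing C] [CommRing A] [CommRing B]
    [CommRing Cc] [CommRing Ac] [CommRing Bc] [Algebra C Cc] [Algebra A Ac] [Algebra B Bc]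
    (φ : C →+* A) (hφ : Function.Injective φ) (s t : A →+* B) (hst : ∀ c, s (φ c) = t (φ c))
    (hex : ∀ a, s a = t a → ∃ c, φ c = a) (c : C)
    [IsLocalization.Away c Cc] [IsLocalization.Away (φ c) Ac] [IsLocalization.Away (s (φ c)) Bc]
    (φc : Cc →+* Ac) (hφc : ∀ x, φc (algebraMap C Cc x) = algebraMap A Ac (φ x))
    (sc tc : Ac →+* Bc) (hsc : ∀ a, sc (algebraMap A Ac a) = algebraMap B Bc (s a))
    (htc : ∀ a, tc (algebraMap A Ac a) = algebraMap B Bc (t a)) :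
    Function.Injective φc ∧ ∀ x, sc x = tc x → ∃ z, φc z = x := by
  constructor
  · rw [injective_iff_map_eq_zero]
    intro z hz
    obtain ⟨⟨x, ⟨_, n, rfl⟩⟩, hx⟩ := IsLocalization.surj (Submonoid.powers c) z
    have h1 : algebraMap A Ac (φ x) = algebraMap A Ac 0 := by
      rw [map_zero, ← hφc, ← hx, map_mul, hz, zero_mul]
    obtain ⟨⟨_, k, rfl⟩, hk⟩ := (IsLocalization.eq_iff_exists (Submonoid.powers (φ c)) Ac).1 h1
    have h2 : c ^ k * x = 0 := hφ (by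
      rw [map_mul, map_pow, map_zero]
      simpa using hk)
    have h3 : algebraMap C Cc x = 0 := by
      rw [← map_zero (algebraMap C Cc)]
      exact (IsLocalization.eq_iff_exists (Submonoid.powers c) Cc).2 ⟨⟨_, k, rfl⟩, by simpa using h2⟩
    have hu : IsUnit (algebraMap C Cc (c ^ n)) :=
      IsLocalization.map_units (M := Submonoid.powers c) Cc ⟨_, n, rfl⟩
    exact (hu.mul_left_eq_zero).1 (hx.trans h3)
  · intro x hx
    obtain ⟨⟨a, ⟨_, n, rfl⟩⟩, ha⟩ := IsLocalization.surj (Submonoid.powers (φ c)) x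
    simp only at ha
    have h1 : algebraMap B Bc (s a) = algebraMap B Bc (t a) := by
      rw [← hsc, ← htc, ← ha, map_mul, map_mul, hx, hsc, htc, map_pow, map_pow, hst]
      simp only [map_pow]
    obtain ⟨⟨_, k, rfl⟩, hk⟩ := (IsLocalization.eq_iff_exists (Submonoid.powers (s (φ c))) Bc).1 h1
    obtain ⟨a', ha'⟩ := hex ((φ c) ^ k * a) (by
      simp only at hk
      rw [map_mul, map_mul, map_pow, map_pow, hk, hst])
    refine ⟨IsLocalization.mk' Cc a' (⟨c ^ (k + n), k + n, rfl⟩ : Submonoid.powers c), ?_⟩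
    have hu : IsUnit (algebraMap A Ac ((φ c) ^ (k + n))) :=
      IsLocalization.map_units (M := Submonoid.powers (φ c)) Ac ⟨_, k + n, rfl⟩
    apply hu.mul_left_injective
    simp only
    have h2 : φc (IsLocalization.mk' Cc a' (⟨c ^ (k + n), k + n, rfl⟩ : Submonoid.powers c)) *
        algebraMap A Ac ((φ c) ^ (k + n)) = algebraMap A Ac (φ a') := by
      rw [← map_pow φ, ← hφc, ← map_mul, IsLocalization.mk'_spec, hφc]
    rw [h2, ha', map_mul, ← ha, ← mul_assoc, mul_comm _ x, mul_assoc, ← map_mul, ← pow_add]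

theorem appLE_top_apply {X Y : Scheme.{u}} (f : X ⟶ Y) (V : X.Opens) (h : V ≤ f ⁻¹ᵁ ⊤) (x : Γ(Y, ⊤)) :
    (f.appLE ⊤ V h).hom x = (X.presheaf.map (homOfLE (le_top : V ≤ ⊤)).op).hom (f.appTop.hom x) := by
  simp only [Scheme.Hom.appLE, Scheme.Hom.appTop]
  rfl

theorem morphismRestrict_appTop' {X Y : Scheme.{u}} (f : X ⟶ Y) (D : Y.Opens) :
    (f ∣_ D).appTop = D.topIso.hom ≫ f.appLE D (f ⁻¹ᵁ D) le_rfl ≫ (f ⁻¹ᵁ D).topIso.inv := by
  rw [← Scheme.Hom.resLE_eq_morphismRestrict]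
  exact Scheme.Hom.resLE_app_top _ le_rfl

theorem morphismRestrict_appTop_injective {X Y : Scheme.{u}} (f : X ⟶ Y) (D : Y.Opens)
    (h : Function.Injective (f.appLE D (f ⁻¹ᵁ D) le_rfl).hom) : Function.Injective (f ∣_ D).appTop.hom := by
  intro u v huv
  rw [morphismRestrict_appTop'] at huv
  exact D.topIso.commRingCatIsoToRingEquiv.injective
    (h ((f ⁻¹ᵁ D).topIso.commRingCatIsoToRingEquiv.symm.injective huv))

theorem morphismRestrict_appTop_of_appLE {X Y : Scheme.{u}} (f : X ⟶ Y) (D : Y.Opens)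
    (x : Γ((f ⁻¹ᵁ D).toScheme, ⊤)) (z : Γ(Y, D))
    (h : (f.appLE D (f ⁻¹ᵁ D) le_rfl).hom z = (f ⁻¹ᵁ D).topIso.hom.hom x) :
    (f ∣_ D).appTop.hom (D.topIso.inv.hom z) = x := by
  rw [morphismRestrict_appTop']
  show (f ⁻¹ᵁ D).topIso.inv.hom ((f.appLE D (f ⁻¹ᵁ D) le_rfl).hom (D.topIso.hom.hom (D.topIso.inv.hom z))) = x
  rw [← CommRingCat.comp_apply D.topIso.inv D.topIso.hom, Iso.inv_hom_id, CommRingCat.id_apply, h,
    ← CommRingCat.comp_apply (f ⁻¹ᵁ D).topIso.hom (f ⁻¹ᵁ D).topIso.inv, Iso.hom_inv_id,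
    CommRingCat.id_apply]

theorem appLE_eq_of_appTop_resLE_eq {X Y : Scheme.{u}} (f g : X ⟶ Y) (U : Y.Opens) (V : X.Opens)
    (hf : V ≤ f ⁻¹ᵁ U) (hg : V ≤ g ⁻¹ᵁ U) (x : Γ(U.toScheme, ⊤))
    (h : (f.resLE U V hf).appTop.hom x = (g.resLE U V hg).appTop.hom x) :
    (f.appLE U V hf).hom (U.topIso.hom.hom x) = (g.appLE U V hg).hom (U.topIso.hom.hom x) := by
  rw [show (f.resLE U V hf).appTop = _ from Scheme.Hom.resLE_app_top f hf,
    show (g.resLE U V hg).appTop = _ from Scheme.Hom.resLE_app_top g hg] at h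
  exact V.topIso.commRingCatIsoToRingEquiv.symm.injective h

theorem sections_of_exact {U Y R : Scheme.{u}} (f : U ⟶ Y) (s t : R ⟶ U) (D : Y.Opens) (RX : R.Opens)
    (hs : RX ≤ s ⁻¹ᵁ (f ⁻¹ᵁ D)) (ht : RX ≤ t ⁻¹ᵁ (f ⁻¹ᵁ D))
    (hinj : Function.Injective (f.appLE D (f ⁻¹ᵁ D) le_rfl).hom)
    (hexc : ∀ x, (s.appLE (f ⁻¹ᵁ D) RX hs).hom x = (t.appLE (f ⁻¹ᵁ D) RX ht).hom x →
      ∃ z, (f.appLE D (f ⁻¹ᵁ D) le_rfl).hom z = x) :
    Function.Injective (f ∣_ D).appTop.hom ∧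
    ∀ x : Γ((f ⁻¹ᵁ D).toScheme, ⊤),
      (∀ ⦃T : Scheme.{u}⦄ (a b : T ⟶ (f ⁻¹ᵁ D).toScheme) (r : T ⟶ R),
        r ≫ t = a ≫ (f ⁻¹ᵁ D).ι → r ≫ s = b ≫ (f ⁻¹ᵁ D).ι →
          a.appTop.hom x = b.appTop.hom x) →
      ∃ z, (f ∣_ D).appTop.hom z = x := by
  refine ⟨morphismRestrict_appTop_injective _ _ hinj, fun x hx => ?_⟩
  have h := appLE_eq_of_appTop_resLE_eq t s (f ⁻¹ᵁ D) RX ht hs x
    (hx (t.resLE (f ⁻¹ᵁ D) RX ht) (s.resLE (f ⁻¹ᵁ D) RX hs) RX.ι
      (Scheme.Hom.resLE_comp_ι t ht).symm (Scheme.Hom.resLE_comp_ι s hs).symm)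
  obtain ⟨z, hz⟩ := hexc _ h.symm
  exact ⟨D.topIso.inv.hom z, morphismRestrict_appTop_of_appLE _ _ x z hz⟩

theorem exists_ringHom_factor {P Q Z : Type u} [CommRing P] [CommRing Q] [CommRing Z] (φ : P →+* Q)
    (hφ : Function.Injective φ) (g : Z →+* Q) (h : ∀ z, ∃ y, φ y = g z) :
    ∃ ψ : Z →+* P, ∀ z, φ (ψ z) = g z := by
  choose ψ hψ using h
  exact ⟨{ toFun := ψ
           map_one' := hφ (by rw [hψ, map_one, map_one])
           map_mul' := fun a b => hφ (by rw [hψ, map_mul, map_mul, hψ, hψ])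
           map_zero' := hφ (by rw [hψ, map_zero, map_zero])
           map_add' := fun a b => hφ (by rw [hψ, map_add, map_add, hψ, hψ]) }, hψ⟩

theorem t_eq_i_comp : G.t = G.i ≫ G.s := G.i_s.symm

theorem isIso_i : IsIso G.i := by
  refine ⟨G.i, ?_, ?_⟩ <;>
  · have h1 := G.assoc (G.i ≫ G.i) G.i (𝟙 G.R) (by rw [Category.assoc, G.i_s, G.i_t])
      (by rw [G.i_s, Category.id_comp])
    have h2 : pullback.lift (G.i ≫ G.i) G.i (by rw [Category.assoc, G.i_s, G.i_t]) ≫ G.c = G.i ≫ G.s ≫ G.e :=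
      G.i_comp G.i
    have h3 : pullback.lift G.i (𝟙 G.R) (by rw [G.i_s, Category.id_comp]) ≫ G.c = G.s ≫ G.e := by
      simpa using G.i_comp (𝟙 G.R)
    simp only [h2, h3] at h1
    have e1 := G.e_comp (𝟙 G.R)
    have e2 := G.comp_e (G.i ≫ G.i)
    simp only [Category.id_comp, Category.assoc, G.i_s, G.i_t, reassoc_of% G.i_s, reassoc_of% G.i_t] at e1 e2 h1
    rw [e1, e2] at h1
    exact h1.symm

section Affine

variable [IsAffine G.U] [IsFinite G.s] [Flat G.s] [LocallyOfFinitePresentation G.s]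

theorem closed_toQuot : IsIntegralHom G.toQuot := by
  haveI : IsAffine G.R := isAffine_of_isAffineHom G.s
  letI := algR G
  letI := algD G
  obtain ⟨d, -, -, hfull⟩ := exists_dat G
  haveI := d.isIntegral (d.lifts_of_full hfull)
  rw [Grpd.GroupoidScheme.toQuot, MorphismProperty.cancel_left_of_respectsIso (P := @IsIntegralHom),
    IsIntegralHom.SpecMap_iff]
  exact fun x => Algebra.IsIntegral.isIntegral (R := G.invariants) x

theorem toQuot_comp_eq : G.t ≫ G.toQuot = G.s ≫ G.toQuot := by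
  rw [Grpd.GroupoidScheme.toQuot, Scheme.toSpecΓ_naturality_assoc, Scheme.toSpecΓ_naturality_assoc,
    ← Spec.map_comp, ← Spec.map_comp]
  congr 2
  exact CommRingCat.hom_ext (RingHom.ext fun c => (inv_st G c).symm)

theorem inv_toQuot : Inv G (𝟙 G.U) G.toQuot := fun T a b r h1 h2 => by
  rw [Category.comp_id] at h1 h2
  rw [← h1, ← h2, Category.assoc, Category.assoc, toQuot_comp_eq]

set_option maxHeartbeats 1000000 in
/-- The quotient sections over a basic open are the invariant sections. -/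
theorem basic_sections (c : Γ(Spec (CommRingCat.of G.invariants), ⊤))
    (D : (Spec (CommRingCat.of G.invariants)).Opens) (hD : D = Scheme.basicOpen _ c) :
    Function.Injective (G.toQuot ∣_ D).appTop.hom ∧
    ∀ x : Γ((G.toQuot ⁻¹ᵁ D).toScheme, ⊤),
      (∀ ⦃T : Scheme.{u}⦄ (a b : T ⟶ (G.toQuot ⁻¹ᵁ D).toScheme) (r : T ⟶ G.R),
        r ≫ G.t = a ≫ (G.toQuot ⁻¹ᵁ D).ι → r ≫ G.s = b ≫ (G.toQuot ⁻¹ᵁ D).ι →
          a.appTop.hom x = b.appTop.hom x) →
      ∃ z, (G.toQuot ∣_ D).appTop.hom z = x := by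
  haveI : IsAffine G.R := isAffine_of_isAffineHom G.s
  let Y := Spec (CommRingCat.of G.invariants)
  let X := G.toQuot ⁻¹ᵁ D
  let RX := G.s ⁻¹ᵁ X
  let φ := G.toQuot.appTop.hom
  have hφval : ∀ x, φ x = ((Scheme.ΓSpecIso (CommRingCat.of G.invariants)).hom.hom x : Γ(G.U, ⊤)) := by
    intro x
    show G.toQuot.appTop.hom x = _
    rw [Grpd.GroupoidScheme.toQuot, Scheme.Hom.comp_appTop, Scheme.toSpecΓ_appTop]
    have := congrArg (fun k => k.hom x) (Scheme.ΓSpecIso_naturality (CommRingCat.ofHom G.invariants.subtype))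
    exact this
  have hφ : Function.Injective φ := by
    intro a b h
    rw [hφval, hφval] at h
    exact (Scheme.ΓSpecIso (CommRingCat.of G.invariants)).commRingCatIsoToRingEquiv.injective (Subtype.ext h)
  have hst : ∀ x, G.s.appTop.hom (φ x) = G.t.appTop.hom (φ x) := fun x => by
    rw [hφval]; exact inv_st G _
  have hex : ∀ a, G.s.appTop.hom a = G.t.appTop.hom a → ∃ x, φ x = a := fun a ha =>
    ⟨(Scheme.ΓSpecIso (CommRingCat.of G.invariants)).commRingCatIsoToRingEquiv.symm ⟨a, ha⟩, by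
      rw [hφval]
      exact congrArg Subtype.val
        ((Scheme.ΓSpecIso (CommRingCat.of G.invariants)).commRingCatIsoToRingEquiv.apply_symm_apply ⟨a, ha⟩)⟩
  have hX : X = G.U.basicOpen (φ c) := by
    show G.toQuot ⁻¹ᵁ D = _
    rw [hD, Scheme.preimage_basicOpen_top]
  have hRX : RX = G.R.basicOpen (G.s.appTop.hom (φ c)) := by
    show G.s ⁻¹ᵁ X = _
    rw [hX, Scheme.preimage_basicOpen_top]
  have hRXt : RX ≤ G.t ⁻¹ᵁ X := by
    rw [hRX, hX, Scheme.preimage_basicOpen_top, hst]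
  letI := (Y.presheaf.map (homOfLE (le_top : D ≤ ⊤)).op).hom.toAlgebra
  letI := (G.U.presheaf.map (homOfLE (le_top : X ≤ ⊤)).op).hom.toAlgebra
  letI := (G.R.presheaf.map (homOfLE (le_top : RX ≤ ⊤)).op).hom.toAlgebra
  haveI : IsLocalization.Away c Γ(Y, D) := (isAffineOpen_top Y).isLocalization_of_eq_basicOpen _ _ hD
  haveI : IsLocalization.Away (φ c) Γ(G.U, X) :=
    (isAffineOpen_top G.U).isLocalization_of_eq_basicOpen _ _ hX
  haveI : IsLocalization.Away (G.s.appTop.hom (φ c)) Γ(G.R, RX) :=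
    (isAffineOpen_top G.R).isLocalization_of_eq_basicOpen _ _ hRX
  obtain ⟨hinj, hexc⟩ := exists_of_eq_localization φ hφ G.s.appTop.hom G.t.appTop.hom hst hex c
    (G.toQuot.appLE D X le_rfl).hom (fun x => by
      show ((Y.presheaf.map (homOfLE (le_top : D ≤ ⊤)).op) ≫ G.toQuot.appLE D X le_rfl).hom x = _
      rw [Scheme.Hom.map_appLE]
      exact appLE_top_apply _ _ _ x
      )
    (G.s.appLE X RX le_rfl).hom (G.t.appLE X RX hRXt).hom (fun x => by
      show ((G.U.presheaf.map (homOfLE (le_top : X ≤ ⊤)).op) ≫ G.s.appLE X RX le_rfl).hom x = _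
      rw [Scheme.Hom.map_appLE]
      exact appLE_top_apply _ _ _ x
      ) (fun x => by
      show ((G.U.presheaf.map (homOfLE (le_top : X ≤ ⊤)).op) ≫ G.t.appLE X RX hRXt).hom x = _
      rw [Scheme.Hom.map_appLE]
      exact appLE_top_apply _ _ _ x
      )
  exact sections_of_exact G.toQuot G.s G.t D RX le_rfl hRXt hinj hexc

theorem isAffine_basic (c : Γ(Spec (CommRingCat.of G.invariants), ⊤)) :
    IsAffine (Scheme.basicOpen _ c).toScheme ∧ IsAffine (G.toQuot ⁻¹ᵁ Scheme.basicOpen _ c).toScheme := by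
  haveI := closed_toQuot G
  exact ⟨(isAffineOpen_top _).basicOpen c, ((isAffineOpen_top _).basicOpen c).preimage G.toQuot⟩

theorem desc_ext (V : (Spec (CommRingCat.of G.invariants)).Opens) {Z : Scheme.{u}}
    (h₁ h₂ : V.toScheme ⟶ Z) (h : (G.toQuot ∣_ V) ≫ h₁ = (G.toQuot ∣_ V) ≫ h₂) : h₁ = h₂ := by
  haveI : IsFinite G.t := by
    haveI := isIso_i G
    rw [t_eq_i_comp G, MorphismProperty.cancel_left_of_respectsIso (P := @IsFinite)]
    infer_instance
  haveI : Flat G.t := by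
    haveI := isIso_i G
    rw [t_eq_i_comp G, MorphismProperty.cancel_left_of_respectsIso (P := @Flat)]
    infer_instance
  haveI : LocallyOfFinitePresentation G.t := by
    haveI := isIso_i G
    rw [t_eq_i_comp G, MorphismProperty.cancel_left_of_respectsIso (P := @LocallyOfFinitePresentation)]
    infer_instance
  haveI : IsAffine G.R := isAffine_of_isAffineHom G.s
  have hsurj : ∀ v : V.toScheme, ∃ u, (G.toQuot ∣_ V) u = v := fun v => by
    obtain ⟨u, hu⟩ := (Groth.Agent.S1878.result S G).1.1 v.1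
    have hu' : u ∈ G.toQuot ⁻¹ᵁ V := (show G.toQuot u ∈ V from hu ▸ v.2)
    exact ⟨⟨u, hu'⟩, Subtype.ext (by rw [morphismRestrict_base_coe]; exact hu)⟩
  have hbase : ∀ v, h₁ v = h₂ v := fun v => by
    obtain ⟨u, rfl⟩ := hsurj v
    rw [← Scheme.Hom.comp_apply, h, Scheme.Hom.comp_apply]
  refine Scheme.hom_ext_of_forall h₁ h₂ fun v => ?_
  obtain ⟨_, ⟨(Z' : Z.Opens), hZ', rfl⟩, hvZ, -⟩ :=
    Z.isBasis_affineOpens.exists_subset_of_mem_open (Set.mem_univ (h₁ v)) isOpen_univ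
  obtain ⟨_, ⟨_, ⟨c, rfl⟩, rfl⟩, hvc, hcV⟩ :=
    (isBasis_basicOpen (Spec (CommRingCat.of G.invariants))).exists_subset_of_mem_open
      (show v.1 ∈ ((V.ι ''ᵁ (h₁ ⁻¹ᵁ Z') : (Spec (CommRingCat.of G.invariants)).Opens) : Set _) from
        ⟨v, hvZ, rfl⟩) (Opens.isOpen _)
  let D := Scheme.basicOpen (Spec (CommRingCat.of G.invariants)) c
  haveI := (isAffine_basic G c).1
  haveI : IsAffine Z'.toScheme := hZ'
  have hDV : D ≤ V := fun w hw => Scheme.Opens.ι_image_le (U := V) _ (hcV hw)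
  let i : D.toScheme ⟶ V.toScheme := (Spec (CommRingCat.of G.invariants)).homOfLE hDV
  have hr : ∀ w : D.toScheme, (i ≫ h₁) w ∈ Z' := fun w => by
    obtain ⟨v', hv', hvw⟩ := hcV w.2
    have : i w = v' := V.ι.isOpenEmbedding.injective (by
      rw [← Scheme.Hom.comp_apply, Scheme.homOfLE_ι]
      exact hvw.symm)
    rw [Scheme.Hom.comp_apply, this]
    exact hv'
  have hr1 : Set.range (i ≫ h₁) ⊆ Set.range Z'.ι := by
    rintro _ ⟨w, rfl⟩; rw [Scheme.Opens.range_ι]; exact hr w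
  have hr2 : Set.range (i ≫ h₂) ⊆ Set.range Z'.ι := by
    rintro _ ⟨w, rfl⟩; rw [Scheme.Opens.range_ι, Scheme.Hom.comp_apply, ← hbase]; exact hr w
  refine ⟨V.ι ⁻¹ᵁ D, hvc, ?_⟩
  let e : (V.ι ⁻¹ᵁ D).toScheme ⟶ D.toScheme := V.ι.resLE D (V.ι ⁻¹ᵁ D) le_rfl
  have he : e ≫ i = (V.ι ⁻¹ᵁ D).ι := by
    rw [← cancel_mono V.ι, Category.assoc, Scheme.homOfLE_ι, Scheme.Hom.resLE_comp_ι]
  rw [← he, Category.assoc, Category.assoc]
  congr 1
  rw [← IsOpenImmersion.lift_fac Z'.ι (i ≫ h₁) hr1, ← IsOpenImmersion.lift_fac Z'.ι (i ≫ h₂) hr2]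
  congr 1
  rw [← cancel_mono Z'.toScheme.toSpecΓ, Scheme.toSpecΓ_naturality, Scheme.toSpecΓ_naturality]
  congr 2
  have hcomm : (G.toQuot ∣_ D) ≫ i = G.U.homOfLE ((Opens.map G.toQuot.base).map (homOfLE hDV)).le ≫
      (G.toQuot ∣_ V) := by
    rw [← cancel_mono V.ι, Category.assoc, Category.assoc, Scheme.homOfLE_ι, morphismRestrict_ι,
      morphismRestrict_ι, Scheme.homOfLE_ι_assoc]
  have heq : (G.toQuot ∣_ D) ≫ IsOpenImmersion.lift Z'.ι (i ≫ h₁) hr1 =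
      (G.toQuot ∣_ D) ≫ IsOpenImmersion.lift Z'.ι (i ≫ h₂) hr2 := by
    rw [← cancel_mono Z'.ι, Category.assoc, Category.assoc, IsOpenImmersion.lift_fac,
      IsOpenImmersion.lift_fac, reassoc_of% hcomm, reassoc_of% hcomm, h]
  have := congrArg Scheme.Hom.appTop heq
  rw [Scheme.Hom.comp_appTop, Scheme.Hom.comp_appTop] at this
  refine CommRingCat.hom_ext (RingHom.ext fun z => ?_)
  exact (basic_sections G c D rfl).1 (congrArg (fun k => k.hom z) this)

set_option maxHeartbeats 1000000 in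
theorem desc_exists (V : (Spec (CommRingCat.of G.invariants)).Opens) {Z : Scheme.{u}}
    (g : (G.toQuot ⁻¹ᵁ V).toScheme ⟶ Z) (hg : Inv G (G.toQuot ⁻¹ᵁ V).ι g) :
    ∃ h : V.toScheme ⟶ Z, (G.toQuot ∣_ V) ≫ h = g := by
  haveI : IsFinite G.t := by
    haveI := isIso_i G
    rw [t_eq_i_comp G, MorphismProperty.cancel_left_of_respectsIso (P := @IsFinite)]
    infer_instance
  haveI : Flat G.t := by
    haveI := isIso_i G
    rw [t_eq_i_comp G, MorphismProperty.cancel_left_of_respectsIso (P := @Flat)]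
    infer_instance
  haveI : LocallyOfFinitePresentation G.t := by
    haveI := isIso_i G
    rw [t_eq_i_comp G, MorphismProperty.cancel_left_of_respectsIso (P := @LocallyOfFinitePresentation)]
    infer_instance
  haveI : IsAffine G.R := isAffine_of_isAffineHom G.s
  haveI := closed_toQuot G
  let Y := Spec (CommRingCat.of G.invariants)
  let X := G.toQuot ⁻¹ᵁ V
  -- local solutions
  have hloc : ∀ v : V.toScheme, ∃ c : Γ(Y, ⊤), v.1 ∈ Y.basicOpen c ∧ ∃ hDV : Y.basicOpen c ≤ V,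
      ∃ h : (Y.basicOpen c).toScheme ⟶ Z, (G.toQuot ∣_ Y.basicOpen c) ≫ h =
        G.U.homOfLE ((Opens.map G.toQuot.base).map (homOfLE hDV)).le ≫ g := by
    intro v
    obtain ⟨u, hu⟩ := (Groth.Agent.S1878.result S G).1.1 v.1
    have huX : u ∈ X := (show G.toQuot u ∈ V from hu ▸ v.2)
    obtain ⟨_, ⟨(Z' : Z.Opens), hZ', rfl⟩, huZ, -⟩ :=
      Z.isBasis_affineOpens.exists_subset_of_mem_open (Set.mem_univ (g ⟨u, huX⟩)) isOpen_univ
    let O : G.U.Opens := X.ι ''ᵁ (g ⁻¹ᵁ Z')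
    let N : Y.Opens := ⟨(G.toQuot '' (O : Set G.U)ᶜ)ᶜ,
      (G.toQuot.isClosedMap _ O.isOpen.isClosed_compl).isOpen_compl⟩
    have hvN : v.1 ∈ N := by
      rintro ⟨u', hu', hu''⟩
      apply hu'
      obtain ⟨r, hrt, hrs⟩ := ((Groth.Agent.S1878.result S G).1.2 u' u).1 (hu''.trans hu.symm)
      have hu'X : u' ∈ X := (show G.toQuot u' ∈ V from hu'' ▸ v.2)
      refine ⟨⟨u', hu'X⟩, ?_, rfl⟩
      let k := G.R.residueField r
      let pt : Spec k ⟶ G.R := G.R.fromSpecResidueField r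
      have hra : Set.range (pt ≫ G.t) ⊆ Set.range X.ι := by
        rintro _ ⟨w, rfl⟩
        rw [Scheme.Opens.range_ι, Scheme.Hom.comp_apply, Scheme.fromSpecResidueField_apply, hrt]
        exact hu'X
      have hrb : Set.range (pt ≫ G.s) ⊆ Set.range X.ι := by
        rintro _ ⟨w, rfl⟩
        rw [Scheme.Opens.range_ι, Scheme.Hom.comp_apply, Scheme.fromSpecResidueField_apply, hrs]
        exact huX
      have hh := hg (IsOpenImmersion.lift X.ι (pt ≫ G.t) hra) (IsOpenImmersion.lift X.ι (pt ≫ G.s) hrb) pt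
        (IsOpenImmersion.lift_fac _ _ _).symm (IsOpenImmersion.lift_fac _ _ _).symm
      let w : Spec k := IsLocalRing.closedPoint k
      have ha : IsOpenImmersion.lift X.ι (pt ≫ G.t) hra w = ⟨u', hu'X⟩ := X.ι.isOpenEmbedding.injective (by
        rw [← Scheme.Hom.comp_apply, IsOpenImmersion.lift_fac, Scheme.Hom.comp_apply,
          Scheme.fromSpecResidueField_apply]
        exact hrt)
      have hb : IsOpenImmersion.lift X.ι (pt ≫ G.s) hrb w = ⟨u, huX⟩ := X.ι.isOpenEmbedding.injective (by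
        rw [← Scheme.Hom.comp_apply, IsOpenImmersion.lift_fac, Scheme.Hom.comp_apply,
          Scheme.fromSpecResidueField_apply]
        exact hrs)
      show g ⟨u', hu'X⟩ ∈ Z'
      rw [← ha, ← Scheme.Hom.comp_apply, hh, Scheme.Hom.comp_apply, hb]
      exact huZ
    obtain ⟨_, ⟨_, ⟨c, rfl⟩, rfl⟩, hvc, hcN⟩ := (isBasis_basicOpen Y).exists_subset_of_mem_open
      (show v.1 ∈ ((N ⊓ V : Y.Opens) : Set Y) from ⟨hvN, v.2⟩) (Opens.isOpen _)
    have hDV : Y.basicOpen c ≤ V := fun w hw => (hcN hw).2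
    refine ⟨c, hvc, hDV, ?_⟩
    let D := Y.basicOpen c
    let i : (G.toQuot ⁻¹ᵁ D).toScheme ⟶ X.toScheme :=
      G.U.homOfLE ((Opens.map G.toQuot.base).map (homOfLE hDV)).le
    haveI := (isAffine_basic G c).1
    haveI := (isAffine_basic G c).2
    haveI : IsAffine Z'.toScheme := hZ'
    have hr : Set.range (i ≫ g) ⊆ Set.range Z'.ι := by
      rintro _ ⟨w, rfl⟩
      rw [Scheme.Opens.range_ι]
      have hwO : w.1 ∈ O := by
        by_contra hn
        exact (hcN w.2).1 ⟨w.1, hn, rfl⟩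
      obtain ⟨w', hw', hww⟩ := hwO
      have : i w = w' := X.ι.isOpenEmbedding.injective (by
        rw [← Scheme.Hom.comp_apply, Scheme.homOfLE_ι]
        exact hww.symm)
      rw [Scheme.Hom.comp_apply, this]
      exact hw'
    let g' := IsOpenImmersion.lift Z'.ι (i ≫ g) hr
    have hinv : Inv G (G.toQuot ⁻¹ᵁ D).ι g' := fun T a b r h1 h2 => by
      rw [← cancel_mono Z'.ι, Category.assoc, Category.assoc, IsOpenImmersion.lift_fac,
        ← Category.assoc, ← Category.assoc]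
      exact hg (a ≫ i) (b ≫ i) r (by rw [h1, Category.assoc, Scheme.homOfLE_ι])
        (by rw [h2, Category.assoc, Scheme.homOfLE_ι])
    obtain ⟨hinj, hex⟩ := basic_sections G c D rfl
    have hψ : ∀ z : Γ(Z'.toScheme, ⊤), ∃ y, (G.toQuot ∣_ D).appTop.hom y = g'.appTop.hom z := fun z =>
      hex _ fun T a b r h1 h2 => by
        have := congrArg (fun k : T ⟶ Z'.toScheme => k.appTop.hom z) (hinv a b r h1 h2)
        simpa using this
    obtain ⟨ψ', hψ⟩ := exists_ringHom_factor _ hinj _ hψ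
    refine ⟨D.toScheme.toSpecΓ ≫ Spec.map (CommRingCat.ofHom ψ') ≫ inv Z'.toScheme.toSpecΓ ≫ Z'.ι, ?_⟩
    rw [← IsOpenImmersion.lift_fac Z'.ι (i ≫ g) hr, ← Category.assoc, ← Category.assoc, ← Category.assoc,
      cancel_mono, ← cancel_mono Z'.toScheme.toSpecΓ]
    simp only [Category.assoc, IsIso.inv_hom_id, Category.comp_id]
    rw [Scheme.toSpecΓ_naturality_assoc, Scheme.toSpecΓ_naturality, ← Spec.map_comp]
    congr 2
    exact CommRingCat.hom_ext (RingHom.ext hψ)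
  choose c hc hDV h hh using hloc
  -- glue
  have key : ∀ (v v' : V.toScheme) (O : Y.Opens) (hO : O ≤ Y.basicOpen (c v)) (hO' : O ≤ Y.basicOpen (c v')),
      Y.homOfLE hO ≫ h v = Y.homOfLE hO' ≫ h v' := by
    intro v v' O hO hO'
    apply desc_ext G O
    have hm : ∀ (v : V.toScheme) (hO : O ≤ Y.basicOpen (c v)),
        (G.toQuot ∣_ O) ≫ Y.homOfLE hO =
          G.U.homOfLE ((Opens.map G.toQuot.base).map (homOfLE hO)).le ≫ (G.toQuot ∣_ Y.basicOpen (c v)) := by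
      intro v hO
      rw [← cancel_mono (Y.basicOpen (c v)).ι, Category.assoc, Category.assoc, Scheme.homOfLE_ι,
        morphismRestrict_ι, morphismRestrict_ι, Scheme.homOfLE_ι_assoc]
    rw [reassoc_of% hm v hO, reassoc_of% hm v' hO', hh, hh, Scheme.homOfLE_homOfLE_assoc,
      Scheme.homOfLE_homOfLE_assoc]
  let U : V.toScheme → V.toScheme.Opens := fun v => V.ι ⁻¹ᵁ Y.basicOpen (c v)
  let e : ∀ v : V.toScheme, (U v).toScheme ⟶ (Y.basicOpen (c v)).toScheme := fun v =>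
    V.ι.resLE _ _ le_rfl
  obtain ⟨H, hH⟩ := exists_glue U (fun v => ⟨v, hc v⟩) (fun v => e v ≫ h v) (fun v v' => by
    let O : Y.Opens := Y.basicOpen (c v) ⊓ Y.basicOpen (c v')
    let q : (U v ⊓ U v').toScheme ⟶ O.toScheme := V.ι.resLE O _ le_rfl
    have h1 : V.toScheme.homOfLE inf_le_left ≫ e v = q ≫ Y.homOfLE inf_le_left := by
      rw [Scheme.Hom.map_resLE, Scheme.Hom.resLE_map]
    have h2 : V.toScheme.homOfLE inf_le_right ≫ e v' = q ≫ Y.homOfLE inf_le_right := by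
      rw [Scheme.Hom.map_resLE, Scheme.Hom.resLE_map]
    show V.toScheme.homOfLE inf_le_left ≫ e v ≫ h v = V.toScheme.homOfLE inf_le_right ≫ e v' ≫ h v'
    rw [reassoc_of% h1, reassoc_of% h2, key v v' O inf_le_left inf_le_right])
  refine ⟨H, Scheme.hom_ext_of_forall _ _ fun u => ?_⟩
  let v : V.toScheme := (G.toQuot ∣_ V) u
  refine ⟨(G.toQuot ∣_ V) ⁻¹ᵁ U v, hc v, ?_⟩
  let m : ((G.toQuot ∣_ V) ⁻¹ᵁ U v).toScheme ⟶ (U v).toScheme :=
    (G.toQuot ∣_ V).resLE (U v) _ le_rfl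
  have hm : m ≫ (U v).ι = ((G.toQuot ∣_ V) ⁻¹ᵁ U v).ι ≫ (G.toQuot ∣_ V) :=
    Scheme.Hom.resLE_comp_ι _ _
  rw [← reassoc_of% hm, hH]
  let j : ((G.toQuot ∣_ V) ⁻¹ᵁ U v).toScheme ⟶ (G.toQuot ⁻¹ᵁ Y.basicOpen (c v)).toScheme :=
    X.ι.resLE (G.toQuot ⁻¹ᵁ Y.basicOpen (c v)) _ (le_of_eq (by
      show (G.toQuot ∣_ V) ⁻¹ᵁ (V.ι ⁻¹ᵁ Y.basicOpen (c v)) = _
      rw [← Scheme.Hom.comp_preimage, morphismRestrict_ι, Scheme.Hom.comp_preimage]))
  have hj : m ≫ e v = j ≫ (G.toQuot ∣_ Y.basicOpen (c v)) := by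
    have he : e v ≫ (Y.basicOpen (c v)).ι = (U v).ι ≫ V.ι := Scheme.Hom.resLE_comp_ι _ _
    have hjι : j ≫ (G.toQuot ⁻¹ᵁ Y.basicOpen (c v)).ι = ((G.toQuot ∣_ V) ⁻¹ᵁ U v).ι ≫ X.ι :=
      Scheme.Hom.resLE_comp_ι _ _
    rw [← cancel_mono (Y.basicOpen (c v)).ι, Category.assoc, Category.assoc, he, reassoc_of% hm,
      morphismRestrict_ι, morphismRestrict_ι, reassoc_of% hjι]
  rw [reassoc_of% hj, hh, ← Category.assoc]
  congr 1
  simp only [j]
  rw [← cancel_mono X.ι, Category.assoc, Scheme.homOfLE_ι, Scheme.Hom.resLE_comp_ι]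

end Affine

end Groth.Agent.L24.Quot
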