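import Groth.Agent.L24.Quot.Idem

/-!
# Dual-basis presentations of finite projective algebras and their characteristic polynomials
-/

universe u

namespace Groth.Agent.L24.Quot

open Polynomial Matrix

variable {A B : Type*} [CommRing A] [CommRing B]

/-- A finite dual basis of `B` viewed as an `A`-module through `s`. -/
structure Pres (s : A →+* B) (n : ℕ) where
  b : Fin n → B
  φ : Fin n → B →+ A
  φ_mul : ∀ i a x, φ i (s a * x) = a * φ i x
  sum : ∀ x, ∑ i, s (φ i x) * b i = x

namespace Pres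

variable {s : A →+* B} {n : ℕ} (P : Pres s n)

/-- The matrix of multiplication by `y`. -/
def mat (y : B) : Matrix (Fin n) (Fin n) A := Matrix.of fun i j => P.φ i (y * P.b j)

theorem mat_apply (y : B) (i j : Fin n) : P.mat y i j = P.φ i (y * P.b j) := rfl

theorem mat_add (x y : B) : P.mat (x + y) = P.mat x + P.mat y := by
  ext i j; simp [mat_apply, add_mul]

theorem mat_sub (x y : B) : P.mat (x - y) = P.mat x - P.mat y := by
  ext i j; simp [mat_apply, sub_mul]

theorem mat_zero : P.mat 0 = 0 := by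
  ext i j; simp [mat_apply]

theorem mat_smul (a : A) (y : B) : P.mat (s a * y) = a • P.mat y := by
  ext i j; simp [mat_apply, mul_assoc, P.φ_mul]

theorem mat_mul (x y : B) : P.mat x * P.mat y = P.mat (x * y) := by
  ext i j
  simp only [Matrix.mul_apply, mat_apply]
  calc ∑ k, P.φ i (x * P.b k) * P.φ k (y * P.b j)
      = ∑ k, P.φ i (x * (s (P.φ k (y * P.b j)) * P.b k)) := by
        refine Finset.sum_congr rfl fun k _ => ?_
        rw [mul_left_comm x, P.φ_mul, mul_comm]
    _ = P.φ i (x * (y * P.b j)) := by rw [← map_sum, ← Finset.mul_sum, P.sum]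
    _ = P.φ i (x * y * P.b j) := by rw [mul_assoc]

theorem mat_one_idem : P.mat 1 * P.mat 1 = P.mat 1 := by rw [P.mat_mul, mul_one]

theorem eq_zero_of_mat_eq_zero {y : B} (h : P.mat y = 0) : y = 0 := by
  have hb : ∀ j, y * P.b j = 0 := fun j => by
    rw [← P.sum (y * P.b j)]
    refine Finset.sum_eq_zero fun i _ => ?_
    rw [← P.mat_apply, h, Matrix.zero_apply, map_zero, zero_mul]
  rw [← mul_one y, ← P.sum 1, Finset.mul_sum]
  refine Finset.sum_eq_zero fun i _ => ?_
  rw [mul_left_comm, hb, mul_zero]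

theorem mat_eval₂ (y : B) (p : A[X]) : P.mat (p.eval₂ s y) = aeval (P.mat y) p * P.mat 1 := by
  induction p using Polynomial.induction_on' with
  | add p q hp hq => rw [eval₂_add, P.mat_add, hp, hq, map_add, add_mul]
  | monomial k a =>
    rw [eval₂_monomial, P.mat_smul, aeval_monomial, ← Algebra.smul_def, smul_mul_assoc]
    congr 1
    induction k with
    | zero => rw [pow_zero, pow_zero, one_mul]
    | succ k ih => rw [pow_succ', pow_succ', mul_assoc, ← ih, P.mat_mul]

/-- The characteristic polynomial of multiplication by `y` on `B` (padded to degree `n`). -/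
noncomputable def chr (y : B) : A[X] := (P.mat y).charpoly

theorem eval₂_chr_self (y : B) : (P.chr y).eval₂ s y = 0 :=
  P.eq_zero_of_mat_eq_zero (by rw [P.mat_eval₂, chr, Matrix.aeval_self_charpoly, zero_mul])

theorem chr_monic (y : B) : (P.chr y).Monic := Matrix.charpoly_monic _

theorem exists_factor {k : ℕ} (Q : Pres s k) (y : B) :
    ∃ (L : Matrix (Fin n) (Fin k) A) (L' : Matrix (Fin k) (Fin n) A),
      P.mat y = L * L' ∧ Q.mat y = L' * L := by
  refine ⟨Matrix.of fun i k => P.φ i (Q.b k), Matrix.of fun k j => Q.φ k (y * P.b j), ?_, ?_⟩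
  · ext i j
    simp only [Matrix.mul_apply, Matrix.of_apply, mat_apply]
    conv_lhs => rw [← Q.sum (y * P.b j), map_sum]
    refine Finset.sum_congr rfl fun k _ => ?_
    rw [P.φ_mul, mul_comm]
  · ext k l
    simp only [Matrix.mul_apply, Matrix.of_apply, mat_apply]
    conv_lhs => rw [← P.sum (Q.b l), Finset.mul_sum, map_sum]
    refine Finset.sum_congr rfl fun j _ => ?_
    rw [mul_left_comm, Q.φ_mul, mul_comm]

theorem chr_indep (Q : Pres s n) (y : B) : P.chr y = Q.chr y := by
  obtain ⟨L, L', h1, h2⟩ := P.exists_factor Q y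
  rw [chr, chr, h1, h2, Matrix.charpoly_mul_comm]

/-- The norm of `y`. -/
noncomputable def nrm (y : B) : A := det (1 + P.mat (y - 1))

theorem nrm_one : P.nrm 1 = 1 := by rw [nrm, sub_self, P.mat_zero, add_zero, det_one]

theorem nrm_mul (x y : B) : P.nrm (x * y) = P.nrm x * P.nrm y := by
  rw [nrm, nrm, nrm, ← det_mul, add_mul, one_mul, mul_add, mul_one, P.mat_mul, ← add_assoc,
    add_assoc (1 : Matrix (Fin n) (Fin n) A), add_assoc (1 : Matrix (Fin n) (Fin n) A),
    ← P.mat_add, ← P.mat_add]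
  congr 3
  ring

theorem nrm_eq_eval_chr (y : B) : P.nrm y = (-1) ^ n * (P.chr (y - 1)).eval (-1) := by
  rw [chr, Matrix.eval_charpoly, nrm]
  have h : Matrix.scalar (Fin n) (-1 : A) - P.mat (y - 1) = -(1 + P.mat (y - 1)) := by
    rw [map_neg, map_one]; abel
  rw [h, det_neg, Fintype.card_fin, ← mul_assoc, ← mul_pow, neg_mul_neg, one_mul, one_pow, one_mul]

theorem dvd_nrm (y : B) : y ∣ s (P.nrm y) := by
  rw [P.nrm_eq_eval_chr, map_mul]
  refine Dvd.dvd.mul_left ?_ _
  have h : s ((P.chr (y - 1)).eval (-1)) = (P.chr (y - 1)).eval₂ s (-1) := by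
    rw [eval₂_at_apply (p := P.chr (y - 1)) s (-1) |>.symm, map_neg, map_one]
  have h0 := P.eval₂_chr_self (y - 1)
  rw [← eval_map] at h0
  rw [h, ← eval_map]
  have h1 := sub_dvd_eval_sub (y - 1) (-1) ((P.chr (y - 1)).map s)
  rw [h0, zero_sub, dvd_neg, sub_neg_eq_add, sub_add_cancel] at h1
  exact h1

/-- The idempotent of `A` cutting out the locus where `B` has rank `r`. -/
noncomputable def rkE (r : ℕ) : A := rk (P.mat 1) r

theorem chr_smul_one (f : A) {r : ℕ} (hr : r ≤ n) :
    C (P.rkE r) * P.chr (s f) = C (P.rkE r) * ((X - C f) ^ r * X ^ (n - r)) := by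
  have h : P.chr (s f) = dd (P.mat 1) C (X - C f) X := by
    rw [chr, show P.mat (s f) = f • P.mat 1 by rw [← P.mat_smul, mul_one], Matrix.charpoly, dd]
    congr 1
    refine Matrix.ext fun i j => ?_
    rcases eq_or_ne i j with rfl | hij
    · simp [charmatrix_apply_eq]; ring
    · simp [charmatrix_apply_ne _ _ _ hij, Matrix.one_apply_ne hij]; ring
  rw [h]
  simpa [rkE] using rk_mul_dd C P.mat_one_idem (r := r) (by simpa using hr) (X - C f) X

theorem rkE_indep (Q : Pres s n) (r : ℕ) : P.rkE r = Q.rkE r := by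
  obtain ⟨L, L', h1, h2⟩ := P.exists_factor Q 1
  have key : ∀ L L' : Matrix (Fin n) (Fin n) A,
      rkPoly (L * L') = det (1 + (((X : A[X]) - 1) • L.map C) * L'.map C) := by
    intro L L'
    rw [rkPoly, dd, one_smul, Matrix.smul_mul, ← Matrix.map_mul, sub_smul, one_smul]
    congr 1; abel
  rw [rkE, rkE, rk, rk, h1, h2, key, key, det_one_add_mul_comm, Matrix.mul_smul, ← Matrix.smul_mul]

theorem nrm_indep {k : ℕ} (Q : Pres s k) (y : B) : P.nrm y = Q.nrm y := by
  obtain ⟨L, L', h1, h2⟩ := P.exists_factor Q (y - 1)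
  rw [nrm, nrm, h1, h2, det_one_add_mul_comm]

theorem sum_rkE : ∑ r ∈ Finset.range (n + 1), P.rkE r = 1 := by
  simpa [rkE] using sum_rk (E := P.mat 1)

theorem map_rkE_zero : s (P.rkE 0) = 0 := by
  have h : ∀ i x, P.rkE 0 * P.φ i x = 0 := by
    intro i x
    have h1 := congrFun (rk_zero_mul_apply P.mat_one_idem fun k => P.φ k x) i
    have h2 : (P.mat 1).mulVec (fun k => P.φ k x) i = P.φ i x := by
      simp only [Matrix.mulVec, dotProduct, mat_apply, one_mul]
      conv_rhs => rw [← P.sum x, map_sum]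
      refine Finset.sum_congr rfl fun k _ => ?_
      rw [P.φ_mul, mul_comm]
    simpa [rkE, h2] using h1
  rw [← mul_one (s (P.rkE 0)), ← P.sum 1, Finset.mul_sum]
  refine Finset.sum_eq_zero fun i _ => ?_
  rw [← mul_assoc, ← map_mul, h, map_zero, zero_mul]

section Compat

variable {A' B' : Type*} [CommRing A'] [CommRing B'] {s' : A' →+* B'} (P' : Pres s' n)
  (f : A →+* A') (q : B →+* B')

/-- `P'` is obtained from `P` by base change along `(f, q)`. -/
structure Compat : Prop where
  b_eq : ∀ i, P'.b i = q (P.b i)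
  φ_eq : ∀ i x, P'.φ i (q x) = f (P.φ i x)

variable {P P' f q}

theorem Compat.mat_map (h : Compat P P' f q) (y : B) : P'.mat (q y) = (P.mat y).map f := by
  ext i j
  rw [Matrix.map_apply, mat_apply, mat_apply, h.b_eq, ← map_mul, h.φ_eq]

theorem Compat.chr_map (h : Compat P P' f q) (y : B) : P'.chr (q y) = (P.chr y).map f := by
  rw [chr, chr, h.mat_map, Matrix.charpoly_map]

theorem Compat.nrm_map (h : Compat P P' f q) (y : B) : P'.nrm (q y) = f (P.nrm y) := by
  rw [nrm, nrm, RingHom.map_det, ← map_one q, ← map_sub, h.mat_map]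
  congr 1
  rw [RingHom.mapMatrix_apply, Matrix.map_add _ (map_add f), Matrix.map_one _ f.map_zero f.map_one]

theorem Compat.rkE_map (h : Compat P P' f q) (r : ℕ) : P'.rkE r = f (P.rkE r) := by
  rw [rkE, rkE, ← map_one q, h.mat_map, rk_map]

end Compat

end Pres

end Groth.Agent.L24.Quot
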